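/-
The derived tensor product is computed by K-flat complexes.
-/
import Groth.Agent.L10.KFlat.Resolution
import Groth.Agent.L00.LeftDeriv
import Groth.Prelude.Def_DTen2

set_option autoImplicit false
set_option backward.defeqAttrib.useBackward true
set_option backward.isDefEq.respectTransparency false
set_option backward.isDefEq.respectTransparency.types false

universe u

open CategoryTheory CategoryTheory.Limits MonoidalCategory

attribute [local instance] HasDerivedCategory.standard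

namespace Groth.L10.DTen

open Groth.L10.KFlat

/-- the counit of any left derived functor is an isomorphism where the resolution map is inverted -/
theorem isIso_counit {C D H : Type*} [Category C] [Category D] [Category H]
    (F : C ⥤ H) (W : MorphismProperty C) (L : C ⥤ D) [L.IsLocalization W]
    (R : C ⥤ C) (r : R ⟶ 𝟭 C) (hr : ∀ X, W (r.app X)) (hF : W.IsInvertedBy (R ⋙ F))
    (hrr : ∀ X, IsIso (F.map (r.app (R.obj X))))
    (G : D ⥤ H) (e : L ⋙ G ⟶ F) [G.IsRightKanExtension e] (X : C) (hX : IsIso (F.map (r.app X))) :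
    IsIso (e.app X) := by
  haveI := Groth.L00.LeftDeriv.isRightKanExtension F W L R r hr hF hrr
  let φ := G.rightKanExtensionUnique e (Groth.L00.LeftDeriv.LF F W L R hF) (Groth.L00.LeftDeriv.α F W L R r hF)
  have hφ : φ.hom.app (L.obj X) ≫ (Groth.L00.LeftDeriv.α F W L R r hF).app X = e.app X := by
    simp [φ, Functor.rightKanExtensionUnique, Functor.rightKanExtensionUniqueOfIso]
  haveI : IsIso ((Groth.L00.LeftDeriv.α F W L R r hF).app X) := by
    rw [Groth.L00.LeftDeriv.α_app]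
    infer_instance
  rw [← hφ]
  infer_instance

variable {A : Type u} [CommRing A]

theorem isIso_Q_tensor_left {K K' : DRing.Cx A} (f : K ⟶ K') [QuasiIso f] {L : DRing.Cx A}
    (hL : DRing.IsKFlat A L) : IsIso (DerivedCategory.Q.map (f ▷ L)) :=
  isIso_Q_map _ (quasiIso_whiskerRight f hL)

theorem isIso_Q_tensor_right {K : DRing.Cx A} (hK : DRing.IsKFlat A K) {L L' : DRing.Cx A} (g : L ⟶ L')
    [QuasiIso g] : IsIso (DerivedCategory.Q.map (K ◁ g)) := by
  haveI := quasiIso_whiskerRight g hK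
  have hn : (𝟙 K ⊗ₘ g) ≫ (DTen.braidCx K L').hom = (DTen.braidCx K L).hom ≫ (g ⊗ₘ 𝟙 K) :=
    DTen.braidCx_naturality (𝟙 K) g
  rw [MonoidalCategory.id_tensorHom, MonoidalCategory.tensorHom_id] at hn
  haveI : QuasiIso ((K ◁ g) ≫ (DTen.braidCx K L').hom) := by rw [hn]; infer_instance
  exact isIso_Q_map _ (quasiIso_of_comp_right _ (DTen.braidCx K L').hom)

theorem isIso_Q_tensor_right' {L L' : DRing.Cx A} (hL : DRing.IsKFlat A L) (hL' : DRing.IsKFlat A L')
    (g : L ⟶ L') [QuasiIso g] (K : DRing.Cx A) : IsIso (DerivedCategory.Q.map (K ◁ g)) :=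
  isIso_Q_map _ (quasiIso_whiskerLeft g hL hL' K)

variable (A)

theorem inverted₂ : (DTen.qis₂ A).IsInvertedBy ((R A).prod (R A) ⋙ DTen.tensor₂ A) := by
  rintro ⟨K, L⟩ ⟨K', L'⟩ ⟨f, g⟩ ⟨hf, hg⟩
  haveI : QuasiIso f := (HomologicalComplex.mem_quasiIso_iff _).1 hf
  haveI : QuasiIso g := (HomologicalComplex.mem_quasiIso_iff _).1 hg
  haveI := quasiIso_R_map f
  haveI := quasiIso_R_map g
  haveI := isIso_Q_tensor_left ((R A).map f) (isKFlat_R (A := A) L)
  haveI := isIso_Q_tensor_right' (isKFlat_R (A := A) L) (isKFlat_R L') ((R A).map g) ((R A).obj K')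
  change IsIso (DerivedCategory.Q.map (((R A).map f ▷ _) ≫ (_ ◁ (R A).map g)))
  rw [Functor.map_comp]
  infer_instance

theorem isIso_tensor₂_map {K' K : DRing.Cx A} {L' L : DRing.Cx A} (f : K' ⟶ K) (g : L' ⟶ L)
    [QuasiIso f] [QuasiIso g] (hL' : DRing.IsKFlat A L') (h : DRing.IsKFlat A L ∨ DRing.IsKFlat A K) :
    IsIso ((DTen.tensor₂ A).map (Prod.mkHom f g)) := by
  haveI := isIso_Q_tensor_left f hL'
  haveI : IsIso (DerivedCategory.Q.map (K ◁ g)) :=
    h.elim (fun hL => isIso_Q_tensor_right' hL' hL g K) (fun hK => isIso_Q_tensor_right hK g)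
  change IsIso (DerivedCategory.Q.map ((f ▷ L') ≫ (K ◁ g)))
  rw [Functor.map_comp]
  infer_instance

/-- K-flat complexes compute the derived tensor product -/
theorem isIso_ε [DTen.HasLTen A] (K L : DRing.Cx A) (h : DRing.IsKFlat A K ∨ DRing.IsKFlat A L) :
    IsIso ((DTen.ε A).app (K, L)) := by
  haveI : (DTen.LTen₂ A).IsRightKanExtension (DTen.ε A) :=
    Functor.IsLeftDerivedFunctor.isRightKanExtension (DTen.LTen₂ A) (DTen.ε A) (DTen.qis₂ A)
  refine isIso_counit (DTen.tensor₂ A) (DTen.qis₂ A) (DTen.QQ A) ((R A).prod (R A)) ((r A).prod (r A))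
    (fun X => ⟨(HomologicalComplex.mem_quasiIso_iff _).2 (quasiIso_r X.1),
      (HomologicalComplex.mem_quasiIso_iff _).2 (quasiIso_r X.2)⟩)
    (inverted₂ A) (fun X => ?_) (DTen.LTen₂ A) (DTen.ε A) (K, L) ?_
  · exact isIso_tensor₂_map A ((r A).app ((R A).obj X.1)) ((r A).app ((R A).obj X.2)) (isKFlat_R _)
      (Or.inl (isKFlat_R _))
  · exact isIso_tensor₂_map A ((r A).app K) ((r A).app L) (isKFlat_R _) h.symm

theorem inverted₃ : (DTen.qis₃ A).IsInvertedBy ((R A).prod ((R A).prod (R A)) ⋙ DTen.tensor₃ A) := by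
  rintro ⟨K, L, M⟩ ⟨K', L', M'⟩ ⟨f, g, h⟩ ⟨hf, hg, hh⟩
  haveI : QuasiIso f := (HomologicalComplex.mem_quasiIso_iff _).1 hf
  haveI : QuasiIso g := (HomologicalComplex.mem_quasiIso_iff _).1 hg
  haveI : QuasiIso h := (HomologicalComplex.mem_quasiIso_iff _).1 hh
  haveI := quasiIso_R_map f
  haveI := quasiIso_R_map g
  haveI := quasiIso_R_map h
  have e : QuasiIso (((R A).map g ▷ _) ≫ ((R A).obj L' ◁ (R A).map h)) := by
    haveI := quasiIso_whiskerRight ((R A).map g) (isKFlat_R (A := A) M)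
    haveI := quasiIso_whiskerLeft ((R A).map h) (isKFlat_R (A := A) M) (isKFlat_R M') ((R A).obj L')
    infer_instance
  exact @isIso_tensor₂_map A _ _ _ _ _ ((R A).map f) (((R A).map g ▷ _) ≫ ((R A).obj L' ◁ (R A).map h)) _ e
    (isKFlat_tensor (isKFlat_R L) (isKFlat_R M)) (Or.inr (isKFlat_R K'))

/-- K-flat complexes compute the derived triple tensor product -/
theorem isIso_ε₃ [DTen.HasLTen₃ A] (K L M : DRing.Cx A) (hK : DRing.IsKFlat A K)
    (hL : DRing.IsKFlat A L) (hM : DRing.IsKFlat A M) : IsIso ((DTen.ε₃ A).app (K, (L, M))) := by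
  have key : ∀ K L M : DRing.Cx A, DRing.IsKFlat A K → DRing.IsKFlat A L → DRing.IsKFlat A M →
      IsIso ((DTen.tensor₃ A).map (((r A).prod ((r A).prod (r A))).app (K, (L, M)))) := fun K L M hK hL hM => by
    have e : QuasiIso (((r A).app L ▷ (R A).obj M) ≫ (L ◁ (r A).app M)) := by
      haveI := quasiIso_whiskerRight ((r A).app L) (isKFlat_R (A := A) M)
      haveI := quasiIso_whiskerLeft ((r A).app M) (isKFlat_R (A := A) M) hM L
      infer_instance
    exact @isIso_tensor₂_map A _ _ _ _ _ ((r A).app K) (((r A).app L ▷ (R A).obj M) ≫ (L ◁ (r A).app M)) _ e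
      (isKFlat_tensor (isKFlat_R L) (isKFlat_R M)) (Or.inr hK)
  haveI : (DTen.LTen₃ A).IsRightKanExtension (DTen.ε₃ A) :=
    Functor.IsLeftDerivedFunctor.isRightKanExtension (DTen.LTen₃ A) (DTen.ε₃ A) (DTen.qis₃ A)
  exact isIso_counit (DTen.tensor₃ A) (DTen.qis₃ A) (DTen.QQQ A) ((R A).prod ((R A).prod (R A)))
    ((r A).prod ((r A).prod (r A)))
    (fun X => ⟨(HomologicalComplex.mem_quasiIso_iff _).2 (quasiIso_r X.1),
      (HomologicalComplex.mem_quasiIso_iff _).2 (quasiIso_r X.2.1),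
      (HomologicalComplex.mem_quasiIso_iff _).2 (quasiIso_r X.2.2)⟩)
    (inverted₃ A) (fun X => key _ _ _ (isKFlat_R _) (isKFlat_R _) (isKFlat_R _))
    (DTen.LTen₃ A) (DTen.ε₃ A) (K, (L, M)) (key K L M hK hL hM)

variable {A}

/-- a natural transformation is an isomorphism once it is one on isomorphic objects -/
theorem isIso_app_of_iso {C D : Type*} [Category C] [Category D] {F G : C ⥤ D} (τ : F ⟶ G) {X Y : C}
    (e : X ≅ Y) [IsIso (τ.app X)] : IsIso (τ.app Y) := by
  have h : τ.app Y = F.map e.inv ≫ τ.app X ≫ G.map e.hom := by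
    rw [← τ.naturality, ← Functor.map_comp_assoc, Iso.inv_hom_id, CategoryTheory.Functor.map_id, Category.id_comp]
  rw [h]
  infer_instance

/-- the symmetry is an isomorphism -/
theorem isIso_symm [DTen.HasLTen A] (X : Dual.D A × Dual.D A) : IsIso ((DTen.symm A).app X) := by
  obtain ⟨K, hK, ⟨a⟩⟩ := exists_rep X.1
  obtain ⟨L, hL, ⟨b⟩⟩ := exists_rep X.2
  haveI := isIso_ε A K L (Or.inl hK)
  haveI := isIso_ε A L K (Or.inl hL)
  haveI : IsIso ((DTen.symm A).app (DerivedCategory.Q.obj K, DerivedCategory.Q.obj L) ≫ (DTen.ε A).app (K, L)) := by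
    rw [DTen.symm_fac]; infer_instance
  haveI := IsIso.of_isIso_comp_right
    ((DTen.symm A).app (DerivedCategory.Q.obj K, DerivedCategory.Q.obj L)) ((DTen.ε A).app (K, L))
  exact isIso_app_of_iso (DTen.symm A) (X := (DerivedCategory.Q.obj K, DerivedCategory.Q.obj L))
    (Iso.prod a b : (DerivedCategory.Q.obj K, DerivedCategory.Q.obj L) ≅ (X.1, X.2))

/-- the associativity legs are isomorphisms -/
theorem isIso_assoc [DTen.HasLTen A] [DTen.HasLTen₃ A] (X : Dual.D A × (Dual.D A × Dual.D A)) :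
    IsIso ((DTen.assocL A).app X) ∧ IsIso ((DTen.assocR A).app X) := by
  obtain ⟨K, hK, ⟨a⟩⟩ := exists_rep X.1
  obtain ⟨L, hL, ⟨b⟩⟩ := exists_rep X.2.1
  obtain ⟨M, hM, ⟨c⟩⟩ := exists_rep X.2.2
  let X₀ : DRing.Cx A × (DRing.Cx A × DRing.Cx A) := (K, (L, M))
  let e : (DTen.QQQ A).obj X₀ ≅ X := Iso.prod a (Iso.prod b c)
  haveI := isIso_ε₃ A K L M hK hL hM
  haveI := isIso_ε A K L (Or.inl hK)
  haveI := isIso_ε A L M (Or.inl hL)
  haveI := isIso_ε A (K ⊗ L) M (Or.inr hM)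
  haveI := isIso_ε A K (L ⊗ M) (Or.inl hK)
  have hm : ∀ {Y Y' Z Z' : Dual.D A} (f : Y ⟶ Y') (g : Z ⟶ Z'), IsIso f → IsIso g →
      IsIso ((DTen.LTen₂ A).map (Prod.mkHom f g)) := fun f g _ _ =>
    haveI : IsIso (Prod.mkHom f g) := (isIso_prod_iff _ _).2 ⟨inferInstance, inferInstance⟩
    inferInstance
  haveI : IsIso ((DTen.βR A).app X₀) := by
    haveI := hm (𝟙 (DerivedCategory.Q.obj K)) ((DTen.ε A).app (L, M)) inferInstance inferInstance
    exact inferInstanceAs (IsIso ((DTen.LTen₂ A).map (Prod.mkHom (𝟙 (DerivedCategory.Q.obj K))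
      ((DTen.ε A).app (L, M))) ≫ (DTen.ε A).app (K, L ⊗ M)))
  haveI : IsIso ((DTen.βL A).app X₀) := by
    haveI := hm ((DTen.ε A).app (K, L)) (𝟙 (DerivedCategory.Q.obj M)) inferInstance inferInstance
    exact inferInstanceAs (IsIso ((DTen.LTen₂ A).map (Prod.mkHom ((DTen.ε A).app (K, L))
      (𝟙 (DerivedCategory.Q.obj M))) ≫ (DTen.ε A).app (K ⊗ L, M) ≫ DerivedCategory.Q.map (α_ K L M).hom))
  haveI : IsIso ((DTen.assocL A).app ((DTen.QQQ A).obj X₀) ≫ (DTen.ε₃ A).app X₀) := by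
    rw [DTen.assocL_fac]; infer_instance
  haveI : IsIso ((DTen.assocR A).app ((DTen.QQQ A).obj X₀) ≫ (DTen.ε₃ A).app X₀) := by
    rw [DTen.assocR_fac]; infer_instance
  haveI := IsIso.of_isIso_comp_right ((DTen.assocL A).app ((DTen.QQQ A).obj X₀)) ((DTen.ε₃ A).app X₀)
  haveI := IsIso.of_isIso_comp_right ((DTen.assocR A).app ((DTen.QQQ A).obj X₀)) ((DTen.ε₃ A).app X₀)
  exact ⟨isIso_app_of_iso _ e, isIso_app_of_iso _ e⟩

end Groth.L10.DTen
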