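/-
Derived base change is computed by K-flat complexes; comparisons of mixed derived tensor products.
-/
import Groth.Agent.L10.DTen.Compute
import Groth.Agent.L00.KFlatPull
import Groth.Prelude.Def_DTen6

set_option autoImplicit false
set_option backward.defeqAttrib.useBackward true
set_option backward.isDefEq.respectTransparency false
set_option backward.isDefEq.respectTransparency.types false

universe u

open CategoryTheory CategoryTheory.Limits MonoidalCategory

attribute [local instance] HasDerivedCategory.standard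

namespace Groth.L10.DTen

open Groth.L10.KFlat

variable {R A : Type u} [CommRing R] [CommRing A] (φ : R →+* A)

/-- extension of scalars keeps K-flatness -/
theorem isKFlat_ext {K : DRing.Cx R} (hK : DRing.IsKFlat R K) :
    DRing.IsKFlat A ((_root_.DTen.extCx φ).obj K) := by
  intro L hL i
  have h : Groth.L00.KFlatAlg.KF K := fun M hM j =>
    (hK M hM j).of_iso ((HomologicalComplex.homologyFunctor _ _ j).mapIso (_root_.DTen.braidCx K M))
  exact (Groth.L00.KFlatAlg.KF_extend φ h L hL i).of_iso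
    ((HomologicalComplex.homologyFunctor _ _ i).mapIso (_root_.DTen.braidCx L _))

/-- extension of scalars keeps acyclicity of K-flat complexes -/
theorem acyclic_ext {K : DRing.Cx R} (hK : DRing.IsKFlat R K) (hacyc : ∀ i, IsZero (K.homology i)) (i : ℤ) :
    IsZero (((_root_.DTen.extCx φ).obj K).homology i) := by
  let L : DRing.Cx A := 𝟙_ (DRing.Cx A)
  have h1 : IsZero ((K ⊗ (_root_.DTen.resCx φ).obj L).homology i) :=
    (acyclic_tensor K hK hacyc _ i).of_iso
      ((HomologicalComplex.homologyFunctor _ _ i).mapIso (_root_.DTen.braidCx K _))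
  have h2 : IsZero ((((_root_.DTen.extCx φ).obj K) ⊗ L).homology i) :=
    (Groth.L00.KFlatAlg.acyclic_restrictScalars φ _ i).1
      (h1.of_iso ((HomologicalComplex.homologyFunctor _ _ i).mapIso
        (Groth.L00.BaseChangeTensor.tensorIso φ K L)).symm)
  exact h2.of_iso ((HomologicalComplex.homologyFunctor _ _ i).mapIso (ρ_ ((_root_.DTen.extCx φ).obj K))).symm

/-- extension of scalars keeps quasi-isomorphisms between K-flat complexes -/
theorem quasiIso_ext {P Q : DRing.Cx R} (f : P ⟶ Q) [QuasiIso f] (hP : DRing.IsKFlat R P)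
    (hQ : DRing.IsKFlat R Q) : QuasiIso ((_root_.DTen.extCx φ).map f) :=
  Groth.L00.Cell.quasiIso_of_acyclic_cone _ fun i =>
    (acyclic_ext φ (Groth.L10.KFlat.cone f hP hQ) (Groth.L00.ConeTransfer.acyclic_cone f) i).of_iso
      ((HomologicalComplex.homologyFunctor _ _ i).mapIso
        (CochainComplex.mappingCone.mapHomologicalComplexIso f (ModuleCat.extendScalars φ))).symm

theorem isIso_extQ_map {P Q : DRing.Cx R} (f : P ⟶ Q) [QuasiIso f] (hP : DRing.IsKFlat R P)
    (hQ : DRing.IsKFlat R Q) : IsIso (DerivedCategory.Q.map ((_root_.DTen.extCx φ).map f)) :=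
  isIso_Q_map _ (quasiIso_ext φ f hP hQ)

theorem invertedExt : (_root_.DTen.qis R).IsInvertedBy (Groth.L10.KFlat.R R ⋙ _root_.DTen.extCx φ ⋙ DerivedCategory.Q) := by
  intro K K' f hf
  haveI : QuasiIso f := (HomologicalComplex.mem_quasiIso_iff _).1 hf
  haveI := quasiIso_R_map f
  exact isIso_extQ_map φ _ (isKFlat_R K) (isKFlat_R K')

/-- the candidate derived base change -/
noncomputable def LB : Dual.D R ⥤ Dual.D A :=
  Groth.L00.LeftDeriv.LF (_root_.DTen.extCx φ ⋙ DerivedCategory.Q) (_root_.DTen.qis R) DerivedCategory.Q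
    (Groth.L10.KFlat.R R) (invertedExt φ)

/-- its value on the resolution -/
noncomputable def facB : DerivedCategory.Q ⋙ LB φ ≅ Groth.L10.KFlat.R R ⋙ _root_.DTen.extCx φ ⋙ DerivedCategory.Q :=
  Localization.fac _ (invertedExt φ) DerivedCategory.Q

/-- its counit -/
noncomputable def αB : DerivedCategory.Q ⋙ LB φ ⟶ _root_.DTen.extCx φ ⋙ DerivedCategory.Q :=
  Groth.L00.LeftDeriv.α (_root_.DTen.extCx φ ⋙ DerivedCategory.Q) (_root_.DTen.qis R) DerivedCategory.Q
    (Groth.L10.KFlat.R R) (r R) (invertedExt φ)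

theorem αB_app (K : DRing.Cx R) :
    (αB φ).app K = (facB φ).hom.app K ≫ DerivedCategory.Q.map ((_root_.DTen.extCx φ).map ((r R).app K)) :=
  Groth.L00.LeftDeriv.α_app _ _ _ _ _ _ K

theorem isIso_αB {K : DRing.Cx R} (hK : DRing.IsKFlat R K) : IsIso ((αB φ).app K) := by
  rw [αB_app]
  haveI := isIso_extQ_map φ ((r R).app K) (isKFlat_R K) hK
  infer_instance

/-- counit of termwise extension and restriction -/
noncomputable def counitCx : _root_.DTen.resCx φ ⋙ _root_.DTen.extCx φ ⟶ 𝟭 (DRing.Cx A) where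
  app Y :=
    { f := fun i => (ModuleCat.extendRestrictScalarsAdj.{u, u, u} φ).counit.app (Y.X i)
      comm' := fun i j _ => by
        have h := (ModuleCat.extendRestrictScalarsAdj.{u, u, u} φ).counit.naturality (Y.d i j)
        dsimp at h ⊢
        exact h.symm }
  naturality Y Y' f := HomologicalComplex.hom_ext _ _ fun i => by
    have h := (ModuleCat.extendRestrictScalarsAdj.{u, u, u} φ).counit.naturality (f.f i)
    dsimp at h ⊢
    exact h

@[reassoc]
theorem triangle₁ (K : DRing.Cx R) :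
    (_root_.DTen.extCx φ).map ((_root_.DTen.unitCx φ).app K) ≫ (counitCx φ).app ((_root_.DTen.extCx φ).obj K) = 𝟙 _ :=
  HomologicalComplex.hom_ext _ _ fun i =>
    (ModuleCat.extendRestrictScalarsAdj.{u, u, u} φ).left_triangle_components (K.X i)

@[reassoc]
theorem triangle₂ (Y : DRing.Cx A) :
    (_root_.DTen.unitCx φ).app ((_root_.DTen.resCx φ).obj Y) ≫ (_root_.DTen.resCx φ).map ((counitCx φ).app Y) = 𝟙 _ :=
  HomologicalComplex.hom_ext _ _ fun i =>
    (ModuleCat.extendRestrictScalarsAdj.{u, u, u} φ).right_triangle_components (Y.X i)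

variable [_root_.DTen.HasLBase φ]

/-- the unit on complexes -/
noncomputable def η₀ : (DerivedCategory.Q : DRing.Cx R ⥤ Dual.D R) ⟶
    DerivedCategory.Q ⋙ LB φ ⋙ DRing.restrictD φ :=
  haveI : ∀ K, IsIso ((Functor.whiskerRight (r R) (DerivedCategory.Q : DRing.Cx R ⥤ Dual.D R)).app K) := fun K =>
    isIso_Q_map _ inferInstance
  haveI := NatIso.isIso_of_isIso_app (Functor.whiskerRight (r R) (DerivedCategory.Q : DRing.Cx R ⥤ Dual.D R))
  (Functor.leftUnitor _).inv ≫ inv (Functor.whiskerRight (r R) (DerivedCategory.Q : DRing.Cx R ⥤ Dual.D R)) ≫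
    Functor.whiskerLeft (Groth.L10.KFlat.R R) (_root_.DTen.baseγ φ) ≫
    (Functor.associator _ _ _).inv ≫ Functor.whiskerRight (facB φ).inv (DRing.restrictD φ) ≫
    (Functor.associator _ _ _).hom

theorem η₀_fac (K : DRing.Cx R) :
    (η₀ φ).app K ≫ (DRing.restrictD φ).map ((αB φ).app K) = (_root_.DTen.baseγ φ).app K := by
  have hn := (_root_.DTen.baseγ φ).naturality ((r R).app K)
  haveI : IsIso (DerivedCategory.Q.map ((r R).app K)) := isIso_Q_map _ inferInstance
  dsimp [η₀] at hn ⊢
  rw [αB_app, Functor.map_comp]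
  simp only [Category.id_comp, Category.comp_id, Category.assoc, NatIso.isIso_inv_app, Functor.whiskerRight_app]
  rw [← Functor.map_comp_assoc, Iso.inv_hom_id_app]
  erw [CategoryTheory.Functor.map_id, Category.id_comp]
  rw [IsIso.inv_comp_eq]
  exact hn.symm

/-- the unit -/
noncomputable def ηB : 𝟭 (Dual.D R) ⟶ LB φ ⋙ DRing.restrictD φ :=
  Localization.liftNatTrans DerivedCategory.Q (_root_.DTen.qis R) DerivedCategory.Q
    (DerivedCategory.Q ⋙ LB φ ⋙ DRing.restrictD φ) _ _ (η₀ φ)

theorem ηB_app (K : DRing.Cx R) : (ηB φ).app (DerivedCategory.Q.obj K) = (η₀ φ).app K := by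
  simp [ηB, Localization.Lifting.iso]

/-- the counit on complexes -/
noncomputable def ε₀ : DerivedCategory.Q ⋙ DRing.restrictD φ ⋙ LB φ ⟶
    (DerivedCategory.Q : DRing.Cx A ⥤ Dual.D A) :=
  (Functor.associator _ _ _).inv ≫ Functor.whiskerRight (_root_.DTen.resFactors φ).hom (LB φ) ≫
    (Functor.associator _ _ _).hom ≫ Functor.whiskerLeft (_root_.DTen.resCx φ) (αB φ) ≫
    (Functor.associator _ _ _).inv ≫ Functor.whiskerRight (counitCx φ) DerivedCategory.Q ≫
    (Functor.leftUnitor _).hom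

/-- the counit -/
noncomputable def εB : DRing.restrictD φ ⋙ LB φ ⟶ 𝟭 (Dual.D A) :=
  Localization.liftNatTrans DerivedCategory.Q (_root_.DTen.qis A)
    (DerivedCategory.Q ⋙ DRing.restrictD φ ⋙ LB φ) DerivedCategory.Q _ _ (ε₀ φ)

theorem εB_app (Y : DRing.Cx A) :
    (εB φ).app (DerivedCategory.Q.obj Y) = (LB φ).map ((_root_.DTen.resFactors φ).hom.app Y) ≫
      (αB φ).app ((_root_.DTen.resCx φ).obj Y) ≫ DerivedCategory.Q.map ((counitCx φ).app Y) := by
  simp [εB, ε₀, Localization.Lifting.iso]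

/-- derived base change -/
noncomputable def adjB : LB φ ⊣ DRing.restrictD φ where
  unit := ηB φ
  counit := εB φ
  left_triangle_components X := by
    obtain ⟨K, hK, ⟨e⟩⟩ := exists_rep X
    haveI := isIso_αB φ hK
    suffices h : (LB φ).map ((ηB φ).app (DerivedCategory.Q.obj K)) ≫
        (εB φ).app ((LB φ).obj (DerivedCategory.Q.obj K)) = 𝟙 _ by
      have n1 := (ηB φ).naturality e.hom
      have n2 := (εB φ).naturality ((LB φ).map e.hom)
      dsimp at n1 n2 ⊢
      rw [← cancel_epi ((LB φ).map e.hom), ← Functor.map_comp_assoc, n1, Functor.map_comp_assoc, n2,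
        ← Category.assoc, h]
      exact (Category.id_comp _).trans (Category.comp_id _).symm
    rw [← cancel_mono ((αB φ).app K), Category.id_comp, Category.assoc, ηB_app]
    have n3 := (εB φ).naturality ((αB φ).app K)
    dsimp at n3
    rw [← n3, ← Functor.map_comp_assoc]
    refine (congrArg (fun t => (LB φ).map t ≫ _) (η₀_fac φ K)).trans ?_
    erw [εB_app]
    dsimp [_root_.DTen.baseγ]
    rw [← Functor.map_comp_assoc, Category.assoc, Iso.inv_hom_id_app]
    erw [Category.comp_id]
    have n4 := (αB φ).naturality ((_root_.DTen.unitCx φ).app K)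
    dsimp at n4
    rw [reassoc_of% n4, ← Functor.map_comp, triangle₁]
    erw [CategoryTheory.Functor.map_id, Category.comp_id]
  right_triangle_components Y := by
    obtain ⟨Z, -, ⟨e⟩⟩ := exists_rep Y
    suffices h : (ηB φ).app ((DRing.restrictD φ).obj (DerivedCategory.Q.obj Z)) ≫
        (DRing.restrictD φ).map ((εB φ).app (DerivedCategory.Q.obj Z)) = 𝟙 _ by
      have n1 := (ηB φ).naturality ((DRing.restrictD φ).map e.hom)
      have n2 := (εB φ).naturality e.hom
      dsimp at n1 n2 ⊢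
      rw [← cancel_epi ((DRing.restrictD φ).map e.hom), reassoc_of% n1, ← Functor.map_comp, n2, Functor.map_comp,
        ← Category.assoc, h]
      exact (Category.id_comp _).trans (Category.comp_id _).symm
    rw [← cancel_epi ((_root_.DTen.resFactors φ).inv.app Z)]
    refine Eq.trans ?_ (Category.comp_id _).symm
    have n3 := (ηB φ).naturality ((_root_.DTen.resFactors φ).inv.app Z)
    dsimp at n3
    rw [reassoc_of% n3, ← Functor.map_comp]
    erw [ηB_app]
    rw [εB_app, ← Functor.map_comp_assoc, Iso.inv_hom_id_app]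
    erw [CategoryTheory.Functor.map_id, Category.id_comp]
    rw [Functor.map_comp]
    erw [reassoc_of% (η₀_fac φ ((_root_.DTen.resCx φ).obj Z))]
    have n4 := (_root_.DTen.resFactors φ).inv.naturality ((counitCx φ).app Z)
    dsimp [_root_.DTen.baseγ] at n4 ⊢
    rw [Category.assoc, ← n4, ← Functor.map_comp_assoc, triangle₂]
    erw [CategoryTheory.Functor.map_id, Category.id_comp]

/-- K-flat complexes compute derived base change -/
theorem isIso_baseCmp {K : DRing.Cx R} (hK : DRing.IsKFlat R K) : IsIso ((_root_.DTen.baseCmp φ).app K) := by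
  haveI := isIso_αB φ hK
  let e := (adjB φ).leftAdjointUniq (_root_.DTen.baseAdj φ)
  have h : e.hom.app (DerivedCategory.Q.obj K) ≫ (_root_.DTen.baseCmp φ).app K = (αB φ).app K := by
    apply ((adjB φ).homEquiv _ _).injective
    rw [Adjunction.homEquiv_unit, Adjunction.homEquiv_unit, Functor.map_comp, ← Category.assoc,
      Adjunction.unit_leftAdjointUniq_hom_app, _root_.DTen.baseCmp_fac]
    exact ((ηB_app φ K).symm ▸ η₀_fac φ K).symm
  haveI : IsIso (e.hom.app (DerivedCategory.Q.obj K) ≫ (_root_.DTen.baseCmp φ).app K) := by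
    rw [h]; infer_instance
  exact IsIso.of_isIso_comp_left (e.hom.app (DerivedCategory.Q.obj K)) _

section Mixed

omit [_root_.DTen.HasLBase φ]

theorem quasiIso_mix {K K' : DRing.Cx R} {N N' : DRing.Cx A} (f : K ⟶ K') (g : N ⟶ N')
    [QuasiIso f] [QuasiIso g] (hK : DRing.IsKFlat R K) (hK' : DRing.IsKFlat R K')
    (hN : DRing.IsKFlat A N) : QuasiIso ((_root_.DTen.mixT φ).map (Prod.mkHom f g)) := by
  haveI := quasiIso_ext φ f hK hK'
  haveI := quasiIso_whiskerRight ((_root_.DTen.extCx φ).map f) hN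
  haveI : QuasiIso ((_root_.DTen.extCx φ).obj K' ◁ g) :=
    (DerivedCategory.isIso_Q_map_iff_quasiIso _ _).1 (isIso_Q_tensor_right (isKFlat_ext φ hK') g)
  exact (inferInstance : QuasiIso (((_root_.DTen.extCx φ).map f ▷ N) ≫ ((_root_.DTen.extCx φ).obj K' ◁ g)))

theorem invertedMix : (_root_.DTen.qisMix R A).IsInvertedBy
    ((Groth.L10.KFlat.R R).prod (Groth.L10.KFlat.R A) ⋙ _root_.DTen.mix₂ φ) := by
  rintro ⟨K, N⟩ ⟨K', N'⟩ ⟨f, g⟩ ⟨hf, hg⟩
  haveI : QuasiIso f := (HomologicalComplex.mem_quasiIso_iff _).1 hf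
  haveI : QuasiIso g := (HomologicalComplex.mem_quasiIso_iff _).1 hg
  haveI := quasiIso_R_map f
  haveI := quasiIso_R_map g
  exact isIso_Q_map _ (quasiIso_mix φ _ _ (isKFlat_R K) (isKFlat_R K') (isKFlat_R N))

/-- K-flat pairs compute the mixed derived tensor product -/
theorem isIso_εMix [_root_.DTen.HasLTenMix φ] {K : DRing.Cx R} (hK : DRing.IsKFlat R K) (N : DRing.Cx A) :
    IsIso ((_root_.DTen.εMix φ).app (K, N)) := by
  haveI : (_root_.DTen.LTenMix φ).IsRightKanExtension (_root_.DTen.εMix φ) :=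
    Functor.IsLeftDerivedFunctor.isRightKanExtension (_root_.DTen.LTenMix φ) (_root_.DTen.εMix φ)
      (_root_.DTen.qisMix R A)
  exact isIso_counit (_root_.DTen.mix₂ φ) (_root_.DTen.qisMix R A) (_root_.DTen.QMix R A)
    ((Groth.L10.KFlat.R R).prod (Groth.L10.KFlat.R A)) ((r R).prod (r A))
    (fun X => ⟨(HomologicalComplex.mem_quasiIso_iff _).2 (quasiIso_r X.1),
      (HomologicalComplex.mem_quasiIso_iff _).2 (quasiIso_r X.2)⟩)
    (invertedMix φ)
    (fun X => isIso_Q_map _ (quasiIso_mix φ ((r R).app ((Groth.L10.KFlat.R R).obj X.1))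
      ((r A).app ((Groth.L10.KFlat.R A).obj X.2)) (isKFlat_R _) (isKFlat_R _) (isKFlat_R _)))
    (_root_.DTen.LTenMix φ) (_root_.DTen.εMix φ) (K, N)
    (isIso_Q_map _ (quasiIso_mix φ ((r R).app K) ((r A).app N) (isKFlat_R _) hK (isKFlat_R _)))

theorem isKFlat_mix {K : DRing.Cx R} (hK : DRing.IsKFlat R K) {N : DRing.Cx A} (hN : DRing.IsKFlat A N) :
    DRing.IsKFlat A ((_root_.DTen.mixT φ).obj (K, N)) :=
  Groth.L10.KFlat.isKFlat_tensor (isKFlat_ext φ hK) hN

end Mixed

theorem isIso_LTen_map {B : Type u} [CommRing B] [_root_.DTen.HasLTen B] {X X' Y Y' : Dual.D B}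
    (f : X ⟶ X') (g : Y ⟶ Y') (_ : IsIso f) (_ : IsIso g) :
    IsIso ((_root_.DTen.LTen₂ B).map (Prod.mkHom f g)) :=
  haveI : IsIso (Prod.mkHom f g) := (isIso_prod_iff _ _).2 ⟨inferInstance, inferInstance⟩
  inferInstance

/-- the comparison of mixed and iterated derived tensor products -/
theorem isIso_split [_root_.DTen.HasLTen A] [_root_.DTen.HasLTenMix φ] (X : Dual.D R × Dual.D A) :
    IsIso ((_root_.DTen.split φ).app X) := by
  obtain ⟨K, hK, ⟨a⟩⟩ := exists_rep X.1
  obtain ⟨N, hN, ⟨b⟩⟩ := exists_rep X.2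
  let X₀ : DRing.Cx R × DRing.Cx A := (K, N)
  haveI := isIso_εMix φ hK N
  haveI := isIso_ε A ((_root_.DTen.extCx φ).obj K) N (Or.inr hN)
  haveI : IsIso ((_root_.DTen.splitβ φ).app X₀) := by
    haveI := isIso_LTen_map ((_root_.DTen.baseCmp φ).app K) (𝟙 (DerivedCategory.Q.obj N)) (isIso_baseCmp φ hK)
      inferInstance
    exact inferInstanceAs (IsIso ((_root_.DTen.LTen₂ A).map (Prod.mkHom ((_root_.DTen.baseCmp φ).app K)
      (𝟙 (DerivedCategory.Q.obj N))) ≫ (_root_.DTen.ε A).app ((_root_.DTen.extCx φ).obj K, N)))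
  haveI : IsIso ((_root_.DTen.split φ).app ((_root_.DTen.QMix R A).obj X₀) ≫ (_root_.DTen.εMix φ).app X₀) := by
    rw [_root_.DTen.split_fac]; infer_instance
  haveI := IsIso.of_isIso_comp_right ((_root_.DTen.split φ).app ((_root_.DTen.QMix R A).obj X₀))
    ((_root_.DTen.εMix φ).app X₀)
  let e : (_root_.DTen.QMix R A).obj X₀ ≅ X := Iso.prod a b
  exact isIso_app_of_iso _ e

end Groth.L10.DTen
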