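/-
Exactness of the derived tensor product in each variable.
-/
import Groth.Agent.L10.DTen.Compute
import Groth.Prelude.Def_DTen3
import Mathlib.Algebra.Homology.DerivedCategory.ShortExact
import Mathlib.CategoryTheory.Localization.CalculusOfFractions.Preadditive
import Mathlib.Algebra.FiveLemma

set_option autoImplicit false
set_option backward.defeqAttrib.useBackward true
set_option backward.isDefEq.respectTransparency false
set_option backward.isDefEq.respectTransparency.types false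

universe u

open CategoryTheory CategoryTheory.Limits CategoryTheory.Pretriangulated MonoidalCategory

attribute [local instance] HasDerivedCategory.standard

namespace Groth.L10.DTen

open Groth.L10.KFlat

variable {A : Type u} [CommRing A]

/-- `f`, `g` behave like two consecutive maps of a distinguished triangle -/
def ExTri {X₁ X₂ X₃ : Dual.D A} (f : X₁ ⟶ X₂) (g : X₂ ⟶ X₃) : Prop :=
  ∃ (C : Dual.D A) (i : C ⟶ X₂) (δ : X₃ ⟶ C⟦(1 : ℤ)⟧) (φ : X₁ ⟶ C) (ψ : C ⟶ X₁),
    Triangle.mk i g δ ∈ distTriang _ ∧ φ ≫ i = f ∧ ψ ≫ f = i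

namespace ExTri

theorem of_triangle (T : Triangle (Dual.D A)) (hT : T ∈ distTriang _) : ExTri T.mor₁ T.mor₂ :=
  ⟨T.obj₁, T.mor₁, T.mor₃, 𝟙 _, 𝟙 _, hT, Category.id_comp _, Category.id_comp _⟩

variable {X₁ X₂ X₃ : Dual.D A} {f : X₁ ⟶ X₂} {g : X₂ ⟶ X₃}

theorem zero (h : ExTri f g) : f ≫ g = 0 := by
  obtain ⟨C, i, δ, φ, ψ, hT, hf, -⟩ := h
  rw [← hf, Category.assoc]
  exact (congrArg (φ ≫ ·) (comp_distTriang_mor_zero₁₂ _ hT)).trans comp_zero

theorem exact (h : ExTri f g) {Y : Dual.D A} (k : Y ⟶ X₂) (hk : k ≫ g = 0) : ∃ l, l ≫ f = k := by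
  obtain ⟨C, i, δ, φ, ψ, hT, -, hψ⟩ := h
  obtain ⟨l, hl⟩ := Triangle.coyoneda_exact₂ _ hT k hk
  exact ⟨l ≫ ψ, by rw [Category.assoc, hψ]; exact hl.symm⟩

theorem coexact (h : ExTri f g) {Y : Dual.D A} (k : X₂ ⟶ Y) (hk : f ≫ k = 0) : ∃ l, g ≫ l = k := by
  obtain ⟨C, i, δ, φ, ψ, hT, -, hψ⟩ := h
  obtain ⟨l, hl⟩ := Triangle.yoneda_exact₂ _ hT k
    (show i ≫ k = 0 by rw [← hψ, Category.assoc, hk, comp_zero])
  exact ⟨l, hl.symm⟩

theorem mk' (h0 : f ≫ g = 0) (hex : ∀ {Y : Dual.D A} (k : Y ⟶ X₂), k ≫ g = 0 → ∃ l, l ≫ f = k) :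
    ExTri f g := by
  obtain ⟨C, i, δ, hT⟩ := distinguished_cocone_triangle₁ g
  obtain ⟨φ, hφ⟩ := Triangle.coyoneda_exact₂ _ hT f h0
  obtain ⟨ψ, hψ⟩ := hex i (comp_distTriang_mor_zero₁₂ _ hT)
  exact ⟨C, i, δ, φ, ψ, hT, hφ.symm, hψ⟩

theorem of_iso {Y₁ Y₂ Y₃ : Dual.D A} {f' : Y₁ ⟶ Y₂} {g' : Y₂ ⟶ Y₃} (h : ExTri f g)
    (e₁ : X₁ ≅ Y₁) (e₂ : X₂ ≅ Y₂) (e₃ : X₃ ≅ Y₃) (hf : e₁.hom ≫ f' = f ≫ e₂.hom)
    (hg : e₂.hom ≫ g' = g ≫ e₃.hom) : ExTri f' g' := by
  refine mk' ?_ fun {Y} k hk => ?_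
  · rw [← cancel_epi e₁.hom, ← Category.assoc, hf, Category.assoc, hg, ← Category.assoc, h.zero, zero_comp,
      comp_zero]
  · obtain ⟨l, hl⟩ := h.exact (k ≫ e₂.inv) (by
      rw [← cancel_mono e₃.hom, Category.assoc, Category.assoc, ← hg, Iso.inv_hom_id_assoc, hk, zero_comp])
    exact ⟨l ≫ e₁.hom, by rw [Category.assoc, hf, ← Category.assoc, hl, Category.assoc, Iso.inv_hom_id,
      Category.comp_id]⟩

end ExTri

/-- a functor respecting exact pairs of consecutive maps -/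
def TriF (F : Dual.D A ⥤ Dual.D A) : Prop :=
  ∀ T : Triangle (Dual.D A), T ∈ distTriang _ → ExTri (F.map T.mor₁) (F.map T.mor₂)

theorem ExTri.map {F : Dual.D A ⥤ Dual.D A} (hF : TriF F) {X₁ X₂ X₃ : Dual.D A} {f : X₁ ⟶ X₂}
    {g : X₂ ⟶ X₃} (h : ExTri f g) : ExTri (F.map f) (F.map g) := by
  obtain ⟨C, i, δ, φ, ψ, hT, hf, hψ⟩ := h
  have hi : ExTri (F.map i) (F.map g) := hF _ hT
  obtain ⟨C', i', δ', φ', ψ', hT', hf', hψ'⟩ := hi
  exact ⟨C', i', δ', F.map φ ≫ φ', ψ' ≫ F.map ψ, hT',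
    by rw [Category.assoc, hf', ← Functor.map_comp, hf],
    by rw [Category.assoc, ← Functor.map_comp, hψ, hψ']⟩

theorem TriF.of_iso {F G : Dual.D A ⥤ Dual.D A} (e : F ≅ G) (hF : TriF F) : TriF G := fun T hT =>
  (hF T hT).of_iso (e.app _) (e.app _) (e.app _) (e.hom.naturality _).symm (e.hom.naturality _).symm

/-- functors induced by functors of complexes preserving degreewise split sequences -/
theorem triF_of_cx (F : Dual.D A ⥤ Dual.D A) (S : DRing.Cx A ⥤ DRing.Cx A) [S.Additive]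
    (hS : ∀ (SC : ShortComplex (DRing.Cx A)),
      (∀ q, (SC.map (HomologicalComplex.eval (ModuleCat.{u} A) (ComplexShape.up ℤ) q)).Splitting) →
        (SC.map S).ShortExact)
    (e : DerivedCategory.Q ⋙ F ≅ S ⋙ DerivedCategory.Q) : TriF F := by
  intro T hT
  obtain ⟨P, P', α, ⟨i⟩⟩ := (DerivedCategory.mem_distTriang_iff _).1 (inv_rot_of_distTriang _ hT)
  let Tc := (DerivedCategory.Q : DRing.Cx A ⥤ Dual.D A).mapTriangle.obj (CochainComplex.mappingCone.triangle α)
  let j : T ≅ Tc.rotate := (invRotCompRot.app T).symm ≪≫ (Pretriangulated.rotate (Dual.D A)).mapIso i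
  have h1 := hS _ (CochainComplex.mappingCone.triangleRotateShortComplexSplitting α)
  have h2 : ExTri (DerivedCategory.Q.map (S.map (CochainComplex.mappingCone.inr α)))
      (DerivedCategory.Q.map (S.map (CochainComplex.mappingCone.triangle α).mor₃)) :=
    ExTri.of_triangle _ (DerivedCategory.triangleOfSES_distinguished h1)
  have h3 : ExTri (F.map (DerivedCategory.Q.map (CochainComplex.mappingCone.inr α)))
      (F.map (DerivedCategory.Q.map (CochainComplex.mappingCone.triangle α).mor₃)) :=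
    h2.of_iso (e.app _).symm (e.app _).symm (e.app _).symm (e.inv.naturality _).symm (e.inv.naturality _).symm
  let s := ((DerivedCategory.Q : DRing.Cx A ⥤ Dual.D A).commShiftIso (1 : ℤ)).app P
  have h4 : ExTri (F.map Tc.rotate.mor₁) (F.map Tc.rotate.mor₂) :=
    h3.of_iso (Iso.refl _) (Iso.refl _) (F.mapIso s) (by simp [Tc]) (by
      simp only [Iso.refl_hom, Category.id_comp, Functor.mapIso_hom, ← Functor.map_comp]
      rfl)
  exact h4.of_iso (F.mapIso (Triangle.π₁.mapIso j.symm)) (F.mapIso (Triangle.π₂.mapIso j.symm))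
    (F.mapIso (Triangle.π₃.mapIso j.symm))
    (by simp only [Functor.mapIso_hom, ← Functor.map_comp]; exact congrArg F.map j.inv.comm₁.symm)
    (by simp only [Functor.mapIso_hom, ← Functor.map_comp]; exact congrArg F.map j.inv.comm₂.symm)

theorem additive_of_cx (F : Dual.D A ⥤ Dual.D A) (S : DRing.Cx A ⥤ DRing.Cx A) [S.Additive]
    (e : DerivedCategory.Q ⋙ F ≅ S ⋙ DerivedCategory.Q) : F.Additive := by
  haveI : (DerivedCategory.Q ⋙ F).Additive := Functor.additive_of_iso e.symm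
  haveI : (HomotopyCategory.quotient (ModuleCat.{u} A) (ComplexShape.up ℤ) ⋙ DerivedCategory.Qh ⋙ F).Additive :=
    Functor.additive_of_iso ((Functor.isoWhiskerRight (DerivedCategory.quotientCompQhIso _) F).symm ≪≫
      Functor.associator _ _ _)
  haveI : (DerivedCategory.Qh ⋙ F).Additive :=
    Functor.additive_of_full_essSurj_comp (HomotopyCategory.quotient (ModuleCat.{u} A) (ComplexShape.up ℤ)) _
  exact (Localization.functor_additive_iff DerivedCategory.Qh
    (HomotopyCategory.quasiIso (ModuleCat.{u} A) (ComplexShape.up ℤ)) F).2 inferInstance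

theorem shortExact_tensorLeft (E : DRing.Cx A) (SC : ShortComplex (DRing.Cx A))
    (σ : ∀ q, (SC.map (HomologicalComplex.eval (ModuleCat.{u} A) (ComplexShape.up ℤ) q)).Splitting) :
    (SC.map (T E)).ShortExact :=
  Groth.L00.BifExact.shortExact_T_of_splitting _ E SC σ

/-- `E ⊗ -` and `- ⊗ E` agree -/
noncomputable def flipIso (E : DRing.Cx A) : tensorRight E ≅ T E :=
  NatIso.ofComponents (fun L => _root_.DTen.braidCx L E) fun {L L'} f => by
    have h := _root_.DTen.braidCx_naturality f (𝟙 E)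
    rw [MonoidalCategory.tensorHom_id] at h
    exact h

variable [_root_.DTen.HasLTen A]

/-- `QK ⊗^L -` on complexes, `K` K-flat -/
noncomputable def leftIso (K : DRing.Cx A) (hK : DRing.IsKFlat A K) :
    DerivedCategory.Q ⋙ (_root_.DTen.LTen A).obj (DerivedCategory.Q.obj K) ≅ T K ⋙ DerivedCategory.Q :=
  haveI : ∀ L, IsIso ((_root_.DTen.εLeft A K).app L) := fun L => isIso_ε A K L (Or.inl hK)
  haveI := NatIso.isIso_of_isIso_app (_root_.DTen.εLeft A K)
  asIso (_root_.DTen.εLeft A K) ≪≫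
    Functor.isoWhiskerRight (NatIso.ofComponents (fun _ => Iso.refl _) fun g => by
      simp only [Iso.refl_hom, Category.id_comp, Category.comp_id]
      exact (MonoidalCategory.id_tensorHom K g).symm : tensorLeft K ≅ T K) DerivedCategory.Q

/-- `- ⊗^L QK` on complexes, `K` K-flat -/
noncomputable def rightIso (K : DRing.Cx A) (hK : DRing.IsKFlat A K) :
    DerivedCategory.Q ⋙ _root_.DTen.tensorRightD A (DerivedCategory.Q.obj K) ≅ T K ⋙ DerivedCategory.Q :=
  haveI : ∀ L, IsIso ((_root_.DTen.εRight A K).app L) := fun L => isIso_ε A L K (Or.inr hK)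
  haveI := NatIso.isIso_of_isIso_app (_root_.DTen.εRight A K)
  asIso (_root_.DTen.εRight A K) ≪≫ Functor.isoWhiskerRight (flipIso K) DerivedCategory.Q

theorem triF_left (X : Dual.D A) : TriF ((_root_.DTen.LTen A).obj X) := by
  obtain ⟨K, hK, ⟨e⟩⟩ := exists_rep X
  exact (triF_of_cx _ (T K) (shortExact_tensorLeft K) (leftIso K hK)).of_iso ((_root_.DTen.LTen A).mapIso e)

theorem triF_right (X : Dual.D A) : TriF (_root_.DTen.tensorRightD A X) := by
  obtain ⟨K, hK, ⟨e⟩⟩ := exists_rep X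
  exact (triF_of_cx _ (T K) (shortExact_tensorLeft K) (rightIso K hK)).of_iso
    ((_root_.DTen.LTen A).flip.mapIso e)

instance additive_left (X : Dual.D A) : ((_root_.DTen.LTen A).obj X).Additive := by
  obtain ⟨K, hK, ⟨e⟩⟩ := exists_rep X
  haveI := additive_of_cx _ (T K) (leftIso K hK)
  exact Functor.additive_of_iso ((_root_.DTen.LTen A).mapIso e)

instance additive_right (X : Dual.D A) : (_root_.DTen.tensorRightD A X).Additive := by
  obtain ⟨K, hK, ⟨e⟩⟩ := exists_rep X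
  haveI := additive_of_cx _ (T K) (rightIso K hK)
  exact Functor.additive_of_iso ((_root_.DTen.LTen A).flip.mapIso e)

omit [_root_.DTen.HasLTen A] in
/-- the five lemma along a distinguished triangle -/
theorem bijective_mid {F G : Dual.D A → Type (u + 1)} [∀ X, AddCommGroup (F X)] [∀ X, AddCommGroup (G X)]
    (Fmap : ∀ {X Y : Dual.D A}, (X ⟶ Y) → (F X →+ F Y)) (Gmap : ∀ {X Y : Dual.D A}, (X ⟶ Y) → (G X →+ G Y))
    (t : ∀ X, F X →+ G X) (nat : ∀ {X Y : Dual.D A} (f : X ⟶ Y) (a : F X), Gmap f (t X a) = t Y (Fmap f a))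
    (hF : ∀ T : Triangle (Dual.D A), T ∈ distTriang _ → Function.Exact (Fmap T.mor₁) (Fmap T.mor₂))
    (hG : ∀ T : Triangle (Dual.D A), T ∈ distTriang _ → Function.Exact (Gmap T.mor₁) (Gmap T.mor₂))
    (T : Triangle (Dual.D A)) (hT : T ∈ distTriang _)
    (h0 : Function.Bijective (t T.invRotate.obj₁)) (h1 : Function.Bijective (t T.obj₁))
    (h3 : Function.Bijective (t T.obj₃)) (h4 : Function.Bijective (t T.rotate.obj₃)) :
    Function.Bijective (t T.obj₂) :=
  AddMonoidHom.bijective_of_surjective_of_bijective_of_bijective_of_injective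
    (Fmap T.invRotate.mor₁) (Fmap T.mor₁) (Fmap T.mor₂) (Fmap T.mor₃)
    (Gmap T.invRotate.mor₁) (Gmap T.mor₁) (Gmap T.mor₂) (Gmap T.mor₃)
    (t _) (t _) (t _) (t _) (t _)
    (AddMonoidHom.ext fun a => nat _ a) (AddMonoidHom.ext fun a => nat _ a) (AddMonoidHom.ext fun a => nat _ a)
    (AddMonoidHom.ext fun a => nat _ a)
    (hF _ (inv_rot_of_distTriang _ hT)) (hF _ hT) (hF _ (rot_of_distTriang _ hT))
    (hG _ (inv_rot_of_distTriang _ hT)) (hG _ hT) (hG _ (rot_of_distTriang _ hT))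
    h0.2 h1 h3 h4.1

end Groth.L10.DTen
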