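/-
Restriction of derived base change and of the mixed derived tensor product, as functors.
-/
import Groth.Agent.L10.DTen.Base
import Groth.Agent.L10.DTen.Exact

set_option autoImplicit false
set_option backward.defeqAttrib.useBackward true
set_option backward.isDefEq.respectTransparency false
set_option backward.isDefEq.respectTransparency.types false

universe u v w

open CategoryTheory CategoryTheory.Limits MonoidalCategory

attribute [local instance] HasDerivedCategory.standard

namespace Groth.L10.DTen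

variable {R A : Type u} [CommRing R] [CommRing A] (φ : R →+* A)

/-- isomorphisms of functors are detected on resolutions -/
noncomputable def isoOfKFlat {H : Type v} [Category.{w} H] {F G : Dual.D R ⥤ H}
    (e : Groth.L10.KFlat.R R ⋙ DerivedCategory.Q ⋙ F ≅ Groth.L10.KFlat.R R ⋙ DerivedCategory.Q ⋙ G) : F ≅ G :=
  haveI : ∀ K, IsIso ((Functor.whiskerRight (Groth.L10.KFlat.r R) (DerivedCategory.Q ⋙ F)).app K) := fun K =>
    haveI := Groth.L10.KFlat.isIso_Q_map ((Groth.L10.KFlat.r R).app K) inferInstance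
    inferInstanceAs (IsIso (F.map (DerivedCategory.Q.map ((Groth.L10.KFlat.r R).app K))))
  haveI : ∀ K, IsIso ((Functor.whiskerRight (Groth.L10.KFlat.r R) (DerivedCategory.Q ⋙ G)).app K) := fun K =>
    haveI := Groth.L10.KFlat.isIso_Q_map ((Groth.L10.KFlat.r R).app K) inferInstance
    inferInstanceAs (IsIso (G.map (DerivedCategory.Q.map ((Groth.L10.KFlat.r R).app K))))
  haveI := NatIso.isIso_of_isIso_app (Functor.whiskerRight (Groth.L10.KFlat.r R) (DerivedCategory.Q ⋙ F))
  haveI := NatIso.isIso_of_isIso_app (Functor.whiskerRight (Groth.L10.KFlat.r R) (DerivedCategory.Q ⋙ G))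
  Localization.liftNatIso DerivedCategory.Q (_root_.DTen.qis R) (DerivedCategory.Q ⋙ F) (DerivedCategory.Q ⋙ G) F G
    ((Functor.leftUnitor _).symm ≪≫
      (asIso (Functor.whiskerRight (Groth.L10.KFlat.r R) (DerivedCategory.Q ⋙ F))).symm ≪≫ e ≪≫
      asIso (Functor.whiskerRight (Groth.L10.KFlat.r R) (DerivedCategory.Q ⋙ G)) ≪≫ Functor.leftUnitor _)

theorem ι_tensorIso (K : DRing.Cx R) (N : DRing.Cx A) (p q n : ℤ) (h : p + q = n) :
    HomologicalComplex.ιMapBifunctor K ((_root_.DTen.resCx φ).obj N) (curriedTensor (ModuleCat.{u} R))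
        (ComplexShape.up ℤ) p q n h ≫ (Groth.L00.BaseChangeTensor.tensorIso φ K N).hom.f n =
      (Groth.L00.BaseChangeTensor.βIso φ (K.X p) (N.X q)).hom ≫ (ModuleCat.restrictScalars φ).map
        (HomologicalComplex.ιMapBifunctor ((_root_.DTen.extCx φ).obj K) N (curriedTensor (ModuleCat.{u} A))
          (ComplexShape.up ℤ) p q n h) :=
  Groth.L00.FunctorTotal.ι_compX (ModuleCat.extendScalars φ ⋙ curriedTensor (ModuleCat.{u} A))
    (curriedTensor (ModuleCat.{u} R)) (𝟭 _) (ModuleCat.restrictScalars φ) (ModuleCat.restrictScalars φ)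
    (Groth.L00.BaseChangeTensor.βIso φ) (c := ComplexShape.up ℤ) K N p q n h

/-- `K ⊗_R res N ≅ res (ext K ⊗_A N)`, in `K` -/
noncomputable def κ (N : DRing.Cx A) : tensorRight ((_root_.DTen.resCx φ).obj N) ≅
    _root_.DTen.extCx φ ⋙ tensorRight N ⋙ _root_.DTen.resCx φ :=
  NatIso.ofComponents (fun K => Groth.L00.BaseChangeTensor.tensorIso φ K N) fun {K K'} f => by
    change (f ▷ (_root_.DTen.resCx φ).obj N) ≫ (Groth.L00.BaseChangeTensor.tensorIso φ K' N).hom =
      (Groth.L00.BaseChangeTensor.tensorIso φ K N).hom ≫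
        (_root_.DTen.resCx φ).map ((_root_.DTen.extCx φ).map f ▷ N)
    refine HomologicalComplex.hom_ext _ _ fun n => HomologicalComplex.mapBifunctor.hom_ext fun p q h => ?_
    change _ ≫ (HomologicalComplex.mapBifunctorMap f (𝟙 ((_root_.DTen.resCx φ).obj N)) _ _).f n ≫ _ =
      _ ≫ _ ≫ (ModuleCat.restrictScalars φ).map
        ((HomologicalComplex.mapBifunctorMap ((_root_.DTen.extCx φ).map f) (𝟙 N) _ _).f n)
    rw [HomologicalComplex.ι_mapBifunctorMap_assoc]
    erw [ι_tensorIso φ K' N p q n h, reassoc_of% (ι_tensorIso φ K N p q n h)]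
    erw [← Functor.map_comp, HomologicalComplex.ι_mapBifunctorMap]
    simp only [HomologicalComplex.id_f, CategoryTheory.Functor.map_id, Category.id_comp, Functor.map_comp]
    erw [reassoc_of% (Groth.L00.BaseChangeTensor.βIso_natural₁ φ (f.f p) (N.X q))]
    rfl

/-- `res Q ≅ Q res` after a functor -/
noncomputable def resQ {C : Type v} [Category.{w} C] (S : C ⥤ DRing.Cx A) :
    S ⋙ DerivedCategory.Q ⋙ DRing.restrictD φ ≅ (S ⋙ _root_.DTen.resCx φ) ⋙ DerivedCategory.Q :=
  Functor.isoWhiskerLeft S (_root_.DTen.resFactors φ) ≪≫ (Functor.associator _ _ _).symm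

variable [_root_.DTen.HasLTen R]

/-- `- ⊗^L_R res X` on resolutions -/
noncomputable def tenResIso (N : DRing.Cx A) :
    Groth.L10.KFlat.R R ⋙ DerivedCategory.Q ⋙
        _root_.DTen.tensorRightD R ((DRing.restrictD φ).obj (DerivedCategory.Q.obj N)) ≅
      (Groth.L10.KFlat.R R ⋙ tensorRight ((_root_.DTen.resCx φ).obj N)) ⋙ DerivedCategory.Q :=
  haveI : ∀ K, IsIso ((Functor.whiskerLeft (Groth.L10.KFlat.R R)
      (_root_.DTen.εRight R ((_root_.DTen.resCx φ).obj N))).app K) := fun K =>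
    isIso_ε R ((Groth.L10.KFlat.R R).obj K) ((_root_.DTen.resCx φ).obj N) (Or.inl (Groth.L10.KFlat.isKFlat_R K))
  haveI := NatIso.isIso_of_isIso_app (Functor.whiskerLeft (Groth.L10.KFlat.R R)
      (_root_.DTen.εRight R ((_root_.DTen.resCx φ).obj N)))
  Functor.isoWhiskerLeft (Groth.L10.KFlat.R R) (Functor.isoWhiskerLeft DerivedCategory.Q
      ((_root_.DTen.LTen R).flip.mapIso ((_root_.DTen.resFactors φ).app N))) ≪≫
    asIso (Functor.whiskerLeft (Groth.L10.KFlat.R R) (_root_.DTen.εRight R ((_root_.DTen.resCx φ).obj N)))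

/-- restriction of the mixed derived tensor product -/
noncomputable def mixResQ [_root_.DTen.HasLTenMix φ] (N : DRing.Cx A) :
    (Functor.curry.obj (_root_.DTen.LTenMix φ)).flip.obj (DerivedCategory.Q.obj N) ⋙ DRing.restrictD φ ≅
      _root_.DTen.tensorRightD R ((DRing.restrictD φ).obj (DerivedCategory.Q.obj N)) :=
  isoOfKFlat
    ((NatIso.ofComponents (fun K =>
        haveI := isIso_εMix φ (Groth.L10.KFlat.isKFlat_R (A := R) K) N
        (DRing.restrictD φ).mapIso (asIso ((_root_.DTen.εMix φ).app ((Groth.L10.KFlat.R R).obj K, N))))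
      fun {K K'} f => by
        have h := (_root_.DTen.εMix φ).naturality (X := ((Groth.L10.KFlat.R R).obj K, N))
          (Y := ((Groth.L10.KFlat.R R).obj K', N)) (Prod.mkHom ((Groth.L10.KFlat.R R).map f) (𝟙 N))
        dsimp at h ⊢
        rw [← Functor.map_comp, ← Functor.map_comp]
        simp only [CategoryTheory.Functor.map_id, MonoidalCategory.whiskerLeft_id, Category.comp_id] at h
        exact congrArg _ h :
      _ ≅ (Groth.L10.KFlat.R R ⋙ _root_.DTen.extCx φ ⋙ tensorRight N) ⋙ DerivedCategory.Q ⋙ DRing.restrictD φ) ≪≫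
    resQ φ (Groth.L10.KFlat.R R ⋙ _root_.DTen.extCx φ ⋙ tensorRight N) ≪≫
    Functor.isoWhiskerRight (Functor.isoWhiskerLeft (Groth.L10.KFlat.R R) (κ φ N).symm) DerivedCategory.Q ≪≫
    (tenResIso φ N).symm)

theorem nonempty_mixRes [_root_.DTen.HasLTenMix φ] (X : Dual.D A) :
    Nonempty ((Functor.curry.obj (_root_.DTen.LTenMix φ)).flip.obj X ⋙ DRing.restrictD φ ≅
      _root_.DTen.tensorRightD R ((DRing.restrictD φ).obj X)) := by
  obtain ⟨N, -, ⟨e⟩⟩ := Groth.L10.KFlat.exists_rep X
  exact ⟨Functor.isoWhiskerRight ((Functor.curry.obj (_root_.DTen.LTenMix φ)).flip.mapIso e.symm) _ ≪≫ mixResQ φ N ≪≫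
    (_root_.DTen.LTen R).flip.mapIso ((DRing.restrictD φ).mapIso e)⟩

/-- restriction of derived base change -/
noncomputable def baseRes [_root_.DTen.HasLBase φ] : _root_.DTen.LBase φ ⋙ DRing.restrictD φ ≅
    _root_.DTen.tensorRightD R ((DRing.restrictD φ).obj (_root_.DTen.unit A)) :=
  isoOfKFlat
    ((NatIso.ofComponents (fun K =>
        haveI := isIso_baseCmp φ (Groth.L10.KFlat.isKFlat_R (A := R) K)
        (DRing.restrictD φ).mapIso (asIso ((_root_.DTen.baseCmp φ).app ((Groth.L10.KFlat.R R).obj K)) ≪≫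
          DerivedCategory.Q.mapIso (ρ_ ((_root_.DTen.extCx φ).obj ((Groth.L10.KFlat.R R).obj K))).symm))
      fun {K K'} f => by
        have h := (_root_.DTen.baseCmp φ).naturality ((Groth.L10.KFlat.R R).map f)
        dsimp at h ⊢
        rw [← Functor.map_comp, ← Functor.map_comp]
        refine congrArg _ ?_
        rw [reassoc_of% h, ← Functor.map_comp, Category.assoc, ← Functor.map_comp, rightUnitor_inv_naturality] :
      _ ≅ (Groth.L10.KFlat.R R ⋙ _root_.DTen.extCx φ ⋙ tensorRight (𝟙_ (DRing.Cx A))) ⋙ DerivedCategory.Q ⋙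
        DRing.restrictD φ) ≪≫
    resQ φ (Groth.L10.KFlat.R R ⋙ _root_.DTen.extCx φ ⋙ tensorRight (𝟙_ (DRing.Cx A))) ≪≫
    Functor.isoWhiskerRight (Functor.isoWhiskerLeft (Groth.L10.KFlat.R R) (κ φ (𝟙_ (DRing.Cx A))).symm)
      DerivedCategory.Q ≪≫
    (tenResIso φ (𝟙_ (DRing.Cx A))).symm)

end Groth.L10.DTen
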