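/-
Tensoring with a complex concentrated in one degree is a shift.
-/
import Groth.Agent.L10.DTen.Proj
import Mathlib.Algebra.Homology.BifunctorShift

set_option autoImplicit false
set_option backward.defeqAttrib.useBackward true
set_option backward.isDefEq.respectTransparency false
set_option backward.isDefEq.respectTransparency.types false

universe u

open CategoryTheory CategoryTheory.Limits MonoidalCategory HomologicalComplex

namespace Groth.L10.DTen.Single

section Generic

variable {C₁ C₂ D : Type*} [Category C₁] [Category C₂] [Category D]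
  [Preadditive C₁] [Preadditive C₂] [Preadditive D]
  (F : C₁ ⥤ C₂ ⥤ D) [F.Additive] [∀ X, (F.obj X).Additive]
  [∀ (K₁ : CochainComplex C₁ ℤ) (K₂ : CochainComplex C₂ ℤ), CochainComplex.HasMapBifunctor K₁ K₂ F]
  (S : CochainComplex C₁ ℤ) (m : ℤ) (hS : ∀ p, p ≠ m → IsZero (S.X p)) (K : CochainComplex C₂ ℤ)

/-- one degree -/
noncomputable def XIso (n : ℤ) :
    (F.obj (S.X m)).obj (K.X (n + -m)) ≅ (mapBifunctor S K F (ComplexShape.up ℤ)).X n where
  hom := ιMapBifunctor S K F (ComplexShape.up ℤ) m (n + -m) n (show m + (n + -m) = n by omega)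
  inv := mapBifunctorDesc fun p q h =>
    if hp : p = m then
      (F.map (eqToHom (congrArg S.X hp))).app (K.X q) ≫
        (F.obj (S.X m)).map (K.XIsoOfEq (show q = n + -m by dsimp at h; omega)).hom
    else 0
  hom_inv_id := by
    rw [ι_mapBifunctorDesc, dif_pos rfl]
    simp
  inv_hom_id := by
    refine mapBifunctor.hom_ext fun p q h => ?_
    by_cases hp : p = m
    · have hq : q = n + -m := by dsimp at h; omega
      subst hq hp
      rw [Category.comp_id, ι_mapBifunctorDesc_assoc, dif_pos rfl]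
      simp
    · exact (((F.flip.obj (K.X q)).map_isZero (hS p hp))).eq_of_src _ _

include hS in
/-- tensoring with `S` concentrated in degree `m` -/
noncomputable def iso : (((F.obj (S.X m)).mapHomologicalComplex (ComplexShape.up ℤ)).obj K)⟦-m⟧ ≅
    mapBifunctor S K F (ComplexShape.up ℤ) :=
  Hom.isoOfComponents (XIso F S m hS K) fun i j hij => by
    change i + 1 = j at hij
    subst hij
    dsimp [XIso]
    rw [mapBifunctor.d_eq, Preadditive.comp_add, mapBifunctor.ι_D₁, mapBifunctor.ι_D₂]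
    have h₁ : mapBifunctor.d₁ S K F (ComplexShape.up ℤ) m (i + -m) (i + 1) = 0 := by
      have hd : S.d m (m + 1) = 0 := (hS (m + 1) (by omega)).eq_of_tgt _ _
      rw [mapBifunctor.d₁_eq _ _ _ _ (show (ComplexShape.up ℤ).Rel m (m + 1) from rfl) _ _
        (show (m + 1) + (i + -m) = i + 1 by omega), hd]
      simp
    rw [h₁, zero_add, mapBifunctor.d₂_eq _ _ _ _ _ (show (ComplexShape.up ℤ).Rel (i + -m) (i + 1 + -m) by
        change _ + 1 = _; omega) _ (show m + (i + 1 + -m) = i + 1 by omega)]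
    simp [Int.negOnePow_neg]

end Generic

variable {R A : Type u} [CommRing R] [CommRing A]

/-- `L ≅ u ⊗ L` -/
noncomputable def unitIso {M : ModuleCat.{u} R} (u : M ≅ 𝟙_ (ModuleCat.{u} R)) (L : DRing.Cx R) :
    L ≅ (((curriedTensor (ModuleCat.{u} R)).obj M).mapHomologicalComplex (ComplexShape.up ℤ)).obj L :=
  Hom.isoOfComponents (fun i => (λ_ (L.X i)).symm ≪≫ ((curriedTensor (ModuleCat.{u} R)).mapIso u.symm).app (L.X i))
    fun i j _ => by
      simp only [Iso.trans_hom, Iso.symm_hom, Iso.app_hom, Functor.mapIso_hom, Category.assoc]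
      erw [← NatTrans.naturality, leftUnitor_inv_naturality_assoc]
      rfl

/-- `L⟦-m⟧ ≅ S ⊗ L` -/
noncomputable def βR (S : DRing.Cx R) (m : ℤ) (hS : ∀ p, p ≠ m → IsZero (S.X p))
    (u : S.X m ≅ 𝟙_ (ModuleCat.{u} R)) (L : DRing.Cx R) : L⟦-m⟧ ≅ S ⊗ L :=
  (shiftFunctor (DRing.Cx R) (-m)).mapIso (unitIso u L) ≪≫ iso (curriedTensor (ModuleCat.{u} R)) S m hS L

theorem βR_f (S : DRing.Cx R) (m : ℤ) (hS : ∀ p, p ≠ m → IsZero (S.X p))
    (u : S.X m ≅ 𝟙_ (ModuleCat.{u} R)) (L : DRing.Cx R) (n : ℤ) :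
    (βR S m hS u L).hom.f n = (λ_ (L.X (n + -m))).inv ≫ ((curriedTensor (ModuleCat.{u} R)).map u.inv).app _ ≫
      ιMapBifunctor S L (curriedTensor (ModuleCat.{u} R)) (ComplexShape.up ℤ) m (n + -m) n
        (show m + (n + -m) = n by omega) :=
  Category.assoc _ _ _

theorem βR_natural (S : DRing.Cx R) (m : ℤ) (hS : ∀ p, p ≠ m → IsZero (S.X p))
    (u : S.X m ≅ 𝟙_ (ModuleCat.{u} R)) {L L' : DRing.Cx R} (f : L ⟶ L') :
    (shiftFunctor (DRing.Cx R) (-m)).map f ≫ (βR S m hS u L').hom = (βR S m hS u L).hom ≫ (S ◁ f) := by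
  refine hom_ext _ _ fun n => ?_
  rw [comp_f, comp_f, βR_f, βR_f]
  change f.f (n + -m) ≫ _ = _ ≫ (mapBifunctorMap (𝟙 S) f _ _).f n
  rw [Category.assoc, Category.assoc, ι_mapBifunctorMap, leftUnitor_inv_naturality_assoc]
  simp only [id_f, CategoryTheory.Functor.map_id, NatTrans.id_app, Category.id_comp]
  erw [← NatTrans.naturality_assoc]
  rfl

variable (φ : R →+* A)

/-- the two identifications agree -/
theorem βR_κ (S : DRing.Cx R) (m : ℤ) (hS : ∀ p, p ≠ m → IsZero (S.X p))
    (u : S.X m ≅ 𝟙_ (ModuleCat.{u} R)) (N : DRing.Cx A) :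
    (βR S m hS u ((_root_.DTen.resCx φ).obj N)).hom ≫ ((κ φ N).app S).hom =
      ((_root_.DTen.resCx φ).commShiftIso (-m)).inv.app N ≫ (_root_.DTen.resCx φ).map
        (βR ((_root_.DTen.extCx φ).obj S) m (fun p hp => (_root_.DTen.extM φ).map_isZero (hS p hp))
          ((_root_.DTen.extM φ).mapIso u ≪≫ (Functor.Monoidal.εIso (_root_.DTen.extM φ)).symm) N).hom := by
  refine hom_ext _ _ fun n => ?_
  rw [comp_f, comp_f, βR_f]
  change _ = (((_root_.DTen.resCx φ).commShiftIso (-m)).inv.app N).f n ≫ (ModuleCat.restrictScalars φ).map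
    ((βR ((_root_.DTen.extCx φ).obj S) m _ _ N).hom.f n)
  rw [βR_f, Category.assoc, Category.assoc]
  erw [ι_tensorIso φ S N m (n + -m) n (by omega)]
  rw [show (((_root_.DTen.resCx φ).commShiftIso (-m)).inv.app N).f n = 𝟙 _ by simp]
  rw [Functor.map_comp, Functor.map_comp, Category.id_comp, ← Category.assoc, ← Category.assoc, ← Category.assoc]
  refine congrArg (fun t => t ≫ _) (ModuleCat.hom_ext (LinearMap.ext fun x => ?_))
  rfl

end Groth.L10.DTen.Single
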