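/-
Induction principle for perfect objects of the derived category of a ring.
-/
import Groth.Agent.L10.DRing.Devissage
import Groth.Prelude.Def_DTen
import Mathlib.Algebra.Homology.DerivedCategory.Ext.ExtClass
import Mathlib.CategoryTheory.Retract

set_option autoImplicit false
set_option backward.defeqAttrib.useBackward true
set_option backward.isDefEq.respectTransparency false
set_option backward.isDefEq.respectTransparency.types false

universe u

open CategoryTheory CategoryTheory.Limits CategoryTheory.Pretriangulated MonoidalCategory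

attribute [local instance] HasDerivedCategory.standard

namespace Groth.L10.DTen

variable {A : Type u} [CommRing A] (P : ObjectProperty (Dual.D A)) [P.IsClosedUnderIsomorphisms]
  (hext : ∀ T : Triangle (Dual.D A), T ∈ distinguishedTriangles → P T.obj₁ → P T.obj₃ → P T.obj₂)
  (hret : ∀ {X Y : Dual.D A}, Retract X Y → P Y → P X)
  (hunit : ∀ n : ℤ, P ((_root_.DTen.unit A)⟦n⟧))

include hext hret hunit in
/-- a property of perfect objects is checked on the shifts of the unit -/
theorem perfect_induction {K : Dual.D A} (hK : DRing.IsPerfect A K) : P K := by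
  have hzero : ∀ Z : Dual.D A, IsZero Z → P Z := fun Z hZ =>
    hret (X := Z) (Y := (_root_.DTen.unit A)⟦(0 : ℤ)⟧) ⟨0, 0, hZ.eq_of_src _ _⟩ (hunit 0)
  have hA : ∀ i : ℤ, P (Groth.L10.DR.single i (ModuleCat.of A A)) := fun i =>
    P.prop_of_iso ((shiftFunctor (Dual.D A) (-i)).mapIso
      (((DerivedCategory.singleFunctorIsoCompQ (ModuleCat.{u} A) 0).app (ModuleCat.of A A)).symm :
        _root_.DTen.unit A ≅ Dual.inD A A) ≪≫ Groth.L10.DR.singleShift i (ModuleCat.of A A)) (hunit (-i))
  have hfree : ∀ (i : ℤ) (m : ℕ), P (Groth.L10.DR.single i (ModuleCat.of A (Fin m → A))) := by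
    intro i m
    induction m with
    | zero =>
      haveI : Subsingleton (ModuleCat.of A (Fin 0 → A)) := inferInstanceAs (Subsingleton (Fin 0 → A))
      exact hzero _ (Functor.map_isZero _ (ModuleCat.isZero_of_subsingleton _))
    | succ m ih =>
      let f : ModuleCat.of A (Fin m → A) ⟶ ModuleCat.of A (Fin (m + 1) → A) :=
        ModuleCat.ofHom (LinearMap.pi fun j => Fin.cases (0 : (Fin m → A) →ₗ[A] A) (fun k => LinearMap.proj k) j)
      let g : ModuleCat.of A (Fin (m + 1) → A) ⟶ ModuleCat.of A A := ModuleCat.ofHom (LinearMap.proj 0)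
      let S : ShortComplex (ModuleCat.{u} A) := ShortComplex.mk f g (by ext v; rfl)
      have hS : S.ShortExact :=
        { exact := by
            rw [ShortComplex.moduleCat_exact_iff]
            intro (v : Fin (m + 1) → A) (hv : v 0 = 0)
            refine ⟨fun k => v k.succ, funext fun j => ?_⟩
            refine Fin.cases hv.symm (fun k => ?_) j
            rfl
          mono_f := (ModuleCat.mono_iff_injective _).2 fun a b hab => funext fun k => congrFun hab k.succ
          epi_g := (ModuleCat.epi_iff_surjective _).2 fun a => ⟨fun _ => a, rfl⟩ }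
      have hT := hS.singleTriangle_distinguished
      have h := hext _ (Triangle.shift_distinguished _ hT (-i))
        (P.prop_of_iso (Groth.L10.DR.singleShift i _).symm ih)
        (P.prop_of_iso (Groth.L10.DR.singleShift i _).symm (hA i))
      exact P.prop_of_iso (Groth.L10.DR.singleShift i _) h
  obtain ⟨E, a, b, hv, hp, ⟨e⟩⟩ := hK
  refine P.prop_of_iso e (Groth.L10.DR.of_termwise P hzero hext E a b hv fun i _ _ => ?_)
  haveI := (hp i).1
  haveI := (hp i).2
  obtain ⟨m, f, hf⟩ := Module.Finite.exists_fin' A (E.X i)
  obtain ⟨s, hs⟩ := Module.projective_lifting_property f LinearMap.id hf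
  exact hret (Retract.map (⟨ModuleCat.ofHom s, ModuleCat.ofHom f, ModuleCat.hom_ext hs⟩ :
    Retract (E.X i) (ModuleCat.of A (Fin m → A))) (DerivedCategory.singleFunctor _ i)) (hfree i m)

end Groth.L10.DTen
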