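/-
Dévissage of natural transformations of half exact functors along perfect objects.
-/
import Groth.Agent.L10.DTen.Exact
import Groth.Agent.L10.DTen.PerfectInd
import Mathlib.CategoryTheory.Preadditive.Yoneda.Basic

set_option autoImplicit false
set_option backward.defeqAttrib.useBackward true
set_option backward.isDefEq.respectTransparency false
set_option backward.isDefEq.respectTransparency.types false

universe u

open CategoryTheory CategoryTheory.Limits CategoryTheory.Pretriangulated MonoidalCategory Opposite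

attribute [local instance] HasDerivedCategory.standard

namespace Groth.L10.DTen

variable {A : Type u} [CommRing A]

/-- a covariant functor exact in the middle of distinguished triangles -/
def ExactMid (F : Dual.D A ⥤ AddCommGrpCat.{u + 1}) : Prop :=
  ∀ T : Triangle (Dual.D A), T ∈ distTriang _ → Function.Exact (F.map T.mor₁) (F.map T.mor₂)

/-- a contravariant functor exact in the middle of distinguished triangles -/
def ExactMidC (F : (Dual.D A)ᵒᵖ ⥤ AddCommGrpCat.{u + 1}) : Prop :=
  ∀ T : Triangle (Dual.D A), T ∈ distTriang _ → Function.Exact (F.map T.mor₂.op) (F.map T.mor₁.op)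

/-- a contravariant functor sending triangles to exact pairs -/
def TriC (F : (Dual.D A)ᵒᵖ ⥤ Dual.D A) : Prop :=
  ∀ T : Triangle (Dual.D A), T ∈ distTriang _ → ExTri (F.map T.mor₂.op) (F.map T.mor₁.op)

theorem TriC.comp {F : (Dual.D A)ᵒᵖ ⥤ Dual.D A} (hF : TriC F) {G : Dual.D A ⥤ Dual.D A} (hG : TriF G) :
    TriC (F ⋙ G) := fun T hT => (hF T hT).map hG

theorem exact_hom_to {X₁ X₂ X₃ : Dual.D A} {f : X₁ ⟶ X₂} {g : X₂ ⟶ X₃} (h : ExTri f g) (N : Dual.D A) :
    Function.Exact (fun k : X₃ ⟶ N => g ≫ k) (fun k : X₂ ⟶ N => f ≫ k) := fun k =>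
  ⟨fun hk => h.coexact k hk, by
    rintro ⟨l, rfl⟩
    change f ≫ g ≫ l = 0
    rw [← Category.assoc, h.zero, zero_comp]⟩

theorem exact_hom_from {X₁ X₂ X₃ : Dual.D A} {f : X₁ ⟶ X₂} {g : X₂ ⟶ X₃} (h : ExTri f g) (N : Dual.D A) :
    Function.Exact (fun k : N ⟶ X₁ => k ≫ f) (fun k : N ⟶ X₂ => k ≫ g) := fun k =>
  ⟨fun hk => h.exact k hk, by
    rintro ⟨l, rfl⟩
    change (l ≫ f) ≫ g = 0
    rw [Category.assoc, h.zero, comp_zero]⟩

theorem exactMid_from (F : Dual.D A ⥤ Dual.D A) (hF : TriF F) (X : Dual.D A) :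
    ExactMid (F ⋙ preadditiveCoyoneda.obj (op X)) := fun T hT => exact_hom_from (hF T hT) X

theorem exactMidC_from (F : (Dual.D A)ᵒᵖ ⥤ Dual.D A) (hF : TriC F) (X : Dual.D A) :
    ExactMidC (F ⋙ preadditiveCoyoneda.obj (op X)) := fun T hT => exact_hom_from (hF T hT) X

theorem exactMid_to (F : (Dual.D A)ᵒᵖ ⥤ Dual.D A) (hF : TriC F) (N : Dual.D A) :
    ExactMid (F.rightOp ⋙ preadditiveYoneda.obj N) := fun T hT => exact_hom_to (hF T hT) N

theorem exactMidC_to (F : Dual.D A ⥤ Dual.D A) (hF : TriF F) (N : Dual.D A) :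
    ExactMidC (F.op ⋙ preadditiveYoneda.obj N) := fun T hT => exact_hom_to (hF T hT) N

/-- a retract of an isomorphism is an isomorphism -/
theorem isIso_app_of_retract {C D : Type*} [Category C] [Category D] {F G : C ⥤ D} (t : F ⟶ G) {X Y : C}
    (r : Retract X Y) [IsIso (t.app Y)] : IsIso (t.app X) :=
  ⟨G.map r.i ≫ inv (t.app Y) ≫ F.map r.r, by
    rw [← Category.assoc, ← t.naturality, Category.assoc, IsIso.hom_inv_id_assoc, ← Functor.map_comp,
      r.retract, CategoryTheory.Functor.map_id], by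
    simp only [Category.assoc]
    rw [t.naturality, IsIso.inv_hom_id_assoc, ← Functor.map_comp, r.retract, CategoryTheory.Functor.map_id]⟩

theorem bijective_app_iff {C : Type*} [Category C] {F G : C ⥤ AddCommGrpCat.{u + 1}} (t : F ⟶ G) (X : C) :
    Function.Bijective (t.app X).hom ↔ IsIso (t.app X) :=
  (ConcreteCategory.isIso_iff_bijective _).symm

/-- dévissage, covariant -/
theorem isIso_of_perfect {F G : Dual.D A ⥤ AddCommGrpCat.{u + 1}} (t : F ⟶ G) (hF : ExactMid F) (hG : ExactMid G)
    (hunit : ∀ n : ℤ, IsIso (t.app ((_root_.DTen.unit A)⟦n⟧))) {K : Dual.D A} (hK : DRing.IsPerfect A K) :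
    IsIso (t.app K) := by
  let P : ObjectProperty (Dual.D A) := fun K => ∀ n : ℤ, IsIso (t.app (K⟦n⟧))
  haveI : P.IsClosedUnderIsomorphisms := ⟨fun e h n =>
    haveI := h n
    isIso_app_of_iso t ((shiftFunctor (Dual.D A) n).mapIso e)⟩
  have hP : P K := perfect_induction P
    (fun T hT h1 h3 n => by
      have hT' := Triangle.shift_distinguished T hT n
      have e : ∀ (X : Dual.D A) (m : ℤ), P X → IsIso (t.app ((X⟦n⟧)⟦m⟧)) := fun X m hX =>
        haveI := hX (n + m)
        isIso_app_of_iso t ((shiftFunctorAdd (Dual.D A) n m).app X)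
      have h0 : IsIso (t.app ((T.obj₃⟦n⟧)⟦(-1 : ℤ)⟧)) := e _ _ h3
      have h4 : IsIso (t.app ((T.obj₁⟦n⟧)⟦(1 : ℤ)⟧)) := e _ _ h1
      refine (bijective_app_iff t _).1 (bijective_mid (F := fun X => F.obj X) (G := fun X => G.obj X)
        (fun f => (F.map f).hom) (fun f => (G.map f).hom) (fun X => (t.app X).hom)
        (fun f a => (congrArg (fun k => k.hom a) (t.naturality f)).symm)
        hF hG _ hT' ((bijective_app_iff t _).2 h0) ((bijective_app_iff t _).2 (h1 n))
        ((bijective_app_iff t _).2 (h3 n)) ((bijective_app_iff t _).2 h4)))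
    (fun r h n => haveI := h n; isIso_app_of_retract t (r.map (shiftFunctor (Dual.D A) n)))
    (fun m n => haveI := hunit (m + n); isIso_app_of_iso t ((shiftFunctorAdd (Dual.D A) m n).app _)) hK
  haveI := hP 0
  exact isIso_app_of_iso t ((shiftFunctorZero (Dual.D A) ℤ).app K)

/-- dévissage, contravariant -/
theorem isIso_of_perfect' {F G : (Dual.D A)ᵒᵖ ⥤ AddCommGrpCat.{u + 1}} (t : F ⟶ G) (hF : ExactMidC F)
    (hG : ExactMidC G) (hunit : ∀ n : ℤ, IsIso (t.app (op ((_root_.DTen.unit A)⟦n⟧)))) {K : Dual.D A}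
    (hK : DRing.IsPerfect A K) : IsIso (t.app (op K)) := by
  let P : ObjectProperty (Dual.D A) := fun K => ∀ n : ℤ, IsIso (t.app (op (K⟦n⟧)))
  haveI : P.IsClosedUnderIsomorphisms := ⟨fun e h n =>
    haveI := h n
    isIso_app_of_iso t ((shiftFunctor (Dual.D A) n).mapIso e).symm.op⟩
  have hP : P K := perfect_induction P
    (fun T hT h1 h3 n => by
      let T' := (Triangle.shiftFunctor (Dual.D A) n).obj T
      have hT' : T' ∈ distTriang _ := Triangle.shift_distinguished T hT n
      have e : ∀ (X : Dual.D A) (m : ℤ), P X → Function.Bijective (t.app (op ((X⟦n⟧)⟦m⟧))).hom := fun X m hX =>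
        (bijective_app_iff t _).2 (haveI := hX (n + m)
          isIso_app_of_iso t ((shiftFunctorAdd (Dual.D A) n m).app X).symm.op)
      exact (bijective_app_iff t _).1
        (AddMonoidHom.bijective_of_surjective_of_bijective_of_bijective_of_injective
          (F.map T'.mor₃.op).hom (F.map T'.mor₂.op).hom (F.map T'.mor₁.op).hom (F.map T'.invRotate.mor₁.op).hom
          (G.map T'.mor₃.op).hom (G.map T'.mor₂.op).hom (G.map T'.mor₁.op).hom (G.map T'.invRotate.mor₁.op).hom
          (t.app _).hom (t.app _).hom (t.app _).hom (t.app _).hom (t.app _).hom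
          (congrArg AddCommGrpCat.Hom.hom (t.naturality _).symm) (congrArg AddCommGrpCat.Hom.hom (t.naturality _).symm)
          (congrArg AddCommGrpCat.Hom.hom (t.naturality _).symm) (congrArg AddCommGrpCat.Hom.hom (t.naturality _).symm)
          (hF _ (rot_of_distTriang _ hT')) (hF _ hT') (hF _ (inv_rot_of_distTriang _ hT'))
          (hG _ (rot_of_distTriang _ hT')) (hG _ hT') (hG _ (inv_rot_of_distTriang _ hT'))
          (e T.obj₁ 1 h1).2 ((bijective_app_iff t _).2 (h3 n)) ((bijective_app_iff t _).2 (h1 n))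
          (e T.obj₃ (-1) h3).1))
    (fun r h n => haveI := h n; isIso_app_of_retract t
      (⟨(r.map (shiftFunctor (Dual.D A) n)).r.op, (r.map (shiftFunctor (Dual.D A) n)).i.op,
        by rw [← op_comp, (r.map (shiftFunctor (Dual.D A) n)).retract, op_id]⟩ : Retract (op _) (op _)))
    (fun m n => haveI := hunit (m + n); isIso_app_of_iso t ((shiftFunctorAdd (Dual.D A) m n).app _).symm.op) hK
  haveI := hP 0
  exact isIso_app_of_iso t ((shiftFunctorZero (Dual.D A) ℤ).app K).symm.op

end Groth.L10.DTen
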