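/-
Naturality of the associator; the shifts of the unit are invertible.
-/
import Groth.Agent.L10.DTen.Compute
import Groth.Prelude.Def_DTen3
import Mathlib.Algebra.Homology.BifunctorShift

set_option autoImplicit false
set_option backward.defeqAttrib.useBackward true
set_option backward.isDefEq.respectTransparency false
set_option backward.isDefEq.respectTransparency.types false

universe u

open CategoryTheory CategoryTheory.Limits MonoidalCategory

attribute [local instance] HasDerivedCategory.standard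

namespace Groth.L10.DTen

open Groth.L10.KFlat

variable {A : Type u} [CommRing A] [_root_.DTen.HasLTen A] [_root_.DTen.HasLTen₃ A] [_root_.DTen.IsSymMonoidal A]

/-- `X ⊗^L f` -/
noncomputable abbrev tL (X : Dual.D A) {Y Z : Dual.D A} (f : Y ⟶ Z) :
    (_root_.DTen.LTen₂ A).obj (X, Y) ⟶ (_root_.DTen.LTen₂ A).obj (X, Z) :=
  (_root_.DTen.LTen₂ A).map (Prod.mkHom (𝟙 X) f)

/-- `f ⊗^L X` -/
noncomputable abbrev tR {Y Z : Dual.D A} (f : Y ⟶ Z) (X : Dual.D A) :
    (_root_.DTen.LTen₂ A).obj (Y, X) ⟶ (_root_.DTen.LTen₂ A).obj (Z, X) :=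
  (_root_.DTen.LTen₂ A).map (Prod.mkHom f (𝟙 X))

section
omit [_root_.DTen.HasLTen₃ A] [_root_.DTen.IsSymMonoidal A]

@[reassoc]
theorem tR_comp {Y Z W : Dual.D A} (f : Y ⟶ Z) (g : Z ⟶ W) (X : Dual.D A) :
    tR (f ≫ g) X = tR f X ≫ tR g X :=
  ((_root_.DTen.LTen A).flip.obj X).map_comp f g

@[reassoc]
theorem tL_comp (X : Dual.D A) {Y Z W : Dual.D A} (f : Y ⟶ Z) (g : Z ⟶ W) :
    tL X (f ≫ g) = tL X f ≫ tL X g :=
  ((_root_.DTen.LTen A).obj X).map_comp f g

@[reassoc]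
theorem exchange {X X' Y Y' : Dual.D A} (f : X ⟶ X') (g : Y ⟶ Y') :
    tR f Y ≫ tL X' g = tL X g ≫ tR f Y' := by
  unfold tR tL
  rw [← Functor.map_comp, ← Functor.map_comp, prod_comp, prod_comp]
  simp [Prod.mkHom]

theorem tR_id (Y X : Dual.D A) : tR (𝟙 Y) X = 𝟙 _ := ((_root_.DTen.LTen A).flip.obj X).map_id Y

theorem tL_id (X Y : Dual.D A) : tL X (𝟙 Y) = 𝟙 _ := ((_root_.DTen.LTen A).obj X).map_id Y

end

/-- the associator, natural in the three variables -/
noncomputable def assocN : _root_.DTen.LTenL A ≅ _root_.DTen.LTenR A :=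
  asIso (_root_.DTen.assocL A) ≪≫ (asIso (_root_.DTen.assocR A)).symm

theorem assocN_app (a b c : Dual.D A) :
    (assocN (A := A)).hom.app (a, (b, c)) = (_root_.DTen.associator a b c).hom := rfl

@[reassoc]
theorem assoc_natural {a a' b b' c c' : Dual.D A} (f : a ⟶ a') (g : b ⟶ b') (h : c ⟶ c') :
    (_root_.DTen.LTen₂ A).map (Prod.mkHom ((_root_.DTen.LTen₂ A).map (Prod.mkHom f g)) h) ≫
        (_root_.DTen.associator a' b' c').hom =
      (_root_.DTen.associator a b c).hom ≫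
        (_root_.DTen.LTen₂ A).map (Prod.mkHom f ((_root_.DTen.LTen₂ A).map (Prod.mkHom g h))) :=
  (assocN (A := A)).hom.naturality
    (X := (a, (b, c))) (Y := (a', (b', c'))) (Prod.mkHom f (Prod.mkHom g h))

@[reassoc]
theorem assoc_natural₁ {a a' : Dual.D A} (f : a ⟶ a') (b c : Dual.D A) :
    tR (tR f b) c ≫ (_root_.DTen.associator a' b c).hom =
      (_root_.DTen.associator a b c).hom ≫ tR f ((_root_.DTen.LTen₂ A).obj (b, c)) := by
  refine (assoc_natural f (𝟙 b) (𝟙 c)).trans ?_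
  rw [← prod_id, CategoryTheory.Functor.map_id]

@[reassoc]
theorem assoc_natural₂ (a : Dual.D A) {b b' : Dual.D A} (g : b ⟶ b') (c : Dual.D A) :
    tR (tL a g) c ≫ (_root_.DTen.associator a b' c).hom =
      (_root_.DTen.associator a b c).hom ≫ tL a (tR g c) :=
  assoc_natural (𝟙 a) g (𝟙 c)

@[reassoc]
theorem assoc_natural₃ (a b : Dual.D A) {c c' : Dual.D A} (h : c ⟶ c') :
    tL ((_root_.DTen.LTen₂ A).obj (a, b)) h ≫ (_root_.DTen.associator a b c').hom =
      (_root_.DTen.associator a b c).hom ≫ tL a (tL b h) := by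
  refine Eq.trans ?_ (assoc_natural (𝟙 a) (𝟙 b) h)
  rw [← prod_id, CategoryTheory.Functor.map_id]

/-- `- ⊗^L J` and `J ⊗^L -` agree -/
noncomputable def symmIso (J : Dual.D A) :
    (_root_.DTen.LTen A).obj J ≅ _root_.DTen.tensorRightD A J :=
  NatIso.ofComponents (fun X => _root_.DTen.braiding X J) fun {X Y} f => by
    exact (_root_.DTen.symm A).naturality (X := (X, J)) (Y := (Y, J)) (Prod.mkHom f (𝟙 J))

/-- composition of tensoring -/
noncomputable def compIso (J J' : Dual.D A) :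
    (_root_.DTen.LTen A).obj J' ⋙ (_root_.DTen.LTen A).obj J ≅
      (_root_.DTen.LTen A).obj ((_root_.DTen.LTen₂ A).obj (J, J')) :=
  (NatIso.ofComponents (fun X => _root_.DTen.associator J J' X) fun {X Y} f => assoc_natural₃ J J' f).symm

theorem isEquivalence_left {J J' : Dual.D A}
    (e : (_root_.DTen.LTen₂ A).obj (J, J') ≅ _root_.DTen.unit A)
    (e' : (_root_.DTen.LTen₂ A).obj (J', J) ≅ _root_.DTen.unit A) :
    ((_root_.DTen.LTen A).obj J).IsEquivalence :=
  (CategoryTheory.Equivalence.mk ((_root_.DTen.LTen A).obj J) ((_root_.DTen.LTen A).obj J')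
    ((asIso (_root_.DTen.unitL A)).symm ≪≫ (_root_.DTen.LTen A).mapIso e'.symm ≪≫ (compIso J' J).symm)
    (compIso J J' ≪≫ (_root_.DTen.LTen A).mapIso e ≪≫ asIso (_root_.DTen.unitL A))).isEquivalence_functor

theorem nonempty_shift_unit_inverse (n m : ℤ) (h : m + n = 0) :
    Nonempty ((_root_.DTen.LTen₂ A).obj ((_root_.DTen.unit A)⟦n⟧, (_root_.DTen.unit A)⟦m⟧) ≅ _root_.DTen.unit A) := by
  let U : DRing.Cx A := 𝟙_ (DRing.Cx A)
  let e : ∀ k : ℤ, DerivedCategory.Q.obj (U⟦k⟧) ≅ (_root_.DTen.unit A)⟦k⟧ := fun k =>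
    ((DerivedCategory.Q : DRing.Cx A ⥤ Dual.D A).commShiftIso k).app U
  haveI := isIso_ε A (U⟦n⟧) (U⟦m⟧) (Or.inl (Groth.L10.KFlat.shift U n isKFlat_unit))
  let c : (U⟦n⟧) ⊗ (U⟦m⟧) ≅ U :=
    CochainComplex.mapBifunctorShift₁Iso U (U⟦m⟧) (curriedTensor (ModuleCat.{u} A)) n ≪≫
      (shiftFunctor (DRing.Cx A) n).mapIso (λ_ (U⟦m⟧)) ≪≫ (shiftFunctorCompIsoId (DRing.Cx A) m n h).app U
  exact ⟨(_root_.DTen.LTen₂ A).mapIso (Iso.prod (e n).symm (e m).symm :
      ((_root_.DTen.unit A)⟦n⟧, (_root_.DTen.unit A)⟦m⟧) ≅ (DerivedCategory.Q.obj (U⟦n⟧), DerivedCategory.Q.obj (U⟦m⟧))) ≪≫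
    asIso ((_root_.DTen.ε A).app (U⟦n⟧, U⟦m⟧)) ≪≫ DerivedCategory.Q.mapIso c⟩

instance isEquivalence_shift_unit_left (n : ℤ) :
    ((_root_.DTen.LTen A).obj ((_root_.DTen.unit A)⟦n⟧)).IsEquivalence :=
  isEquivalence_left (nonempty_shift_unit_inverse n (-n) (by omega)).some
    (nonempty_shift_unit_inverse (-n) n (by omega)).some

instance isEquivalence_shift_unit_right (n : ℤ) :
    (_root_.DTen.tensorRightD A ((_root_.DTen.unit A)⟦n⟧)).IsEquivalence :=
  Functor.isEquivalence_of_iso (symmIso _)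

end Groth.L10.DTen
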