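/-
The evaluation and curry maps of `RHom`, on perfect arguments.
-/
import Groth.Agent.L10.DTen.Devissage
import Groth.Agent.L10.DTen.Invertible
import Mathlib.CategoryTheory.Adjunction.FullyFaithful

set_option autoImplicit false
set_option backward.defeqAttrib.useBackward true
set_option backward.isDefEq.respectTransparency false
set_option backward.isDefEq.respectTransparency.types false

universe u

open CategoryTheory CategoryTheory.Limits CategoryTheory.Pretriangulated MonoidalCategory Opposite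

attribute [local instance] HasDerivedCategory.standard

namespace Groth.L10.DTen

variable {A : Type u} [CommRing A] [_root_.DTen.HasLTen A]

set_option quotPrecheck false in
local notation "⊗ₗ" => (_root_.DTen.LTen₂ A).obj

section Basic

variable [_root_.DTen.HasRHom A]

theorem homEquiv_pre {Y Y' L M : Dual.D A} (h : Y' ⟶ Y) (c : ⊗ₗ (Y, L) ⟶ M) :
    h ≫ _root_.DTen.rhomHomEquiv Y L M c = _root_.DTen.rhomHomEquiv Y' L M (tR h L ≫ c) :=
  ((_root_.DTen.rhomAdj A L).homEquiv_naturality_left h c).symm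

theorem homEquiv_symm_eq {Y L M : Dual.D A} (h : Y ⟶ (_root_.DTen.RHomR A L).obj M) :
    (_root_.DTen.rhomHomEquiv Y L M).symm h = tR h L ≫ _root_.DTen.ev L M :=
  (_root_.DTen.rhomAdj A L).homEquiv_counit Y M h

theorem bijective_ev {Y L M : Dual.D A} :
    Function.Bijective (fun h : Y ⟶ (_root_.DTen.RHomR A L).obj M => tR h L ≫ _root_.DTen.ev L M) := by
  simpa only [← homEquiv_symm_eq] using (_root_.DTen.rhomHomEquiv Y L M).symm.bijective

/-- `RHom(-, L)` sends triangles to exact pairs -/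
theorem triC_RHom (L : Dual.D A) : TriC ((_root_.DTen.RHom A).flip.obj L) := by
  intro T hT
  change ExTri (_root_.DTen.RHomMap T.mor₂ L) (_root_.DTen.RHomMap T.mor₁ L)
  have key : ∀ {Y : Dual.D A} {M M' : Dual.D A} (g : M' ⟶ M) (h : Y ⟶ (_root_.DTen.RHomR A M).obj L),
      tR (h ≫ _root_.DTen.RHomMap g L) M' ≫ _root_.DTen.ev M' L = tL Y g ≫ (tR h M ≫ _root_.DTen.ev M L) := by
    intro Y M M' g h
    rw [tR_comp, Category.assoc, _root_.DTen.RHom_map_ev g L, ← Category.assoc, exchange h g, Category.assoc]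
  refine ExTri.mk' (bijective_ev.1 ?_) fun {Y} k hk => ?_
  · change tR (_root_.DTen.RHomMap T.mor₂ L ≫ _root_.DTen.RHomMap T.mor₁ L) _ ≫ _ = tR (0 : _ ⟶ _) _ ≫ _
    have h0 : tR (0 : (_root_.DTen.RHomR A T.obj₃).obj L ⟶ (_root_.DTen.RHomR A T.obj₁).obj L) T.obj₁ = 0 :=
      (_root_.DTen.tensorRightD A T.obj₁).map_zero _ _
    have h' := key T.mor₂ (𝟙 ((_root_.DTen.RHomR A T.obj₃).obj L))
    rw [Category.id_comp] at h'
    rw [key, h', h0, zero_comp, ← Category.assoc, ← tL_comp, comp_distTriang_mor_zero₁₂ T hT]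
    exact (congrArg (· ≫ _) (((_root_.DTen.LTen A).obj _).map_zero _ _)).trans zero_comp
  · have h1 : tL Y T.mor₁ ≫ (tR k T.obj₂ ≫ _root_.DTen.ev T.obj₂ L) = 0 := by
      rw [← key, hk]
      exact (congrArg (· ≫ _) ((_root_.DTen.tensorRightD A T.obj₁).map_zero _ _)).trans zero_comp
    obtain ⟨l, hl⟩ := ((triF_left Y) T hT).coexact _ h1
    obtain ⟨h, hh⟩ := bijective_ev.2 l
    refine ⟨h, bijective_ev.1 ?_⟩
    change tR (h ≫ _root_.DTen.RHomMap T.mor₂ L) _ ≫ _ = tR k _ ≫ _
    dsimp only at hh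
    rw [key, hh]
    exact hl

end Basic

variable [_root_.DTen.HasLTen₃ A] [_root_.DTen.IsSymMonoidal A] [_root_.DTen.HasRHom A]

/-- the adjunct of composing with `evalTen`, additively -/
noncomputable def tenHom (X K L M : Dual.D A) :
    (X ⟶ ⊗ₗ (K, (_root_.DTen.RHomR A M).obj L)) →+ (⊗ₗ (X, M) ⟶ ⊗ₗ (K, L)) :=
  AddMonoidHom.mk' (fun h => tR h M ≫ _root_.DTen.evalTenAux K L M) fun h h' => by
    change (_root_.DTen.tensorRightD A M).map (h + h') ≫ _ = _
    rw [Functor.map_add, Preadditive.add_comp]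
    rfl

theorem tenHom_apply {X K L M : Dual.D A} (h : X ⟶ ⊗ₗ (K, (_root_.DTen.RHomR A M).obj L)) :
    tenHom X K L M h = tR h M ≫ (_root_.DTen.associator K ((_root_.DTen.RHomR A M).obj L) M).hom ≫
      tL K (_root_.DTen.ev M L) := rfl

theorem isIso_evalTen_of_tenHom (K L M : Dual.D A) (h : ∀ X, Function.Bijective (tenHom X K L M)) :
    IsIso (_root_.DTen.evalTen K L M) := by
  refine isIso_of_yoneda_map_bijective _ fun X => ?_
  have e : (fun x : X ⟶ ⊗ₗ (K, (_root_.DTen.RHomR A M).obj L) => x ≫ _root_.DTen.evalTen K L M) =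
      _root_.DTen.rhomHomEquiv X M _ ∘ tenHom X K L M := funext fun x => homEquiv_pre x _
  rw [e]
  exact (Equiv.bijective _).comp (h X)

theorem bijective_tenHom_left (J : Dual.D A) [((_root_.DTen.LTen A).obj J).IsEquivalence] (X L M : Dual.D A) :
    Function.Bijective (tenHom X J L M) := by
  let F := (_root_.DTen.LTen A).obj J
  let X' := F.objPreimage X
  let e : ⊗ₗ (J, X') ≅ X := F.objObjPreimageIso X
  let Φ : (X' ⟶ (_root_.DTen.RHomR A M).obj L) → (X ⟶ ⊗ₗ (J, (_root_.DTen.RHomR A M).obj L)) :=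
    fun g => e.inv ≫ tL J g
  let eM : ⊗ₗ (⊗ₗ (J, X'), M) ≅ ⊗ₗ (X, M) := (_root_.DTen.tensorRightD A M).mapIso e
  have hΦ : Function.Bijective Φ :=
      ⟨fun a b hab => F.map_injective ((cancel_epi e.inv).1 hab),
        fun h => ⟨F.preimage (e.hom ≫ h), by
          show e.inv ≫ F.map (F.preimage (e.hom ≫ h)) = h
          rw [Functor.map_preimage, Iso.inv_hom_id_assoc]⟩⟩
  refine (Function.Bijective.of_comp_iff _ hΦ).1 ?_
  have hc : tenHom X J L M ∘ Φ = (fun k => (eM.inv ≫ (_root_.DTen.associator J X' M).hom) ≫ k) ∘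
      (fun k : ⊗ₗ (X', M) ⟶ L => tL J k) ∘ (fun g => tR g M ≫ _root_.DTen.ev M L) := by
    funext g
    simp only [Function.comp_apply, tenHom_apply, Φ, tR_comp, Category.assoc]
    rw [assoc_natural₂_assoc, ← tL_comp]
    rfl
  rw [hc]
  refine Function.Bijective.comp ⟨fun a b hab => (cancel_epi _).1 hab, fun k =>
    ⟨inv (eM.inv ≫ (_root_.DTen.associator J X' M).hom) ≫ k, IsIso.hom_inv_id_assoc _ _⟩⟩ ?_
  exact Function.Bijective.comp ⟨fun a b hab => F.map_injective hab,
    fun k => ⟨F.preimage k, F.map_preimage k⟩⟩ bijective_ev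

theorem bijective_tenHom_right (J : Dual.D A) [(_root_.DTen.tensorRightD A J).IsEquivalence] (X K L : Dual.D A) :
    Function.Bijective (tenHom X K L J) := by
  haveI : IsIso (_root_.DTen.ev J L) := inferInstanceAs (IsIso ((_root_.DTen.rhomAdj A J).counit.app L))
  let c := (_root_.DTen.associator K ((_root_.DTen.RHomR A J).obj L) J).hom ≫ tL K (_root_.DTen.ev J L)
  haveI : IsIso c := by
    haveI : IsIso (tL K (_root_.DTen.ev J L)) :=
      inferInstanceAs (IsIso (((_root_.DTen.LTen A).obj K).map (_root_.DTen.ev J L)))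
    infer_instance
  have hc : (tenHom X K L J : _ → _) = (fun k => k ≫ c) ∘
      (fun h : X ⟶ ⊗ₗ (K, (_root_.DTen.RHomR A J).obj L) => (_root_.DTen.tensorRightD A J).map h) := rfl
  rw [hc]
  exact Function.Bijective.comp ⟨fun a b hab => (cancel_mono c).1 hab, fun k => ⟨k ≫ inv c, by simp⟩⟩
    ⟨fun a b hab => (_root_.DTen.tensorRightD A J).map_injective hab,
      fun k => ⟨(_root_.DTen.tensorRightD A J).preimage k, Functor.map_preimage _ k⟩⟩

/-- `K ↦` composing with `evalTen` -/
noncomputable def tenNat (X L M : Dual.D A) :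
    _root_.DTen.tensorRightD A ((_root_.DTen.RHomR A M).obj L) ⋙ preadditiveCoyoneda.obj (op X) ⟶
      _root_.DTen.tensorRightD A L ⋙ preadditiveCoyoneda.obj (op (⊗ₗ (X, M))) where
  app K := AddCommGrpCat.ofHom (tenHom X K L M)
  naturality K K' u := by
    refine AddCommGrpCat.ext fun h => ?_
    change tenHom X K' L M (h ≫ tR u ((_root_.DTen.RHomR A M).obj L)) = tenHom X K L M h ≫ tR u L
    simp only [tenHom_apply, tR_comp, Category.assoc]
    rw [assoc_natural₁_assoc, exchange]

theorem tenHom_natural {X K L M M' : Dual.D A} (u : M' ⟶ M)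
    (h : X ⟶ ⊗ₗ (K, (_root_.DTen.RHomR A M).obj L)) :
    tenHom X K L M' (h ≫ tL K (_root_.DTen.RHomMap u L)) = tL X u ≫ tenHom X K L M h := by
  simp only [tenHom_apply, tR_comp, Category.assoc]
  rw [assoc_natural₂_assoc, ← tL_comp, _root_.DTen.RHom_map_ev u L, tL_comp,
    ← assoc_natural₃_assoc, ← Category.assoc, exchange h u, Category.assoc]

/-- `M ↦` composing with `evalTen` -/
noncomputable def tenNat' (X K L : Dual.D A) :
    ((_root_.DTen.RHom A).flip.obj L ⋙ (_root_.DTen.LTen A).obj K) ⋙ preadditiveCoyoneda.obj (op X) ⟶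
      ((_root_.DTen.LTen A).obj X).op ⋙ preadditiveYoneda.obj (⊗ₗ (K, L)) where
  app M := AddCommGrpCat.ofHom (tenHom X K L (unop M))
  naturality M M' u := AddCommGrpCat.ext fun h => tenHom_natural u.unop h

theorem isIso_evalTen_left (K L M : Dual.D A) (hK : DRing.IsPerfect A K) :
    IsIso (_root_.DTen.evalTen K L M) :=
  isIso_evalTen_of_tenHom K L M fun X => (bijective_app_iff (tenNat X L M) K).2
    (isIso_of_perfect (tenNat X L M) (exactMid_from _ (triF_right _) _) (exactMid_from _ (triF_right _) _)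
      (fun n => (bijective_app_iff (tenNat X L M) _).1 (bijective_tenHom_left _ X L M)) hK)

theorem isIso_evalTen_right (K L M : Dual.D A) (hM : DRing.IsPerfect A M) :
    IsIso (_root_.DTen.evalTen K L M) :=
  isIso_evalTen_of_tenHom K L M fun X => (bijective_app_iff (tenNat' X K L) (op M)).2
    (isIso_of_perfect' (tenNat' X K L) (exactMidC_from _ ((triC_RHom L).comp (triF_left K)) _)
      (exactMidC_to _ (triF_left X) _)
      (fun n => (bijective_app_iff (tenNat' X K L) _).1 (bijective_tenHom_right _ X K L)) hM)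

/-- the adjunct of composing with `evalHom`, additively -/
noncomputable def homHom (X K L M : Dual.D A) :
    (X ⟶ ⊗ₗ ((_root_.DTen.RHomR A L).obj M, K)) →+ (⊗ₗ (X, (_root_.DTen.RHomR A K).obj L) ⟶ M) :=
  AddMonoidHom.mk' (fun h => tR h _ ≫ _root_.DTen.evalHomAux K L M) fun h h' => by
    change (_root_.DTen.tensorRightD A _).map (h + h') ≫ _ = _
    rw [Functor.map_add, Preadditive.add_comp]
    rfl

theorem homHom_apply {X K L M : Dual.D A} (h : X ⟶ ⊗ₗ ((_root_.DTen.RHomR A L).obj M, K)) :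
    homHom X K L M h = tR h _ ≫
      (_root_.DTen.associator ((_root_.DTen.RHomR A L).obj M) K ((_root_.DTen.RHomR A K).obj L)).hom ≫
      tL _ ((_root_.DTen.symm A).app ((_root_.DTen.RHomR A K).obj L, K) ≫ _root_.DTen.ev K L) ≫
      _root_.DTen.ev L M := rfl

theorem bijective_homHom (J : Dual.D A) [(_root_.DTen.tensorRightD A J).IsEquivalence] (X L M : Dual.D A) :
    Function.Bijective (homHom X J L M) := by
  let F := _root_.DTen.tensorRightD A J
  let R := (_root_.DTen.RHomR A J).obj L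
  let G := (_root_.DTen.RHomR A L).obj M
  let X' := F.objPreimage X
  let e : ⊗ₗ (X', J) ≅ X := F.objObjPreimageIso X
  let Φ : (X' ⟶ G) → (X ⟶ ⊗ₗ (G, J)) := fun g => e.inv ≫ tR g J
  have hΦ : Function.Bijective Φ :=
    ⟨fun a b hab => F.map_injective ((cancel_epi e.inv).1 hab),
      fun h => ⟨F.preimage (e.hom ≫ h), by
        show e.inv ≫ F.map (F.preimage (e.hom ≫ h)) = h
        rw [Functor.map_preimage, Iso.inv_hom_id_assoc]⟩⟩
  refine (Function.Bijective.of_comp_iff _ hΦ).1 ?_
  haveI : IsIso (_root_.DTen.ev J L) := inferInstanceAs (IsIso ((_root_.DTen.rhomAdj A J).counit.app L))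
  let c := (_root_.DTen.symm A).app (R, J) ≫ _root_.DTen.ev J L
  let w := tR e.inv R ≫ (_root_.DTen.associator X' J R).hom ≫ tL X' c
  haveI : IsIso w := by
    haveI : IsIso (tR e.inv R) := inferInstanceAs (IsIso ((_root_.DTen.tensorRightD A R).map e.inv))
    haveI : IsIso (tL X' c) := inferInstanceAs (IsIso (((_root_.DTen.LTen A).obj X').map c))
    infer_instance
  have hc : homHom X J L M ∘ Φ = (fun k => w ≫ k) ∘ (fun g => tR g L ≫ _root_.DTen.ev L M) := by
    funext g
    simp only [Function.comp_apply, homHom_apply, Φ, w, c, R, G, tR_comp, Category.assoc]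
    rw [assoc_natural₁_assoc, ← Category.assoc (f := tR g _) (g := tL _ _), exchange g, Category.assoc]
  rw [hc]
  exact Function.Bijective.comp ⟨fun a b hab => (cancel_epi w).1 hab, fun k => ⟨inv w ≫ k, by simp⟩⟩ bijective_ev

theorem homHom_natural {X K K' L M : Dual.D A} (u : K ⟶ K')
    (h : X ⟶ ⊗ₗ ((_root_.DTen.RHomR A L).obj M, K)) :
    homHom X K' L M (h ≫ tL _ u) = tL X (_root_.DTen.RHomMap u L) ≫ homHom X K L M h := by
  simp only [homHom_apply, tR_comp, Category.assoc]
  have s1 : tR u ((_root_.DTen.RHomR A K').obj L) ≫ (_root_.DTen.symm A).app ((_root_.DTen.RHomR A K').obj L, K') =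
      (_root_.DTen.symm A).app ((_root_.DTen.RHomR A K').obj L, K) ≫ tL _ u :=
    (_root_.DTen.symm A).naturality (X := ((_root_.DTen.RHomR A K').obj L, K))
      (Y := ((_root_.DTen.RHomR A K').obj L, K')) (Prod.mkHom (𝟙 _) u)
  have s2 : tL K (_root_.DTen.RHomMap u L) ≫ (_root_.DTen.symm A).app ((_root_.DTen.RHomR A K).obj L, K) =
      (_root_.DTen.symm A).app ((_root_.DTen.RHomR A K').obj L, K) ≫ tR (_root_.DTen.RHomMap u L) K :=
    (_root_.DTen.symm A).naturality (X := ((_root_.DTen.RHomR A K').obj L, K))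
      (Y := ((_root_.DTen.RHomR A K).obj L, K)) (Prod.mkHom (_root_.DTen.RHomMap u L) (𝟙 _))
  have hmid : tR u ((_root_.DTen.RHomR A K').obj L) ≫
      (_root_.DTen.symm A).app ((_root_.DTen.RHomR A K').obj L, K') ≫ _root_.DTen.ev K' L =
    tL K (_root_.DTen.RHomMap u L) ≫
      (_root_.DTen.symm A).app ((_root_.DTen.RHomR A K).obj L, K) ≫ _root_.DTen.ev K L := by
    rw [← Category.assoc, s1, ← Category.assoc (f := tL K _), s2, Category.assoc, Category.assoc,
      _root_.DTen.RHom_map_ev u L]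
  rw [assoc_natural₂_assoc, ← tL_comp_assoc, hmid, tL_comp_assoc, ← assoc_natural₃_assoc,
    ← Category.assoc (f := tR h _), exchange h, Category.assoc]

/-- `K ↦` composing with `evalHom` -/
noncomputable def homNat (X L M : Dual.D A) :
    (_root_.DTen.LTen A).obj ((_root_.DTen.RHomR A L).obj M) ⋙ preadditiveCoyoneda.obj (op X) ⟶
      ((_root_.DTen.RHom A).flip.obj L ⋙ (_root_.DTen.LTen A).obj X).rightOp ⋙ preadditiveYoneda.obj M where
  app K := AddCommGrpCat.ofHom (homHom X K L M)
  naturality K K' u := AddCommGrpCat.ext fun h => homHom_natural u h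

theorem isIso_evalHom_left (K L M : Dual.D A) (hK : DRing.IsPerfect A K) :
    IsIso (_root_.DTen.evalHom K L M) := by
  refine isIso_of_yoneda_map_bijective _ fun X => ?_
  have e : (fun x : X ⟶ ⊗ₗ ((_root_.DTen.RHomR A L).obj M, K) => x ≫ _root_.DTen.evalHom K L M) =
      _root_.DTen.rhomHomEquiv X _ _ ∘ homHom X K L M := funext fun x => homEquiv_pre x _
  rw [e]
  exact (Equiv.bijective _).comp ((bijective_app_iff (homNat X L M) K).2
    (isIso_of_perfect (homNat X L M) (exactMid_from _ (triF_left _) _)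
      (exactMid_to _ ((triC_RHom L).comp (triF_left X)) _)
      (fun n => (bijective_app_iff (homNat X L M) _).1 (bijective_homHom _ X L M)) hK))

theorem isIso_curryHom (K L M : Dual.D A) : IsIso (_root_.DTen.curryHom K L M) := by
  refine isIso_of_yoneda_map_bijective _ fun X => ?_
  have e : (fun x : X ⟶ (_root_.DTen.RHomR A (⊗ₗ (K, L))).obj M => x ≫ _root_.DTen.curryHom K L M) =
      _root_.DTen.rhomHomEquiv X K _ ∘ _root_.DTen.rhomHomEquiv (⊗ₗ (X, K)) L M ∘
        (fun k => (_root_.DTen.associator X K L).hom ≫ k) ∘ (fun x => tR x _ ≫ _root_.DTen.ev _ M) := by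
    funext x
    refine (homEquiv_pre x _).trans (congrArg _ ((homEquiv_pre _ _).trans (congrArg _ ?_)))
    change tR (tR x K) L ≫ (_root_.DTen.associator _ K L).hom ≫ _ = _
    rw [assoc_natural₁_assoc]
    rfl
  rw [e]
  exact (Equiv.bijective _).comp ((Equiv.bijective _).comp
    (Function.Bijective.comp ⟨fun a b hab => (cancel_epi _).1 hab,
      fun k => ⟨(_root_.DTen.associator X K L).inv ≫ k, Iso.hom_inv_id_assoc _ _⟩⟩ bijective_ev))

end Groth.L10.DTen
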