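/-
The derived category of modules is generated by the free module of rank one.
-/
import Groth.Agent.L10.DerivedModGen
import Groth.Agent.L10.HocolimGen
import Groth.Agent.L10.DTen.Exact
import Groth.Agent.L10.DTen.PerfectInd

set_option autoImplicit false
set_option backward.defeqAttrib.useBackward true
set_option backward.isDefEq.respectTransparency false
set_option backward.isDefEq.respectTransparency.types false

universe w u

open CategoryTheory CategoryTheory.Limits CategoryTheory.Pretriangulated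

namespace Groth.L10.DTen

variable {R : Type u} [CommRing R]

theorem generation_small [HasDerivedCategory.{u} (ModuleCat.{u} R)]
    (P : CochainComplex (ModuleCat.{u} R) ℤ → Prop)
    (hiso : ∀ K K', (DerivedCategory.Q.obj K ≅ DerivedCategory.Q.obj K') → P K → P K')
    (hgen : ∀ n, P (DerivedModGen.gen R n))
    (hcone : ∀ {K L : CochainComplex (ModuleCat.{u} R) ℤ} (α : K ⟶ L), P K → P L → P (CochainComplex.mappingCone α))
    (hsum : ∀ {ι : Type u} (K : ι → CochainComplex (ModuleCat.{u} R) ℤ), (∀ i, P (K i)) → P (∐ K))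
    (K : CochainComplex (ModuleCat.{u} R) ℤ) : P K := by
  haveI : HasCoproducts.{u} (DerivedCategory (ModuleCat.{u} R)) := fun ι => DerivedProd.hasCoproductsOfShape
  haveI : HasColimitsOfShape (Discrete ℕ) (DerivedCategory (ModuleCat.{u} R)) := DerivedProd.hasCoproductsOfShape
  let P' : DerivedCategory (ModuleCat.{u} R) → Prop := fun X => ∃ K, P K ∧ Nonempty (DerivedCategory.Q.obj K ≅ X)
  have hiso' : ∀ {X Y}, (X ≅ Y) → P' X → P' Y := fun e ⟨K, hK, ⟨a⟩⟩ => ⟨K, hK, ⟨a ≪≫ e⟩⟩
  have hsum' : ∀ {ι : Type u} (X : ι → DerivedCategory (ModuleCat.{u} R)) [HasCoproduct X],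
      (∀ i, P' (X i)) → P' (∐ X) := by
    intro ι X _ h
    choose K hK e using h
    let t : ∀ i, DerivedCategory.Q.obj (K i) ≅ DerivedCategory.Qh.obj ((HomotopyCategory.quotient _ _).obj (K i)) :=
      fun i => ((DerivedCategory.quotientCompQhIso _).app (K i)).symm
    have hb := fun Y => DerivedProd.hom_from_coproduct_bijective (A := ModuleCat.{u} R) K Y
    let c : Cofan X := Cofan.mk _ fun i => (e i).some.inv ≫ (t i).hom ≫
      DerivedCategory.Qh.map ((HomotopyCategory.quotient _ _).map (Sigma.ι K i))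
    let d : ∀ s : Cofan X, c.pt ⟶ s.pt := fun s =>
      ((hb s.pt).surjective fun i => (t i).inv ≫ (e i).some.hom ≫ s.inj i).choose
    have hd : ∀ (s : Cofan X) (i : ι), DerivedCategory.Qh.map ((HomotopyCategory.quotient _ _).map (Sigma.ι K i)) ≫ d s =
        (t i).inv ≫ (e i).some.hom ≫ s.inj i := fun s i =>
      congrFun ((hb s.pt).surjective fun i => (t i).inv ≫ (e i).some.hom ≫ s.inj i).choose_spec i
    have hc : IsColimit c := Cofan.IsColimit.mk c d (fun s i => by simp [c, hd]) fun s g hg =>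
      (hb s.pt).injective (funext fun i => by
        change _ ≫ g = _ ≫ d s
        rw [hd, ← hg i]
        simp [c])
    exact ⟨∐ K, hsum K hK, ⟨((DerivedCategory.quotientCompQhIso _).app (∐ K)).symm ≪≫
      hc.coconePointUniqueUpToIso (colimit.isColimit _)⟩⟩
  have hthird : ∀ T : Triangle (DerivedCategory (ModuleCat.{u} R)), T ∈ distTriang _ →
      P' T.obj₁ → P' T.obj₂ → P' T.obj₃ := by
    intro T hT ⟨K₁, h₁, ⟨e₁⟩⟩ ⟨K₂, h₂, ⟨e₂⟩⟩
    obtain ⟨A, B, α, ⟨i⟩⟩ := (DerivedCategory.mem_distTriang_iff _).1 hT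
    exact ⟨CochainComplex.mappingCone α, hcone α (hiso _ _ (e₁ ≪≫ Triangle.π₁.mapIso i) h₁)
      (hiso _ _ (e₂ ≪≫ Triangle.π₂.mapIso i) h₂), ⟨(Triangle.π₃.mapIso i).symm⟩⟩
  have hE : ∀ (n : ULift.{u} ℤ) (m : ℤ), P' ((DerivedModGen.E R n)⟦m⟧) := fun n m =>
    ⟨DerivedModGen.gen R (n.down - m), hgen _,
      ⟨DerivedCategory.Q.mapIso (((CochainComplex.singleFunctors (ModuleCat.{u} R)).shiftIso m (n.down - m) n.down
          (by omega)).app (ModuleCat.of R R)).symm ≪≫ ((DerivedCategory.Q).commShiftIso m).app _ ≪≫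
        (shiftFunctor _ m).mapIso ((DerivedCategory.quotientCompQhIso _).app _).symm⟩⟩
  obtain ⟨K', f, i, ⟨c, hc⟩, ⟨κ, a, m, ⟨e₀⟩⟩, hstep⟩ := HocolimGen.exists_presentation (DerivedModGen.E R)
    DerivedModGen.compact DerivedModGen.generates (DerivedCategory.Q.obj K)
  have hK' : ∀ n, P' (K' n) := by
    intro n
    induction n with
    | zero => exact hiso' e₀.symm (hsum' _ fun k => hE _ _)
    | succ n ih =>
      obtain ⟨κ, a, m, y, z, hT⟩ := hstep n
      exact hthird _ hT (hsum' _ fun k => hE _ _) ih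
  let K'' : ULift.{u} ℕ → DerivedCategory (ModuleCat.{u} R) := fun n => K' n.down
  have hN : P' (∐ K') :=
    hiso' (Sigma.whiskerEquiv Equiv.ulift fun _ => Iso.refl _) (hsum' K'' fun n => hK' n.down)
  obtain ⟨L, hL, ⟨e⟩⟩ := hthird _ hc hN hN
  exact hiso _ _ e hL

theorem nonempty_Q_iso {C : Type (u + 1)} [Category.{u} C] [Abelian C] (h : HasDerivedCategory.{w} C)
    (h' : HasDerivedCategory.{u + 1} C) (K K' : CochainComplex C ℤ)
    (e : (@DerivedCategory.Q C _ _ h).obj K ≅ (@DerivedCategory.Q C _ _ h).obj K') :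
    Nonempty ((@DerivedCategory.Q C _ _ h').obj K ≅ (@DerivedCategory.Q C _ _ h').obj K') := by
  let W := HomologicalComplex.quasiIso C (ComplexShape.up ℤ)
  let G := @DerivedCategory.Q C _ _ h'
  have hG : W.IsInvertedBy G := Localization.inverts G W
  let F := Localization.lift G hG (@DerivedCategory.Q C _ _ h)
  let fac : _ ⋙ F ≅ G := Localization.fac G hG (@DerivedCategory.Q C _ _ h)
  exact ⟨(fac.app K).symm ≪≫ F.mapIso e ≪≫ fac.app K'⟩

attribute [local instance] HasDerivedCategory.standard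

/-- a property closed under triangles and coproducts, true of the shifts of `R`, is true everywhere -/
theorem generation (P : Dual.D R → Prop) (hiso : ∀ {X Y : Dual.D R}, (X ≅ Y) → P X → P Y)
    (hunit : ∀ n : ℤ, P ((_root_.DTen.unit R)⟦n⟧))
    (hthird : ∀ T : Triangle (Dual.D R), T ∈ distTriang _ → P T.obj₁ → P T.obj₂ → P T.obj₃)
    (hsum : ∀ {ι : Type u} (K : ι → DRing.Cx R), (∀ i, P (DerivedCategory.Q.obj (K i))) →
      P (DerivedCategory.Q.obj (∐ K)))
    (X : Dual.D R) : P X := by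
  obtain ⟨K, -, ⟨e⟩⟩ := Groth.L10.KFlat.exists_rep X
  refine hiso e (@generation_small R _ (DerivedModGen.smallDerived _)
    (fun K => P (DerivedCategory.Q.obj K)) (fun K K' e h => ?_) (fun n => ?_) (fun {K L} α hK hL => ?_) (fun K h => hsum K h) K)
  · exact hiso (nonempty_Q_iso (DerivedModGen.smallDerived _) (HasDerivedCategory.standard _) K K' e).some h
  · exact hiso (((shiftFunctor (Dual.D R) (-n)).mapIso
        (((DerivedCategory.singleFunctorIsoCompQ (ModuleCat.{u} R) 0).app (ModuleCat.of R R)).symm :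
          _root_.DTen.unit R ≅ Dual.inD R R)) ≪≫ Groth.L10.DR.singleShift n (ModuleCat.of R R) ≪≫
      (DerivedCategory.singleFunctorIsoCompQ (ModuleCat.{u} R) n).app (ModuleCat.of R R)) (hunit (-n))
  · exact hthird (DerivedCategory.Q.mapTriangle.obj (CochainComplex.mappingCone.triangle α))
      ((DerivedCategory.mem_distTriang_iff _).2 ⟨_, _, α, ⟨Iso.refl _⟩⟩) hK hL

end Groth.L10.DTen
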