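/-
Derived base change is monoidal; exactness in triangles.
-/
import Groth.Agent.L10.DTen.Base
import Groth.Agent.L10.DTen.Exact
import Mathlib.CategoryTheory.Triangulated.Adjunction

set_option autoImplicit false
set_option backward.defeqAttrib.useBackward true
set_option backward.isDefEq.respectTransparency false
set_option backward.isDefEq.respectTransparency.types false

universe u

open CategoryTheory CategoryTheory.Limits CategoryTheory.Pretriangulated MonoidalCategory

attribute [local instance] HasDerivedCategory.standard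

namespace Groth.L10.DTen

open Groth.L10.KFlat

variable {R A : Type u} [CommRing R] [CommRing A] (φ : R →+* A)

theorem ExTri.map₂ {F : Dual.D R ⥤ Dual.D A}
    (hF : ∀ T : Triangle (Dual.D R), T ∈ distTriang _ → ExTri (F.map T.mor₁) (F.map T.mor₂))
    {X₁ X₂ X₃ : Dual.D R} {f : X₁ ⟶ X₂} {g : X₂ ⟶ X₃} (h : ExTri f g) : ExTri (F.map f) (F.map g) := by
  obtain ⟨C, i, δ, φ, ψ, hT, hf, hψ⟩ := h
  have hi : ExTri (F.map i) (F.map g) := hF _ hT
  obtain ⟨C', i', δ', φ', ψ', hT', hf', hψ'⟩ := hi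
  exact ⟨C', i', δ', F.map φ ≫ φ', ψ' ≫ F.map ψ, hT',
    by rw [Category.assoc, hf', ← Functor.map_comp, hf],
    by rw [Category.assoc, ← Functor.map_comp, hψ, hψ']⟩

/-- `(k ⊗ 1) ⊗ (l ⊗ 1)` computed in two ways -/
theorem unit_resTen₀ (M N : ModuleCat.{u} R) :
    ((curriedTensor (ModuleCat.{u} R)).map ((ModuleCat.extendRestrictScalarsAdj.{u, u, u} φ).unit.app M)).app N ≫
      ((curriedTensor (ModuleCat.{u} R)).obj ((_root_.DTen.resM φ).obj ((_root_.DTen.extM φ).obj M))).map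
        ((ModuleCat.extendRestrictScalarsAdj.{u, u, u} φ).unit.app N) ≫
      _root_.DTen.resTen₀app φ ((_root_.DTen.extM φ).obj M) ((_root_.DTen.extM φ).obj N) =
    (ModuleCat.extendRestrictScalarsAdj.{u, u, u} φ).unit.app (M ⊗ N) ≫
      (_root_.DTen.resM φ).map (Functor.OplaxMonoidal.δ (_root_.DTen.extM φ) M N) := by
  refine ModuleCat.hom_ext (TensorProduct.ext' fun x y => ?_)
  rfl

theorem unit_resTenCx (X Y : DRing.Cx R) :
    ((_root_.DTen.unitCx φ).app X ⊗ₘ (_root_.DTen.unitCx φ).app Y) ≫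
        _root_.DTen.resTenCx φ ((_root_.DTen.extCx φ).obj X) ((_root_.DTen.extCx φ).obj Y) =
      (_root_.DTen.unitCx φ).app (X ⊗ Y) ≫ (_root_.DTen.resCx φ).map (_root_.DTen.extTenCxIso φ X Y).hom := by
  change HomologicalComplex.mapBifunctorMap ((_root_.DTen.unitCx φ).app X) ((_root_.DTen.unitCx φ).app Y) _ _ ≫ _ = _
  refine HomologicalComplex.hom_ext _ _ fun n => HomologicalComplex.mapBifunctor.hom_ext fun p q h => ?_
  erw [HomologicalComplex.comp_f, HomologicalComplex.comp_f, HomologicalComplex.ι_mapBifunctorMap_assoc,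
    _root_.DTen.ι_resTenCx φ ((_root_.DTen.extCx φ).obj X) ((_root_.DTen.extCx φ).obj Y) p q n h]
  have hn : HomologicalComplex.ιTensorObj X Y p q n h ≫
      (ModuleCat.extendRestrictScalarsAdj.{u, u, u} φ).unit.app ((X ⊗ Y : DRing.Cx R).X n) =
        (ModuleCat.extendRestrictScalarsAdj.{u, u, u} φ).unit.app (X.X p ⊗ Y.X q) ≫
          (_root_.DTen.resM φ).map ((_root_.DTen.extM φ).map (HomologicalComplex.ιTensorObj X Y p q n h)) :=
    (ModuleCat.extendRestrictScalarsAdj.{u, u, u} φ).unit.naturality (HomologicalComplex.ιTensorObj X Y p q n h)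
  change _ = HomologicalComplex.ιTensorObj X Y p q n h ≫
      (ModuleCat.extendRestrictScalarsAdj.{u, u, u} φ).unit.app ((X ⊗ Y : DRing.Cx R).X n) ≫
      (_root_.DTen.resM φ).map ((_root_.DTen.extTenCxIso φ X Y).hom.f n)
  rw [reassoc_of% hn]
  erw [← Functor.map_comp, _root_.DTen.map_ι_extTenCxIso_hom φ X Y p q n h, Functor.map_comp]
  exact (reassoc_of% (unit_resTen₀ φ (X.X p) (Y.X q))) _

variable [_root_.DTen.HasLBase φ]

theorem triF_LBase (T : Triangle (Dual.D R)) (hT : T ∈ distTriang _) :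
    ExTri ((_root_.DTen.LBase φ).map T.mor₁) ((_root_.DTen.LBase φ).map T.mor₂) := by
  letI := (_root_.DTen.baseAdj φ).leftAdjointCommShift ℤ
  haveI := (_root_.DTen.baseAdj φ).commShift_of_rightAdjoint ℤ
  haveI : (_root_.DTen.LBase φ).IsTriangulated := (_root_.DTen.baseAdj φ).isTriangulated_leftAdjoint
  exact ExTri.of_triangle _ ((_root_.DTen.LBase φ).map_distinguished T hT)

variable [_root_.DTen.HasLTen R] [_root_.DTen.HasLTen A] [_root_.DTen.HasResTen φ] [_root_.DTen.ResLegIso φ]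

/-- `X ⊗^L Y ⟶ res (LX ⊗^L LY)` -/
noncomputable def ω (X Y : Dual.D R) : (_root_.DTen.LTen₂ R).obj (X, Y) ⟶
    (DRing.restrictD φ).obj ((_root_.DTen.LTen₂ A).obj ((_root_.DTen.LBase φ).obj X, (_root_.DTen.LBase φ).obj Y)) :=
  (_root_.DTen.LTen₂ R).map (Prod.mkHom ((_root_.DTen.baseAdj φ).unit.app X) ((_root_.DTen.baseAdj φ).unit.app Y)) ≫
    (_root_.DTen.resPF φ).app ((_root_.DTen.LBase φ).obj X, (_root_.DTen.LBase φ).obj Y)

theorem ω_natural {X X' Y Y' : Dual.D R} (f : X ⟶ X') (g : Y ⟶ Y') :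
    (_root_.DTen.LTen₂ R).map (Prod.mkHom f g) ≫ ω φ X' Y' =
      ω φ X Y ≫ (DRing.restrictD φ).map ((_root_.DTen.LTen₂ A).map
        (Prod.mkHom ((_root_.DTen.LBase φ).map f) ((_root_.DTen.LBase φ).map g))) := by
  have n1 := (_root_.DTen.baseAdj φ).unit.naturality f
  have n2 := (_root_.DTen.baseAdj φ).unit.naturality g
  have n3 := (_root_.DTen.resPF φ).naturality
    (X := ((_root_.DTen.LBase φ).obj X, (_root_.DTen.LBase φ).obj Y))
    (Y := ((_root_.DTen.LBase φ).obj X', (_root_.DTen.LBase φ).obj Y'))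
    (Prod.mkHom ((_root_.DTen.LBase φ).map f) ((_root_.DTen.LBase φ).map g))
  dsimp at n1 n2 n3 ⊢
  rw [ω, ω, ← Functor.map_comp_assoc, Category.assoc, ← n3, ← Functor.map_comp_assoc]
  refine congrArg (fun t => (_root_.DTen.LTen₂ R).map t ≫ _) ?_
  exact Prod.ext n1 n2

/-- base change of a tensor product -/
noncomputable def θ (X Y : Dual.D R) : (_root_.DTen.LBase φ).obj ((_root_.DTen.LTen₂ R).obj (X, Y)) ⟶
    (_root_.DTen.LTen₂ A).obj ((_root_.DTen.LBase φ).obj X, (_root_.DTen.LBase φ).obj Y) :=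
  ((_root_.DTen.baseAdj φ).homEquiv _ _).symm (ω φ X Y)

theorem θ_fac (X Y : Dual.D R) :
    (_root_.DTen.baseAdj φ).unit.app _ ≫ (DRing.restrictD φ).map (θ φ X Y) = ω φ X Y := by
  have h := ((_root_.DTen.baseAdj φ).homEquiv _ _).apply_symm_apply (ω φ X Y)
  rwa [Adjunction.homEquiv_unit] at h

theorem θ_natural {X X' Y Y' : Dual.D R} (f : X ⟶ X') (g : Y ⟶ Y') :
    (_root_.DTen.LBase φ).map ((_root_.DTen.LTen₂ R).map (Prod.mkHom f g)) ≫ θ φ X' Y' =
      θ φ X Y ≫ (_root_.DTen.LTen₂ A).map (Prod.mkHom ((_root_.DTen.LBase φ).map f) ((_root_.DTen.LBase φ).map g)) := by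
  rw [θ, θ, ← Adjunction.homEquiv_naturality_left_symm, ← Adjunction.homEquiv_naturality_right_symm, ω_natural]

theorem isIso_θ (X Y : Dual.D R) : IsIso (θ φ X Y) := by
  obtain ⟨K, hK, ⟨a⟩⟩ := exists_rep X
  obtain ⟨L, hL, ⟨b⟩⟩ := exists_rep Y
  suffices h : IsIso (θ φ (DerivedCategory.Q.obj K) (DerivedCategory.Q.obj L)) by
    haveI := h
    haveI := isIso_LTen_map a.hom b.hom inferInstance inferInstance
    haveI := isIso_LTen_map ((_root_.DTen.LBase φ).map a.hom) ((_root_.DTen.LBase φ).map b.hom)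
      inferInstance inferInstance
    haveI : IsIso ((_root_.DTen.LBase φ).map ((_root_.DTen.LTen₂ R).map (Prod.mkHom a.hom b.hom)) ≫ θ φ X Y) := by
      rw [θ_natural]; infer_instance
    exact IsIso.of_isIso_comp_left ((_root_.DTen.LBase φ).map ((_root_.DTen.LTen₂ R).map (Prod.mkHom a.hom b.hom))) _
  haveI := isIso_ε R K L (Or.inl hK)
  haveI := isIso_ε A ((_root_.DTen.extCx φ).obj K) ((_root_.DTen.extCx φ).obj L) (Or.inl (isKFlat_ext φ hK))
  haveI := isIso_baseCmp φ (Groth.L10.KFlat.isKFlat_tensor hK hL)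
  haveI := isIso_LTen_map ((_root_.DTen.baseCmp φ).app K) ((_root_.DTen.baseCmp φ).app L) (isIso_baseCmp φ hK)
    (isIso_baseCmp φ hL)
  let w := (_root_.DTen.LTen₂ A).map (Prod.mkHom ((_root_.DTen.baseCmp φ).app K) ((_root_.DTen.baseCmp φ).app L)) ≫
    (_root_.DTen.ε A).app ((_root_.DTen.extCx φ).obj K, (_root_.DTen.extCx φ).obj L)
  let v := (_root_.DTen.LBase φ).map ((_root_.DTen.ε R).app (K, L)) ≫ (_root_.DTen.baseCmp φ).app (K ⊗ L) ≫
    DerivedCategory.Q.map (_root_.DTen.extTenCxIso φ K L).hom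
  have key : θ φ (DerivedCategory.Q.obj K) (DerivedCategory.Q.obj L) ≫ w = v := by
    apply ((_root_.DTen.baseAdj φ).homEquiv _ _).injective
    rw [Adjunction.homEquiv_unit, Adjunction.homEquiv_unit, Functor.map_comp, ← Category.assoc, θ_fac,
      ← cancel_mono ((_root_.DTen.resFactors φ).hom.app _)]
    have e1 := _root_.DTen.resPF_fac φ ((_root_.DTen.extCx φ).obj K, (_root_.DTen.extCx φ).obj L)
    have e2 := (_root_.DTen.resPF φ).naturality
      (X := ((_root_.DTen.LBase φ).obj (DerivedCategory.Q.obj K), (_root_.DTen.LBase φ).obj (DerivedCategory.Q.obj L)))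
      (Y := (DerivedCategory.Q.obj ((_root_.DTen.extCx φ).obj K), DerivedCategory.Q.obj ((_root_.DTen.extCx φ).obj L)))
      (Prod.mkHom ((_root_.DTen.baseCmp φ).app K) ((_root_.DTen.baseCmp φ).app L))
    have e3 := (_root_.DTen.baseAdj φ).unit.naturality ((_root_.DTen.ε R).app (K, L))
    have e4 : ∀ M : DRing.Cx R, (_root_.DTen.baseγ φ).app M ≫ (_root_.DTen.resFactors φ).hom.app _ =
        DerivedCategory.Q.map ((_root_.DTen.unitCx φ).app M) := fun M => by
      dsimp [_root_.DTen.baseγ]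
      rw [Category.assoc, Iso.inv_hom_id_app]
      exact Category.comp_id _
    have e5 := (_root_.DTen.resFactors φ).hom.naturality (_root_.DTen.extTenCxIso φ K L).hom
    have e6 := (_root_.DTen.ε R).naturality (X := (K, L))
      (Y := ((_root_.DTen.resCx φ).obj ((_root_.DTen.extCx φ).obj K), (_root_.DTen.resCx φ).obj ((_root_.DTen.extCx φ).obj L)))
      (Prod.mkHom ((_root_.DTen.unitCx φ).app K) ((_root_.DTen.unitCx φ).app L))
    dsimp [_root_.DTen.resβA, _root_.DTen.resβB] at e1 e2 e3 e5 e6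
    have hu : DerivedCategory.Q.map (((_root_.DTen.unitCx φ).app K ▷ L) ≫
          ((_root_.DTen.resCx φ).obj ((_root_.DTen.extCx φ).obj K) ◁ (_root_.DTen.unitCx φ).app L)) ≫
        DerivedCategory.Q.map (_root_.DTen.resTenCx φ ((_root_.DTen.extCx φ).obj K) ((_root_.DTen.extCx φ).obj L)) =
        DerivedCategory.Q.map ((_root_.DTen.unitCx φ).app (K ⊗ L)) ≫
          DerivedCategory.Q.map ((_root_.DTen.resCx φ).map (_root_.DTen.extTenCxIso φ K L).hom) := by
      rw [← Functor.map_comp, ← Functor.map_comp]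
      refine congrArg DerivedCategory.Q.map (Eq.trans ?_ (unit_resTenCx φ K L))
      rw [MonoidalCategory.tensorHom_def]
      rfl
    dsimp [ω, w, v]
    simp only [Category.assoc, Functor.map_comp]
    rw [← reassoc_of% e2, e1, ← Functor.map_comp_assoc, ← Functor.map_comp_assoc]
    erw [← reassoc_of% e3]
    erw [e5]
    erw [reassoc_of% (_root_.DTen.baseCmp_fac φ (K ⊗ L))]
    erw [reassoc_of% (e4 (K ⊗ L))]
    rw [← hu, ← reassoc_of% e6]
    refine congrArg (fun t => (_root_.DTen.LTen₂ R).map t ≫ _) ?_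
    exact Prod.ext ((Category.assoc _ _ _).trans ((congrArg (_ ≫ ·) rfl).trans
        ((Category.assoc _ _ _).symm.trans ((congrArg (· ≫ _) (_root_.DTen.baseCmp_fac φ K)).trans (e4 K)))))
      ((Category.assoc _ _ _).trans ((congrArg (_ ≫ ·) rfl).trans
        ((Category.assoc _ _ _).symm.trans ((congrArg (· ≫ _) (_root_.DTen.baseCmp_fac φ L)).trans (e4 L)))))
  haveI : IsIso (θ φ (DerivedCategory.Q.obj K) (DerivedCategory.Q.obj L) ≫ w) := by
    rw [key]; infer_instance
  exact IsIso.of_isIso_comp_right _ w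

end Groth.L10.DTen
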