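/-
The derived tensor product exists and its structure maps are isomorphisms.
-/
import Groth.Agent.L10.DTen.Compute
import Groth.Prelude.Def_DTen3

set_option autoImplicit false
set_option backward.defeqAttrib.useBackward true
set_option backward.isDefEq.respectTransparency false
set_option backward.isDefEq.respectTransparency.types false

universe u

open CategoryTheory CategoryTheory.Limits MonoidalCategory

attribute [local instance] HasDerivedCategory.standard

namespace Groth.L10.DTen

open Groth.L10.KFlat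

variable (A : Type u) [CommRing A]

theorem hasLTen : _root_.DTen.HasLTen A :=
  Groth.L00.LeftDeriv.hasLeftDerivedFunctor (_root_.DTen.tensor₂ A) (_root_.DTen.qis₂ A) (_root_.DTen.QQ A)
    ((R A).prod (R A)) ((r A).prod (r A))
    (fun X => ⟨(HomologicalComplex.mem_quasiIso_iff _).2 (quasiIso_r X.1),
      (HomologicalComplex.mem_quasiIso_iff _).2 (quasiIso_r X.2)⟩)
    (inverted₂ A)
    (fun X => isIso_tensor₂_map A ((r A).app ((R A).obj X.1)) ((r A).app ((R A).obj X.2)) (isKFlat_R _)
      (Or.inl (isKFlat_R _)))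

theorem hasLTen₃ : _root_.DTen.HasLTen₃ A :=
  Groth.L00.LeftDeriv.hasLeftDerivedFunctor (_root_.DTen.tensor₃ A) (_root_.DTen.qis₃ A) (_root_.DTen.QQQ A)
    ((R A).prod ((R A).prod (R A))) ((r A).prod ((r A).prod (r A)))
    (fun X => ⟨(HomologicalComplex.mem_quasiIso_iff _).2 (quasiIso_r X.1),
      (HomologicalComplex.mem_quasiIso_iff _).2 (quasiIso_r X.2.1),
      (HomologicalComplex.mem_quasiIso_iff _).2 (quasiIso_r X.2.2)⟩)
    (inverted₃ A)
    (fun X => by
      have e : QuasiIso (((r A).app ((R A).obj X.2.1) ▷ (R A).obj ((R A).obj X.2.2)) ≫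
          ((R A).obj X.2.1 ◁ (r A).app ((R A).obj X.2.2))) := by
        haveI := quasiIso_whiskerRight ((r A).app ((R A).obj X.2.1)) (isKFlat_R (A := A) ((R A).obj X.2.2))
        haveI := quasiIso_whiskerLeft ((r A).app ((R A).obj X.2.2)) (isKFlat_R (A := A) ((R A).obj X.2.2))
          (isKFlat_R X.2.2) ((R A).obj X.2.1)
        infer_instance
      exact @isIso_tensor₂_map A _ _ _ _ _ ((r A).app ((R A).obj X.1))
        (((r A).app ((R A).obj X.2.1) ▷ (R A).obj ((R A).obj X.2.2)) ≫
          ((R A).obj X.2.1 ◁ (r A).app ((R A).obj X.2.2))) _ e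
        (isKFlat_tensor (isKFlat_R _) (isKFlat_R _)) (Or.inr (isKFlat_R _)))

variable {A} [_root_.DTen.HasLTen A]

theorem isIso_unitL (X : Dual.D A) : IsIso ((_root_.DTen.unitL A).app X) := by
  obtain ⟨K, -, ⟨a⟩⟩ := exists_rep X
  haveI : IsIso ((_root_.DTen.unitL A).app (DerivedCategory.Q.obj K)) := by
    rw [_root_.DTen.unitL_app]
    haveI := isIso_ε A (𝟙_ (DRing.Cx A)) K (Or.inl isKFlat_unit)
    infer_instance
  exact isIso_app_of_iso _ a

theorem isIso_unitR (X : Dual.D A) : IsIso ((_root_.DTen.unitR A).app X) := by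
  obtain ⟨K, -, ⟨a⟩⟩ := exists_rep X
  haveI : IsIso ((_root_.DTen.unitR A).app (DerivedCategory.Q.obj K)) := by
    rw [_root_.DTen.unitR_app]
    haveI := isIso_ε A K (𝟙_ (DRing.Cx A)) (Or.inr isKFlat_unit)
    infer_instance
  exact isIso_app_of_iso _ a

theorem isSymMonoidal [_root_.DTen.HasLTen₃ A] : _root_.DTen.IsSymMonoidal A where
  isIso_symm := haveI := fun X => isIso_symm (A := A) X; NatIso.isIso_of_isIso_app _
  isIso_unitL := haveI := fun X => isIso_unitL (A := A) X; NatIso.isIso_of_isIso_app _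
  isIso_unitR := haveI := fun X => isIso_unitR (A := A) X; NatIso.isIso_of_isIso_app _
  isIso_assocL := haveI := fun X => (isIso_assoc (A := A) X).1; NatIso.isIso_of_isIso_app _
  isIso_assocR := haveI := fun X => (isIso_assoc (A := A) X).2; NatIso.isIso_of_isIso_app _

end Groth.L10.DTen
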