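/-
Base change for `RHom`.
-/
import Groth.Agent.L10.DTen.BaseTen
import Groth.Agent.L10.DTen.Eval
import Groth.Agent.L10.DTen.SymMon

set_option autoImplicit false
set_option backward.defeqAttrib.useBackward true
set_option backward.isDefEq.respectTransparency false
set_option backward.isDefEq.respectTransparency.types false

universe u

open CategoryTheory CategoryTheory.Limits CategoryTheory.Pretriangulated MonoidalCategory Opposite

attribute [local instance] HasDerivedCategory.standard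

namespace Groth.L10.DTen

variable {R A : Type u} [CommRing R] [CommRing A] (φ : R →+* A)
  [_root_.DTen.HasLTen R] [_root_.DTen.HasLTen A] [_root_.DTen.HasLBase φ]


section
variable [_root_.DTen.HasResTen φ] [_root_.DTen.ResLegIso φ]

/-- the key computation -/
theorem tR_unit_resPF {X : Dual.D R} {Y : Dual.D A} (g : (_root_.DTen.LBase φ).obj X ⟶ Y) (K : Dual.D R) :
    tR ((_root_.DTen.baseAdj φ).unit.app X ≫ (DRing.restrictD φ).map g) K ≫
        (_root_.DTen.LTen₂ R).map (Prod.mkHom (𝟙 _) ((_root_.DTen.baseAdj φ).unit.app K)) ≫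
          (_root_.DTen.resPF φ).app (Y, (_root_.DTen.LBase φ).obj K) =
      ω φ X K ≫ (DRing.restrictD φ).map (tR g ((_root_.DTen.LBase φ).obj K)) := by
  have n3 := (_root_.DTen.resPF φ).naturality (X := ((_root_.DTen.LBase φ).obj X, (_root_.DTen.LBase φ).obj K)) (Y := (Y, (_root_.DTen.LBase φ).obj K))
    (Prod.mkHom g (𝟙 ((_root_.DTen.LBase φ).obj K)))
  dsimp at n3
  rw [ω, Category.assoc]
  erw [← n3, ← Functor.map_comp_assoc, ← Functor.map_comp_assoc]
  refine congrArg (fun t => (_root_.DTen.LTen₂ R).map t ≫ _) (Prod.ext ?_ ?_)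
  · exact Category.comp_id _
  · refine (Category.id_comp _).trans (Eq.symm ?_)
    exact (congrArg (_ ≫ ·) ((DRing.restrictD φ).map_id _)).trans (Category.comp_id _)

variable [_root_.DTen.HasRHom R] [_root_.DTen.HasRHom A]

theorem comp_rhomBC (K : Dual.D R) (M : Dual.D A) {X : Dual.D R}
    (g : (_root_.DTen.LBase φ).obj X ⟶ (_root_.DTen.RHomR A ((_root_.DTen.LBase φ).obj K)).obj M) :
    (_root_.DTen.baseAdj φ).homEquiv _ _ g ≫ _root_.DTen.rhomBC φ K M =
      _root_.DTen.rhomHomEquiv X K _ ((_root_.DTen.baseAdj φ).homEquiv _ _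
        (θ φ X K ≫ tR g ((_root_.DTen.LBase φ).obj K) ≫ _root_.DTen.ev ((_root_.DTen.LBase φ).obj K) M)) := by
  rw [Adjunction.homEquiv_unit, Adjunction.homEquiv_unit]
  refine (homEquiv_pre _ _).trans (congrArg _ ?_)
  rw [_root_.DTen.rhomBCCore]
  erw [reassoc_of% (tR_unit_resPF φ g K)]
  rw [Functor.map_comp, Functor.map_comp, reassoc_of% (θ_fac φ X K)]

theorem isIso_rhomBC (K : Dual.D R) (M : Dual.D A) : IsIso (_root_.DTen.rhomBC φ K M) := by
  refine isIso_of_yoneda_map_bijective _ fun X => ?_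
  refine (Function.Bijective.of_comp_iff _ ((_root_.DTen.baseAdj φ).homEquiv _ _).bijective).1 ?_
  have e : ((fun x => x ≫ _root_.DTen.rhomBC φ K M) ∘ (_root_.DTen.baseAdj φ).homEquiv X _) =
      _root_.DTen.rhomHomEquiv X K _ ∘ (_root_.DTen.baseAdj φ).homEquiv _ _ ∘ (fun k => θ φ X K ≫ k) ∘
        (fun g => tR g ((_root_.DTen.LBase φ).obj K) ≫ _root_.DTen.ev ((_root_.DTen.LBase φ).obj K) M) := funext fun g => comp_rhomBC φ K M g
  rw [e]
  haveI := isIso_θ φ X K
  exact (Equiv.bijective _).comp ((Equiv.bijective _).comp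
    (Function.Bijective.comp ⟨fun a b hab => (cancel_epi _).1 hab,
      fun k => ⟨inv (θ φ X K) ≫ k, IsIso.hom_inv_id_assoc _ _⟩⟩ bijective_ev))

theorem θ_bcRHom (K M : Dual.D R) [IsIso (_root_.DTen.rhomBC φ K ((_root_.DTen.LBase φ).obj M))] :
    θ φ ((_root_.DTen.RHomR R K).obj M) K ≫ tR (_root_.DTen.bcRHom φ K M) ((_root_.DTen.LBase φ).obj K) ≫
        _root_.DTen.ev ((_root_.DTen.LBase φ).obj K) ((_root_.DTen.LBase φ).obj M) = (_root_.DTen.LBase φ).map (_root_.DTen.ev K M) := by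
  apply ((_root_.DTen.baseAdj φ).homEquiv _ _).injective
  apply (_root_.DTen.rhomHomEquiv _ K _).injective
  rw [← comp_rhomBC, Adjunction.homEquiv_unit, _root_.DTen.bcRHom_fac, Category.assoc, IsIso.inv_hom_id,
    Category.comp_id, Adjunction.homEquiv_unit]
  have n := (_root_.DTen.baseAdj φ).unit.naturality (_root_.DTen.ev K M)
  dsimp at n
  rw [← n]
  exact ((_root_.DTen.rhomAdj R K).homEquiv_naturality_right (_root_.DTen.ev K M) _ |>.trans
    ((congrArg (· ≫ _) (((_root_.DTen.rhomAdj R K).homEquiv_unit ..).trans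
      ((_root_.DTen.rhomAdj R K).right_triangle_components M))).trans (Category.id_comp _))).symm

/-- the adjunct of composing with the base change map, for every `K` -/
noncomputable def Ψ (X : Dual.D A) (K M : Dual.D R) :
    (X ⟶ (_root_.DTen.LBase φ).obj ((_root_.DTen.RHomR R K).obj M)) →+
      ((_root_.DTen.LTen₂ A).obj (X, (_root_.DTen.LBase φ).obj K) ⟶ (_root_.DTen.LBase φ).obj M) :=
  haveI := isIso_θ φ ((_root_.DTen.RHomR R K).obj M) K
  AddMonoidHom.mk' (fun h => tR h ((_root_.DTen.LBase φ).obj K) ≫ inv (θ φ ((_root_.DTen.RHomR R K).obj M) K) ≫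
    (_root_.DTen.LBase φ).map (_root_.DTen.ev K M)) fun h h' => by
    change (_root_.DTen.tensorRightD A _).map (h + h') ≫ _ = _
    rw [Functor.map_add, Preadditive.add_comp]
    rfl

theorem Ψ_apply {X : Dual.D A} {K M : Dual.D R} (h : X ⟶ (_root_.DTen.LBase φ).obj ((_root_.DTen.RHomR R K).obj M)) :
    haveI := isIso_θ φ ((_root_.DTen.RHomR R K).obj M) K
    Ψ φ X K M h = tR h ((_root_.DTen.LBase φ).obj K) ≫ inv (θ φ ((_root_.DTen.RHomR R K).obj M) K) ≫
      (_root_.DTen.LBase φ).map (_root_.DTen.ev K M) := rfl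

theorem Ψ_natural {X : Dual.D A} {K K' M : Dual.D R} (u : K ⟶ K')
    (h : X ⟶ (_root_.DTen.LBase φ).obj ((_root_.DTen.RHomR R K').obj M)) :
    Ψ φ X K M (h ≫ (_root_.DTen.LBase φ).map (_root_.DTen.RHomMap u M)) = tL X ((_root_.DTen.LBase φ).map u) ≫ Ψ φ X K' M h := by
  haveI := isIso_θ φ ((_root_.DTen.RHomR R K).obj M) K
  haveI := isIso_θ φ ((_root_.DTen.RHomR R K').obj M) K
  haveI := isIso_θ φ ((_root_.DTen.RHomR R K').obj M) K'
  rw [Ψ_apply, Ψ_apply, ← Category.assoc (f := tL X _), ← exchange h, Category.assoc, tR_comp, Category.assoc]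
  refine congrArg (_ ≫ ·) ?_
  rw [← cancel_epi (θ φ ((_root_.DTen.RHomR R K').obj M) K)]
  have n1 := θ_natural φ (_root_.DTen.RHomMap u M) (𝟙 K)
  have n2 := θ_natural φ (𝟙 ((_root_.DTen.RHomR R K').obj M)) u
  rw [CategoryTheory.Functor.map_id] at n1 n2
  erw [← reassoc_of% n1, IsIso.hom_inv_id_assoc, ← reassoc_of% n2, IsIso.hom_inv_id_assoc]
  rw [← Functor.map_comp, ← Functor.map_comp]
  exact congrArg _ (_root_.DTen.RHom_map_ev u M)

/-- `K ↦` composing with the base change map -/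
noncomputable def ΨNat (X : Dual.D A) (M : Dual.D R) :
    ((_root_.DTen.RHom R).flip.obj M ⋙ _root_.DTen.LBase φ) ⋙ preadditiveCoyoneda.obj (op X) ⟶
      (_root_.DTen.LBase φ ⋙ (_root_.DTen.LTen A).obj X).op ⋙ preadditiveYoneda.obj ((_root_.DTen.LBase φ).obj M) where
  app K := AddCommGrpCat.ofHom (Ψ φ X (unop K) M)
  naturality K K' u := AddCommGrpCat.ext fun h => Ψ_natural φ u.unop h

end

/-- base change of the unit -/
theorem nonempty_LBase_unit : Nonempty ((_root_.DTen.LBase φ).obj (_root_.DTen.unit R) ≅ _root_.DTen.unit A) := by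
  let U : DRing.Cx R := 𝟙_ (DRing.Cx R)
  haveI := isIso_baseCmp φ (K := U) Groth.L10.KFlat.isKFlat_unit
  exact ⟨asIso ((_root_.DTen.baseCmp φ).app U) ≪≫ DerivedCategory.Q.mapIso
    ((HomologicalComplex.singleMapHomologicalComplex (_root_.DTen.extM φ) (ComplexShape.up ℤ) 0).app _ ≪≫
      (HomologicalComplex.single _ _ 0).mapIso (Functor.Monoidal.εIso (_root_.DTen.extM φ)).symm)⟩

theorem nonempty_LBase_shift_unit (n : ℤ) :
    Nonempty ((_root_.DTen.LBase φ).obj ((_root_.DTen.unit R)⟦n⟧) ≅ (_root_.DTen.unit A)⟦n⟧) := by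
  letI := (_root_.DTen.baseAdj φ).leftAdjointCommShift ℤ
  exact ⟨((_root_.DTen.LBase φ).commShiftIso n).app _ ≪≫ (shiftFunctor (Dual.D A) n).mapIso (nonempty_LBase_unit φ).some⟩

variable [_root_.DTen.HasResTen φ] [_root_.DTen.ResLegIso φ] [_root_.DTen.HasRHom R] [_root_.DTen.HasRHom A]

theorem bijective_Ψ_unit (X : Dual.D A) (M : Dual.D R) (n : ℤ) :
    Function.Bijective (Ψ φ X ((_root_.DTen.unit R)⟦n⟧) M) := by
  haveI := hasLTen₃ R
  haveI := hasLTen₃ A
  haveI := isSymMonoidal (A := R)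
  haveI := isSymMonoidal (A := A)
  let J := (_root_.DTen.unit R)⟦n⟧
  haveI := isIso_θ φ ((_root_.DTen.RHomR R J).obj M) J
  haveI : IsIso (_root_.DTen.ev J M) := inferInstanceAs (IsIso ((_root_.DTen.rhomAdj R J).counit.app M))
  haveI : (_root_.DTen.tensorRightD A ((_root_.DTen.LBase φ).obj J)).IsEquivalence :=
    Functor.isEquivalence_of_iso ((_root_.DTen.LTen A).flip.mapIso (nonempty_LBase_shift_unit φ n).some.symm :
      _root_.DTen.tensorRightD A ((_root_.DTen.unit A)⟦n⟧) ≅ _root_.DTen.tensorRightD A ((_root_.DTen.LBase φ).obj J))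
  let c := inv (θ φ ((_root_.DTen.RHomR R J).obj M) J) ≫ (_root_.DTen.LBase φ).map (_root_.DTen.ev J M)
  exact Function.Bijective.comp (g := fun k => k ≫ c)
    (f := fun h : X ⟶ (_root_.DTen.LBase φ).obj ((_root_.DTen.RHomR R J).obj M) => (_root_.DTen.tensorRightD A ((_root_.DTen.LBase φ).obj J)).map h)
    ⟨fun a b hab => (cancel_mono c).1 hab, fun k => ⟨k ≫ inv c, by simp⟩⟩
    ⟨fun a b hab => Functor.map_injective _ hab,
      fun k => ⟨(_root_.DTen.tensorRightD A ((_root_.DTen.LBase φ).obj J)).preimage k, Functor.map_preimage _ k⟩⟩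

theorem bijective_Ψ_of_perfect (X : Dual.D A) {K : Dual.D R} (hK : DRing.IsPerfect R K) (M : Dual.D R) :
    Function.Bijective (Ψ φ X K M) :=
  (bijective_app_iff (ΨNat φ X M) (op K)).2 (isIso_of_perfect' (ΨNat φ X M)
    (fun T hT => exact_hom_from (ExTri.map₂ (triF_LBase φ) (triC_RHom M T hT)) X)
    (fun T hT => exact_hom_to ((triF_LBase φ T hT).map (triF_left X)) ((_root_.DTen.LBase φ).obj M))
    (fun n => (bijective_app_iff (ΨNat φ X M) _).1 (bijective_Ψ_unit φ X M n)) hK)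

theorem isIso_bcRHom_of_bijective {K M : Dual.D R} [IsIso (_root_.DTen.rhomBC φ K ((_root_.DTen.LBase φ).obj M))]
    (h : ∀ X, Function.Bijective (Ψ φ X K M)) : IsIso (_root_.DTen.bcRHom φ K M) := by
  refine isIso_of_yoneda_map_bijective _ fun X => ?_
  haveI := isIso_θ φ ((_root_.DTen.RHomR R K).obj M) K
  refine (Function.Bijective.of_comp_iff' bijective_ev _).1 ?_
  refine (congrArg Function.Bijective (funext fun x => ?_)).mpr (h X)
  change tR (x ≫ _) _ ≫ _ = Ψ φ X K M x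
  rw [Ψ_apply, tR_comp, Category.assoc]
  refine congrArg (_ ≫ ·) ?_
  rw [IsIso.eq_inv_comp]
  exact θ_bcRHom φ K M

end Groth.L10.DTen
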