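/-
Base change for `RHom` along a perfect algebra.
-/
import Groth.Agent.L10.DTen.RHomBC
import Groth.Agent.L10.DTen.Proj
import Groth.Agent.L10.DTen.Gen

set_option autoImplicit false
set_option backward.defeqAttrib.useBackward true
set_option backward.isDefEq.respectTransparency false
set_option backward.isDefEq.respectTransparency.types false

universe u

open CategoryTheory CategoryTheory.Limits CategoryTheory.Pretriangulated MonoidalCategory Opposite

attribute [local instance] HasDerivedCategory.standard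

namespace Groth.L10.DTen

variable {R A : Type u} [CommRing R] [CommRing A] (φ : R →+* A)

theorem isZero_of_restrictD {Z : Dual.D A} (h : IsZero ((DRing.restrictD φ).obj Z)) : IsZero Z := by
  obtain ⟨K, -, ⟨e⟩⟩ := Groth.L10.KFlat.exists_rep Z
  refine IsZero.of_iso ?_ e.symm
  have h' : IsZero (DerivedCategory.Q.obj ((_root_.DTen.resCx φ).obj K)) :=
    h.of_iso (((_root_.DTen.resFactors φ).app K).symm ≪≫ (DRing.restrictD φ).mapIso e)
  have hq : QuasiIso (0 : K ⟶ K) := ⟨fun i => by
    have h1 : IsZero (K.homology i) := (Groth.L00.KFlatAlg.acyclic_restrictScalars φ K i).1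
      (((DerivedCategory.homologyFunctor (ModuleCat.{u} R) i).map_isZero h').of_iso
        ((DerivedCategory.homologyFunctorFactors (ModuleCat.{u} R) i).app _).symm)
    rw [quasiIsoAt_iff_isIso_homologyMap]
    exact ⟨0, h1.eq_of_src _ _, h1.eq_of_src _ _⟩⟩
  rw [IsZero.iff_id_eq_zero]
  haveI := Groth.L10.KFlat.isIso_Q_map (0 : K ⟶ K) hq
  exact (cancel_mono (DerivedCategory.Q.map (0 : K ⟶ K))).1 (by simp)

instance reflects_restrictD : (DRing.restrictD φ).ReflectsIsomorphisms where
  reflects {X Y} f _ := by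
    obtain ⟨Z, g, δ, hT⟩ := distinguished_cocone_triangle f
    exact (Triangle.isZero₃_iff_isIso₁ _ hT).1 (isZero_of_restrictD φ
      ((Triangle.isZero₃_iff_isIso₁ _ ((DRing.restrictD φ).map_distinguished _ hT)).2
        (inferInstanceAs (IsIso ((DRing.restrictD φ).map f)))))

section Products

variable [_root_.DTen.HasLTen R]

/-- `Hom(X, (- ⊗ P)) ` of a fan -/
noncomputable def fanNat {ι : Type u} (Y : ι → Dual.D R) (c : Fan Y) (X : Dual.D R) :
    (_root_.DTen.LTen R).obj c.pt ⋙ preadditiveCoyoneda.obj (op X) ⟶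
      { obj := fun P => AddCommGrpCat.of (∀ i, X ⟶ (_root_.DTen.LTen₂ R).obj (Y i, P))
        map := fun {P P'} u => AddCommGrpCat.ofHom
          (AddMonoidHom.mk' (fun k i => k i ≫ tL (Y i) u) fun k k' => funext fun i => Preadditive.add_comp _ _ _ _ _ _)
        map_id := fun P => AddCommGrpCat.ext fun k => funext fun i => by
          change k i ≫ tL _ _ = k i
          rw [tL_id, Category.comp_id]
        map_comp := fun u v => AddCommGrpCat.ext fun k => funext fun i => by
          change k i ≫ tL _ _ = (k i ≫ tL _ _) ≫ tL _ _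
          rw [tL_comp, Category.assoc] } where
  app P := AddCommGrpCat.ofHom
    (AddMonoidHom.mk' (fun k i => k ≫ tR (c.proj i) P) fun k k' => funext fun i => Preadditive.add_comp _ _ _ _ _ _)
  naturality P P' v := AddCommGrpCat.ext fun k => funext fun i => by
    change (k ≫ tL c.pt v) ≫ tR _ _ = (k ≫ tR _ _) ≫ tL _ v
    rw [Category.assoc, Category.assoc, exchange]

theorem bijective_fan {ι : Type u} {Y : ι → Dual.D R} {c : Fan Y} (hc : IsLimit c) {P : Dual.D R}
    (hP : DRing.IsPerfect R P) (X : Dual.D R) :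
    Function.Bijective (fun (k : X ⟶ (_root_.DTen.LTen₂ R).obj (c.pt, P)) i => k ≫ tR (c.proj i) P) := by
  refine (bijective_app_iff (fanNat Y c X) P).2 (isIso_of_perfect (fanNat Y c X)
    (exactMid_from _ (triF_left _) _) (fun T hT => ?_) (fun n => (bijective_app_iff (fanNat Y c X) _).1 ?_) hP)
  · intro k
    refine ⟨fun hk => ?_, ?_⟩
    · have h : ∀ i, ∃ l, l ≫ tL (Y i) T.mor₁ = k i := fun i => ((triF_left (Y i)) T hT).exact _ (congrFun hk i)
      choose l hl using h
      exact ⟨l, funext hl⟩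
    · rintro ⟨l, rfl⟩
      funext i
      change (l i ≫ tL (Y i) T.mor₁) ≫ tL (Y i) T.mor₂ = 0
      rw [Category.assoc]
      exact (congrArg _ ((triF_left (Y i)) T hT).zero).trans comp_zero
  · haveI := hasLTen₃ R
    haveI := isSymMonoidal (A := R)
    let F := _root_.DTen.tensorRightD R ((_root_.DTen.unit R)⟦n⟧)
    let hF : IsLimit (Fan.mk _ fun i => F.map (c.proj i)) := Fan.isLimitMapConeEquiv F Y c (isLimitOfPreserves F hc)
    exact ⟨fun a b hab => Fan.IsLimit.hom_ext hF _ _ fun i => congrFun hab i,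
      fun k => ⟨hF.lift (Fan.mk X k), funext fun i => hF.fac (Fan.mk X k) ⟨i⟩⟩⟩

theorem preservesProducts_of_perfect {P : Dual.D R} (hP : DRing.IsPerfect R P) (ι : Type u) :
    PreservesLimitsOfShape (Discrete ι) (_root_.DTen.tensorRightD R P) := by
  haveI : ∀ Y : ι → Dual.D R, PreservesLimit (Discrete.functor Y) (_root_.DTen.tensorRightD R P) := fun Y =>
    ⟨fun {c} hc => ⟨(Fan.isLimitMapConeEquiv (_root_.DTen.tensorRightD R P) Y c).symm
      (Fan.IsLimit.mk _ (fun s => ((bijective_fan hc hP s.pt).surjective s.proj).choose)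
        (fun s i => congrFun ((bijective_fan hc hP s.pt).surjective s.proj).choose_spec i)
        fun s m hm => (bijective_fan hc hP s.pt).injective (funext fun i =>
          (hm i).trans (congrFun ((bijective_fan hc hP s.pt).surjective s.proj).choose_spec i).symm))⟩⟩
  exact preservesLimitsOfShape_of_discrete _

theorem preservesProducts_LBase [_root_.DTen.HasLBase φ]
    (hA : DRing.IsPerfect R ((DRing.restrictD φ).obj (_root_.DTen.unit A))) (ι : Type u) :
    PreservesLimitsOfShape (Discrete ι) (_root_.DTen.LBase φ) := by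
  haveI := preservesProducts_of_perfect hA ι
  haveI : PreservesLimitsOfShape (Discrete ι) (_root_.DTen.LBase φ ⋙ DRing.restrictD φ) :=
    preservesLimitsOfShape_of_natIso (baseRes φ).symm
  haveI : HasProductsOfShape ι (Dual.D A) := DerivedProd.hasProductsOfShape
  haveI : PreservesLimitsOfShape (Discrete ι) (DRing.restrictD φ) :=
    (_root_.DTen.baseAdj φ).rightAdjoint_preservesLimits.preservesLimitsOfShape
  haveI : ReflectsLimitsOfShape (Discrete ι) (DRing.restrictD φ) :=
    reflectsLimitsOfShape_of_reflectsIsomorphisms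
  exact preservesLimitsOfShape_of_reflects_of_preserves (_root_.DTen.LBase φ) (DRing.restrictD φ)

end Products

variable [_root_.DTen.HasLTen R] [_root_.DTen.HasLTen A] [_root_.DTen.HasLBase φ] [_root_.DTen.HasResTen φ]
  [_root_.DTen.ResLegIso φ] [_root_.DTen.HasRHom R] [_root_.DTen.HasRHom A]

theorem bijective_Ψ_coprod (X : Dual.D A) (M : Dual.D R) {ι : Type u} (K : ι → Dual.D R) (c : Cofan K)
    (hc : IsColimit c) (hA : DRing.IsPerfect R ((DRing.restrictD φ).obj (_root_.DTen.unit A)))
    (h : ∀ i, Function.Bijective (Ψ φ X (K i) M)) : Function.Bijective (Ψ φ X c.pt M) := by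
  haveI := hasLTen₃ A
  haveI := isSymMonoidal (A := A)
  haveI := hasLTen₃ R
  haveI := isSymMonoidal (A := R)
  haveI : ((_root_.DTen.LTen A).obj X).IsLeftAdjoint :=
    ((_root_.DTen.rhomAdj A X).ofNatIsoLeft (symmIso X).symm).isLeftAdjoint
  haveI : ∀ Z : Dual.D R, ((_root_.DTen.LTen R).obj Z).IsLeftAdjoint := fun Z =>
    ((_root_.DTen.rhomAdj R Z).ofNatIsoLeft (symmIso Z).symm).isLeftAdjoint
  let G := _root_.DTen.LBase φ ⋙ (_root_.DTen.LTen A).obj X
  let hG : IsColimit (Cofan.mk _ fun i => G.map (c.inj i)) :=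
    Cofan.isColimitMapCoconeEquiv G K c (isColimitOfPreserves G hc)
  let RF : Fan fun i => (_root_.DTen.RHomR R (K i)).obj M :=
    Fan.mk ((_root_.DTen.RHomR R c.pt).obj M) fun i => _root_.DTen.RHomMap (c.inj i) M
  have key : ∀ {Y : Dual.D R} (y : Y ⟶ (_root_.DTen.RHomR R c.pt).obj M) (i : ι),
      tR (y ≫ RF.proj i) (K i) ≫ _root_.DTen.ev (K i) M =
        tL Y (c.inj i) ≫ tR y c.pt ≫ _root_.DTen.ev c.pt M := fun y i => by
    rw [tR_comp, Category.assoc, ← Category.assoc (f := tL _ _), ← exchange y, Category.assoc]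
    exact congrArg _ (_root_.DTen.RHom_map_ev (c.inj i) M)
  have hu : ∀ Y : Dual.D R, IsColimit (Cofan.mk _ fun i => tL Y (c.inj i)) := fun Y =>
    Cofan.isColimitMapCoconeEquiv ((_root_.DTen.LTen R).obj Y) K c
      (isColimitOfPreserves ((_root_.DTen.LTen R).obj Y) hc)
  let hRF : IsLimit RF := Fan.IsLimit.mk _
    (fun s => (bijective_ev.surjective ((hu s.pt).desc
      (Cofan.mk M fun i => tR (s.proj i) (K i) ≫ _root_.DTen.ev (K i) M))).choose)
    (fun s i => bijective_ev.injective ((key _ i).trans ((congrArg (tL s.pt (c.inj i) ≫ ·)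
      (bijective_ev.surjective ((hu s.pt).desc
        (Cofan.mk M fun i => tR (s.proj i) (K i) ≫ _root_.DTen.ev (K i) M))).choose_spec).trans
      ((hu s.pt).fac _ ⟨i⟩))))
    fun s m hm => bijective_ev.injective (by
      refine Eq.trans ?_ (bijective_ev.surjective ((hu s.pt).desc
        (Cofan.mk M fun i => tR (s.proj i) (K i) ≫ _root_.DTen.ev (K i) M))).choose_spec.symm
      refine Cofan.IsColimit.hom_ext (hu s.pt) _ _ fun i => ?_
      refine Eq.trans ?_ ((hu s.pt).fac (Cofan.mk M fun i => tR (s.proj i) (K i) ≫ _root_.DTen.ev (K i) M) ⟨i⟩).symm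
      change tL s.pt (c.inj i) ≫ _ = tR (s.proj i) (K i) ≫ _
      rw [← key, hm i])
  haveI := preservesProducts_LBase φ hA ι
  let hL : IsLimit (Fan.mk _ fun i => (_root_.DTen.LBase φ).map (RF.proj i)) :=
    Fan.isLimitMapConeEquiv (_root_.DTen.LBase φ) _ RF (isLimitOfPreserves (_root_.DTen.LBase φ) hRF)
  have hn : ∀ (k : X ⟶ (_root_.DTen.LBase φ).obj ((_root_.DTen.RHomR R c.pt).obj M)) (i : ι),
      Ψ φ X (K i) M (k ≫ (_root_.DTen.LBase φ).map (RF.proj i)) =
        G.map (c.inj i) ≫ Ψ φ X c.pt M k := fun k i => Ψ_natural φ (c.inj i) k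
  refine ⟨fun a b hab => Fan.IsLimit.hom_ext hL _ _ fun i => (h i).injective ?_, fun g => ?_⟩
  · exact (hn a i).trans ((congrArg (_ ≫ ·) hab).trans (hn b i).symm)
  · choose k hk using fun i => (h i).surjective (G.map (c.inj i) ≫ g)
    refine ⟨hL.lift (Fan.mk X k), Cofan.IsColimit.hom_ext hG _ _ fun i => ?_⟩
    exact (hn _ i).symm.trans ((congrArg (Ψ φ X (K i) M) (hL.fac (Fan.mk X k) ⟨i⟩)).trans (hk i))

theorem bijective_mid_contra {B : Type u} [CommRing B] {F G : (Dual.D B)ᵒᵖ ⥤ AddCommGrpCat.{u + 1}} (t : F ⟶ G)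
    (hF : ExactMidC F) (hG : ExactMidC G) (T : Triangle (Dual.D B)) (hT : T ∈ distTriang _)
    (h4 : Function.Bijective (t.app (op (T.obj₁⟦(1 : ℤ)⟧))).hom) (h3 : Function.Bijective (t.app (op T.obj₃)).hom)
    (h1 : Function.Bijective (t.app (op T.obj₁)).hom)
    (h0 : Function.Bijective (t.app (op (T.obj₃⟦(-1 : ℤ)⟧))).hom) : IsIso (t.app (op T.obj₂)) :=
  (bijective_app_iff t _).1
    (AddMonoidHom.bijective_of_surjective_of_bijective_of_bijective_of_injective
      (F.map T.mor₃.op).hom (F.map T.mor₂.op).hom (F.map T.mor₁.op).hom (F.map T.invRotate.mor₁.op).hom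
      (G.map T.mor₃.op).hom (G.map T.mor₂.op).hom (G.map T.mor₁.op).hom (G.map T.invRotate.mor₁.op).hom
      (t.app _).hom (t.app _).hom (t.app _).hom (t.app _).hom (t.app _).hom
      (congrArg AddCommGrpCat.Hom.hom (t.naturality _).symm) (congrArg AddCommGrpCat.Hom.hom (t.naturality _).symm)
      (congrArg AddCommGrpCat.Hom.hom (t.naturality _).symm) (congrArg AddCommGrpCat.Hom.hom (t.naturality _).symm)
      (hF _ (rot_of_distTriang _ hT)) (hF _ hT) (hF _ (inv_rot_of_distTriang _ hT))
      (hG _ (rot_of_distTriang _ hT)) (hG _ hT) (hG _ (inv_rot_of_distTriang _ hT))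
      h4.2 h3 h1 h0.1)

theorem bijective_Ψ_of_perfect_algebra (hA : DRing.IsPerfect R ((DRing.restrictD φ).obj (_root_.DTen.unit A)))
    (X : Dual.D A) (K M : Dual.D R) : Function.Bijective (Ψ φ X K M) := by
  let t := ΨNat φ X M
  let P : Dual.D R → Prop := fun K => ∀ n : ℤ, IsIso (t.app (op (K⟦n⟧)))
  have hP : P K := by
    refine generation P (fun e h n => ?_) (fun m n => ?_) (fun T hT h1 h2 n => ?_) (fun {ι} K h n => ?_) K
    · haveI := h n
      exact isIso_app_of_iso t ((shiftFunctor (Dual.D R) n).mapIso e).symm.op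
    · haveI := (bijective_app_iff t (op ((_root_.DTen.unit R)⟦m + n⟧))).1 (bijective_Ψ_unit φ X M (m + n))
      exact isIso_app_of_iso t ((shiftFunctorAdd (Dual.D R) m n).app _).symm.op
    · have hR := rot_of_distTriang _ hT
      have hT' := Triangle.shift_distinguished T.rotate hR n
      let T' := (Triangle.shiftFunctor (Dual.D R) n).obj T.rotate
      have e : ∀ (X : Dual.D R) (m : ℤ), P X → Function.Bijective (t.app (op ((X⟦n⟧)⟦m⟧))).hom := fun X m hX =>
        (bijective_app_iff t _).2 (haveI := hX (n + m)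
          isIso_app_of_iso t ((shiftFunctorAdd (Dual.D R) n m).app X).symm.op)
      have h1' : P (T.obj₁⟦(1 : ℤ)⟧) := fun k => haveI := h1 (1 + k)
        isIso_app_of_iso t ((shiftFunctorAdd (Dual.D R) 1 k).app T.obj₁).symm.op
      have hF : ExactMidC (((_root_.DTen.RHom R).flip.obj M ⋙ _root_.DTen.LBase φ) ⋙ preadditiveCoyoneda.obj (op X)) :=
        fun T hT => exact_hom_from (ExTri.map₂ (triF_LBase φ) (triC_RHom M T hT)) X
      have hG : ExactMidC ((_root_.DTen.LBase φ ⋙ (_root_.DTen.LTen A).obj X).op ⋙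
          preadditiveYoneda.obj ((_root_.DTen.LBase φ).obj M)) :=
        fun T hT => exact_hom_to ((triF_LBase φ T hT).map (triF_left X)) _
      exact bijective_mid_contra t hF hG T' hT' (e T.obj₂ 1 h2) ((bijective_app_iff t _).2 (h1' n))
        ((bijective_app_iff t _).2 (h2 n)) (e (T.obj₁⟦(1 : ℤ)⟧) (-1) h1')
    · let Q : DRing.Cx R ⥤ Dual.D R := DerivedCategory.Q
      have hb := fun Y => DerivedProd.hom_from_coproduct_bijective (A := ModuleCat.{u} R) K Y
      let q : ∀ L : DRing.Cx R, DerivedCategory.Qh.obj ((HomotopyCategory.quotient _ _).obj L) ≅ Q.obj L :=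
        fun L => (DerivedCategory.quotientCompQhIso _).app L
      let c : Cofan fun i => Q.obj (K i) := Cofan.mk (Q.obj (∐ K)) fun i => Q.map (Sigma.ι K i)
      have hq : ∀ i, (q (K i)).hom ≫ c.inj i =
          DerivedCategory.Qh.map ((HomotopyCategory.quotient _ _).map (Sigma.ι K i)) ≫ (q (∐ K)).hom := fun i =>
        ((DerivedCategory.quotientCompQhIso (ModuleCat.{u} R)).hom.naturality (Sigma.ι K i)).symm
      let hc : IsColimit c := Cofan.IsColimit.mk c
        (fun s => (q (∐ K)).inv ≫ ((hb s.pt).surjective fun i => (q (K i)).hom ≫ s.inj i).choose)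
        (fun s i => by
          rw [← cancel_epi (q (K i)).hom, reassoc_of% (hq i), Iso.hom_inv_id_assoc]
          exact congrFun ((hb s.pt).surjective fun i => (q (K i)).hom ≫ s.inj i).choose_spec i)
        fun s g hg => by
          rw [Iso.eq_inv_comp]
          refine (hb s.pt).injective ((funext fun i => ?_).trans
            ((hb s.pt).surjective fun i => (q (K i)).hom ≫ s.inj i).choose_spec.symm)
          rw [← Category.assoc, ← hq, Category.assoc, hg i]
      let hc' := Cofan.isColimitMapCoconeEquiv (shiftFunctor (Dual.D R) n) _ c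
        (isColimitOfPreserves (shiftFunctor (Dual.D R) n) hc)
      exact (bijective_app_iff t (op _)).1
        (bijective_Ψ_coprod φ X M _ _ hc' hA fun i => (bijective_app_iff t (op _)).2 (h i n))
  haveI := hP 0
  exact (bijective_app_iff t (op K)).2 (isIso_app_of_iso t ((shiftFunctorZero (Dual.D R) ℤ).app K).symm.op)

theorem isPerfect_res_unit_of_module [Algebra R A] (h : DRing.IsPerfectModule R A) :
    DRing.IsPerfect R ((DRing.restrictD (algebraMap R A)).obj (_root_.DTen.unit A)) := by
  obtain ⟨E, a, b, hv, hp, ⟨e⟩⟩ := h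
  refine ⟨E, a, b, hv, hp, ⟨e ≪≫ (DerivedCategory.singleFunctorIsoCompQ (ModuleCat.{u} R) 0).app _ ≪≫
    DerivedCategory.Q.mapIso ?_ ≪≫ ((_root_.DTen.resFactors (algebraMap R A)).app _).symm⟩⟩
  let m : (ModuleCat.of R A) ≅ (ModuleCat.restrictScalars (algebraMap R A)).obj (ModuleCat.of A A) :=
    @LinearEquiv.toModuleIso R _ _ _ _ _ (ModuleCat.of R A).isModule
      ((ModuleCat.restrictScalars (algebraMap R A)).obj (ModuleCat.of A A)).isModule
      { toFun := fun a => a
        invFun := fun a => a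
        map_add' := fun _ _ => rfl
        map_smul' := fun r a => Algebra.smul_def r (a : A)
        left_inv := fun _ => rfl
        right_inv := fun _ => rfl }
  exact (HomologicalComplex.single _ _ 0).mapIso m ≪≫
    ((HomologicalComplex.singleMapHomologicalComplex (ModuleCat.restrictScalars (algebraMap R A))
      (ComplexShape.up ℤ) 0).app (ModuleCat.of A A)).symm

end Groth.L10.DTen
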