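/-
Small objects of the derived category of a ring; coproducts.
-/
import Groth.Agent.L10.DTen.PerfBC
import Groth.Agent.L29.K.Perfect

set_option autoImplicit false
set_option backward.defeqAttrib.useBackward true
set_option backward.isDefEq.respectTransparency false
set_option backward.isDefEq.respectTransparency.types false

universe u

open CategoryTheory CategoryTheory.Limits CategoryTheory.Pretriangulated MonoidalCategory Opposite

attribute [local instance] HasDerivedCategory.standard

namespace Groth.L10.DTen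

variable {B : Type u} [CommRing B]

theorem hasCoproducts (ι : Type u) : HasCoproductsOfShape ι (Dual.D B) := DerivedProd.hasCoproductsOfShape

/-- the localisation functor keeps coproducts -/
theorem preservesCoproducts_Q (ι : Type u) :
    PreservesColimitsOfShape (Discrete ι) (DerivedCategory.Q : DRing.Cx B ⥤ Dual.D B) := by
  haveI : ∀ K : ι → DRing.Cx B, PreservesColimit (Discrete.functor K) (DerivedCategory.Q : DRing.Cx B ⥤ Dual.D B) := by
    intro K
    refine preservesColimit_of_preserves_colimit_cocone (colimit.isColimit (Discrete.functor K))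
      ((Cofan.isColimitMapCoconeEquiv DerivedCategory.Q K _).symm ?_)
    have hb := fun Y => DerivedProd.hom_from_coproduct_bijective (A := ModuleCat.{u} B) K Y
    let q : ∀ L : DRing.Cx B, DerivedCategory.Qh.obj ((HomotopyCategory.quotient _ _).obj L) ≅ DerivedCategory.Q.obj L :=
      fun L => (DerivedCategory.quotientCompQhIso _).app L
    have hq : ∀ i, (q (K i)).hom ≫ DerivedCategory.Q.map (Sigma.ι K i) =
        DerivedCategory.Qh.map ((HomotopyCategory.quotient _ _).map (Sigma.ι K i)) ≫ (q (∐ K)).hom := fun i =>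
      ((DerivedCategory.quotientCompQhIso (ModuleCat.{u} B)).hom.naturality (Sigma.ι K i)).symm
    exact Cofan.IsColimit.mk _
      (fun s => (q (∐ K)).inv ≫ ((hb s.pt).surjective fun i => (q (K i)).hom ≫ s.inj i).choose)
      (fun s i => by
        rw [← cancel_epi (q (K i)).hom]
        change (q (K i)).hom ≫ DerivedCategory.Q.map (Sigma.ι K i) ≫ _ = _
        rw [reassoc_of% (hq i), Iso.hom_inv_id_assoc]
        exact congrFun ((hb s.pt).surjective fun i => (q (K i)).hom ≫ s.inj i).choose_spec i)
      fun s g hg => by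
        rw [Iso.eq_inv_comp]
        refine (hb s.pt).injective ((funext fun i => ?_).trans
          ((hb s.pt).surjective fun i => (q (K i)).hom ≫ s.inj i).choose_spec.symm)
        rw [← Category.assoc, ← hq, Category.assoc]
        exact congrArg _ (hg i)
  exact preservesColimitsOfShape_of_discrete _

/-- the projection of a coproduct on a summand -/
noncomputable def pr {ι : Type u} [DecidableEq ι] (X : ι → Dual.D B) [HasCoproduct X] (i : ι) : ∐ X ⟶ X i :=
  Sigma.desc (Pi.single i (𝟙 (X i)))

theorem ι_pr {ι : Type u} [DecidableEq ι] (X : ι → Dual.D B) [HasCoproduct X] (i : ι) :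
    Sigma.ι X i ≫ pr X i = 𝟙 _ := by simp [pr]

theorem ι_pr_ne {ι : Type u} [DecidableEq ι] (X : ι → Dual.D B) [HasCoproduct X] {i j : ι} (h : i ≠ j) :
    Sigma.ι X i ≫ pr X j = 0 := by
  rw [pr, Sigma.ι_desc, Pi.single_eq_of_ne h]

/-- the projector on finitely many summands -/
noncomputable def prj {ι : Type u} [DecidableEq ι] (X : ι → Dual.D B) [HasCoproduct X] (s : Finset ι) :
    ∐ X ⟶ ∐ X :=
  ∑ i ∈ s, pr X i ≫ Sigma.ι X i

theorem ι_prj {ι : Type u} [DecidableEq ι] (X : ι → Dual.D B) [HasCoproduct X] (s : Finset ι) (i : ι) :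
    Sigma.ι X i ≫ prj X s = if i ∈ s then Sigma.ι X i else 0 := by
  rw [prj, Preadditive.comp_sum]
  by_cases h : i ∈ s
  · rw [Finset.sum_eq_single i (fun j _ hj => by rw [← Category.assoc, ι_pr_ne X (Ne.symm hj), zero_comp])
      (fun hn => absurd h hn), ← Category.assoc, ι_pr, Category.id_comp, if_pos h]
  · rw [if_neg h]
    exact Finset.sum_eq_zero fun j hj => by
      rw [← Category.assoc, ι_pr_ne X (fun (e : i = j) => h (e ▸ hj)), zero_comp]

theorem prj_comp {ι : Type u} [DecidableEq ι] (X : ι → Dual.D B) [HasCoproduct X] {s t : Finset ι} (h : s ⊆ t) :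
    prj X s ≫ prj X t = prj X s := by
  refine Sigma.hom_ext _ _ fun i => ?_
  rw [← Category.assoc, ι_prj]
  by_cases hi : i ∈ s
  · rw [if_pos hi, ι_prj, if_pos (h hi)]
  · rw [if_neg hi, zero_comp]

/-- maps into coproducts involve finitely many summands -/
def Small (P : Dual.D B) : Prop :=
  ∀ (ι : Type u) [DecidableEq ι] (X : ι → Dual.D B) [HasCoproduct X] (f : P ⟶ ∐ X),
    ∃ s : Finset ι, ∀ t, s ⊆ t → f ≫ prj X t = f

theorem small_single (n : ℤ) :
    Small (DerivedCategory.Q.obj (DerivedModGen.gen B n)) := by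
  intro ι _ X _ f
  classical
  let K : ι → DRing.Cx B := fun i => DerivedCategory.Q.objPreimage (X i)
  let e : ∀ i, DerivedCategory.Q.obj (K i) ≅ X i := fun i => DerivedCategory.Q.objObjPreimageIso (X i)
  haveI := preservesCoproducts_Q (B := B) ι
  let c := isColimitOfHasCoproductOfPreservesColimit (DerivedCategory.Q : DRing.Cx B ⥤ Dual.D B) K
  let φ : ∐ X ⟶ DerivedCategory.Q.obj (∐ K) :=
    Sigma.desc fun i => (e i).inv ≫ DerivedCategory.Q.map (Sigma.ι K i)
  let ψ : DerivedCategory.Q.obj (∐ K) ⟶ ∐ X := c.desc (Cofan.mk _ fun i => (e i).hom ≫ Sigma.ι X i)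
  have hψ : ∀ i, DerivedCategory.Q.map (Sigma.ι K i) ≫ ψ = (e i).hom ≫ Sigma.ι X i := fun i => c.fac _ ⟨i⟩
  have hφψ : φ ≫ ψ = 𝟙 _ := Sigma.hom_ext _ _ fun i => by simp [φ, hψ]
  obtain ⟨z, hz'⟩ := Groth.L02.PC.exists_chainMap (P := DerivedModGen.gen B n) (K := ∐ K) (f ≫ φ)
  obtain ⟨s, hs⟩ := DerivedModGen.exists_finset_eq K n z
  refine ⟨s, fun t ht => ?_⟩
  have hf : f = ∑ i ∈ s, DerivedCategory.Q.map (z ≫ Sigma.desc (Pi.single i (𝟙 (K i)))) ≫ (e i).hom ≫ Sigma.ι X i := by
    calc f = (f ≫ φ) ≫ ψ := by rw [Category.assoc, hφψ, Category.comp_id]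
      _ = DerivedCategory.Q.map z ≫ ψ := by rw [hz']
      _ = DerivedCategory.Q.map (∑ i ∈ s, z ≫ Sigma.desc (Pi.single i (𝟙 (K i))) ≫ Sigma.ι K i) ≫ ψ := by rw [← hs]
      _ = _ := by
        rw [Functor.map_sum, Preadditive.sum_comp]
        refine Finset.sum_congr rfl fun i _ => ?_
        rw [← Category.assoc z, Functor.map_comp, Category.assoc, hψ]
  rw [hf, Preadditive.sum_comp]
  refine Finset.sum_congr rfl fun i hi => ?_
  rw [Category.assoc, Category.assoc, ι_prj, if_pos (ht hi)]

theorem small_of_perfect {P : Dual.D B} (hP : DRing.IsPerfect B P) : Small P := by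
  let S : ObjectProperty (Dual.D B) := fun P => Small P
  haveI : S.IsClosedUnderIsomorphisms := ⟨fun {X Y} e h ι _ Z _ f => by
    obtain ⟨s, hs⟩ := h _ Z (e.hom ≫ f)
    exact ⟨s, fun t ht => by rw [← cancel_epi e.hom, ← Category.assoc, hs t ht]⟩⟩
  refine perfect_induction S (fun T hT h1 h3 => ?_) (fun {X Y} r h => ?_) (fun n => ?_) hP
  · intro ι _ X _ f
    obtain ⟨s, hs⟩ := h1 _ X (T.mor₁ ≫ f)
    have h0 : T.mor₁ ≫ (f ≫ prj X s - f) = 0 := by
      rw [Preadditive.comp_sub, sub_eq_zero, ← Category.assoc, hs s (Finset.Subset.refl s)]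
    obtain ⟨g, hg⟩ := Triangle.yoneda_exact₂ _ hT _ h0
    obtain ⟨r, hr⟩ := h3 _ X g
    refine ⟨s ∪ r, fun t ht => ?_⟩
    have h2 : (f ≫ prj X s - f) ≫ prj X t = f ≫ prj X s - f := by
      rw [hg, Category.assoc, hr t (Finset.union_subset_right ht)]
    rw [Preadditive.sub_comp, Category.assoc, prj_comp X (Finset.union_subset_left ht)] at h2
    exact sub_right_inj.1 h2
  · intro ι _ Z _ f
    obtain ⟨s, hs⟩ := h _ Z (r.r ≫ f)
    refine ⟨s, fun t ht => ?_⟩
    calc f ≫ prj Z t = r.i ≫ (r.r ≫ f) ≫ prj Z t := by simp only [Category.assoc, r.retract_assoc]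
      _ = f := by rw [hs t ht, r.retract_assoc]
  · exact S.prop_of_iso
      (((DerivedCategory.singleFunctorIsoCompQ (ModuleCat.{u} B) (-n)).app (ModuleCat.of B B)).symm ≪≫
        (Groth.L10.DR.singleShift (-n) (ModuleCat.of B B)).symm ≪≫ eqToIso (by rw [neg_neg]) ≪≫
        (shiftFunctor (Dual.D B) n).mapIso
          ((DerivedCategory.singleFunctorIsoCompQ (ModuleCat.{u} B) 0).app (ModuleCat.of B B)))
      (small_single (-n) : S _)

theorem isPerfect_shift_unit (n : ℤ) : DRing.IsPerfect B ((_root_.DTen.unit B)⟦n⟧) :=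
  Groth.L29.Perfect.shift (Groth.L29.Perfect.of_iso
    ((DerivedCategory.singleFunctorIsoCompQ (ModuleCat.{u} B) 0).app (ModuleCat.of B B))
    (Groth.L29.Perfect.self (A := B))) n

/-- isomorphisms are detected by the shifts of the unit -/
theorem isIso_of_units {X X' : Dual.D B} (α : X ⟶ X')
    (h : ∀ n : ℤ, Function.Bijective (fun k : (_root_.DTen.unit B)⟦n⟧ ⟶ X => k ≫ α)) : IsIso α := by
  let t : preadditiveYoneda.obj X ⟶ preadditiveYoneda.obj X' := preadditiveYoneda.map α
  have hE : ∀ Z : Dual.D B, ExactMidC (preadditiveYoneda.obj Z) := fun Z T hT =>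
    exact_hom_to (ExTri.of_triangle T hT) Z
  have hb : ∀ Y : Dual.D B, Function.Bijective (fun k : Y ⟶ X => k ≫ α) := by
    intro Y
    let P : Dual.D B → Prop := fun Y => ∀ n : ℤ, IsIso (t.app (op (Y⟦n⟧)))
    have hP : P Y := by
      refine generation P (fun e h n => ?_) (fun m n => ?_) (fun T hT h1 h2 n => ?_) (fun {ι} K h n => ?_) Y
      · haveI := h n
        exact isIso_app_of_iso t ((shiftFunctor (Dual.D B) n).mapIso e).symm.op
      · haveI := (bijective_app_iff t (op ((_root_.DTen.unit B)⟦m + n⟧))).1 (h (m + n))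
        exact isIso_app_of_iso t ((shiftFunctorAdd (Dual.D B) m n).app _).symm.op
      · let T' := (Triangle.shiftFunctor (Dual.D B) n).obj T.rotate
        have hT' : T' ∈ distTriang _ := Triangle.shift_distinguished T.rotate (rot_of_distTriang _ hT) n
        have e : ∀ (X : Dual.D B) (m : ℤ), P X → Function.Bijective (t.app (op ((X⟦n⟧)⟦m⟧))).hom := fun X m hX =>
          (bijective_app_iff t _).2 (haveI := hX (n + m)
            isIso_app_of_iso t ((shiftFunctorAdd (Dual.D B) n m).app X).symm.op)
        have h1' : P (T.obj₁⟦(1 : ℤ)⟧) := fun k => haveI := h1 (1 + k)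
          isIso_app_of_iso t ((shiftFunctorAdd (Dual.D B) 1 k).app T.obj₁).symm.op
        exact bijective_mid_contra t (hE X) (hE X') T' hT' (e T.obj₂ 1 h2) ((bijective_app_iff t _).2 (h1' n))
          ((bijective_app_iff t _).2 (h2 n)) (e (T.obj₁⟦(1 : ℤ)⟧) (-1) h1')
      · haveI := preservesCoproducts_Q (B := B) ι
        let G := DerivedCategory.Q ⋙ shiftFunctor (Dual.D B) n
        let c := isColimitOfHasCoproductOfPreservesColimit G K
        refine (bijective_app_iff t (op _)).1 ⟨fun a b hab => ?_, fun g => ?_⟩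
        · refine Cofan.IsColimit.hom_ext c _ _ fun i => ((bijective_app_iff t (op _)).2 (h i n)).injective ?_
          exact (Category.assoc _ _ _).trans ((congrArg (_ ≫ ·) hab).trans (Category.assoc _ _ _).symm)
        · choose k hk using fun i => ((bijective_app_iff t (op _)).2 (h i n)).surjective (G.map (Sigma.ι K i) ≫ g)
          refine ⟨c.desc (Cofan.mk X k), Cofan.IsColimit.hom_ext c _ _ fun i => ?_⟩
          refine (Category.assoc _ _ _).symm.trans ((congrArg (· ≫ α) (c.fac (Cofan.mk X k) ⟨i⟩)).trans ?_)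
          exact hk i
    haveI := hP 0
    exact (bijective_app_iff t (op Y)).2 (isIso_app_of_iso t ((shiftFunctorZero (Dual.D B) ℤ).app Y).symm.op)
  exact isIso_of_yoneda_map_bijective _ hb

/-- a right adjoint of a functor sending the unit to a small object keeps coproducts -/
theorem preservesCoproducts_rightAdjoint {B' : Type u} [CommRing B'] {F : Dual.D B' ⥤ Dual.D B}
    {G : Dual.D B ⥤ Dual.D B'} (adj : F ⊣ G) [G.Additive]
    (hF : ∀ n : ℤ, Small (F.obj ((_root_.DTen.unit B')⟦n⟧))) (ι : Type u) :
    PreservesColimitsOfShape (Discrete ι) G := by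
  classical
  haveI := hasCoproducts (B := B) ι
  haveI := hasCoproducts (B := B') ι
  haveI : ∀ X : ι → Dual.D B, PreservesColimit (Discrete.functor X) G := by
    intro X
    haveI : IsIso (sigmaComparison G X) := by
      refine isIso_of_units _ fun n => ⟨fun a b hab => ?_, fun x => ?_⟩
      · have hs := small_of_perfect (isPerfect_shift_unit (B := B') n)
        obtain ⟨s, hs⟩ := hs _ (fun i => G.obj (X i)) (a - b)
        rw [← sub_eq_zero, ← hs s (Finset.Subset.refl s), prj, Preadditive.comp_sum]
        refine Finset.sum_eq_zero fun j _ => ?_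
        have hp : sigmaComparison G X ≫ G.map (pr X j) = pr (fun i => G.obj (X i)) j := by
          refine Sigma.hom_ext _ _ fun i => ?_
          rw [ι_comp_sigmaComparison_assoc, ← Functor.map_comp]
          by_cases h : i = j
          · subst h; rw [ι_pr, ι_pr, CategoryTheory.Functor.map_id]
          · rw [ι_pr_ne X h, ι_pr_ne _ h, Functor.map_zero]
        rw [← hp]
        simp only [Category.assoc, Preadditive.sub_comp]
        rw [reassoc_of% hab, sub_self]
      · obtain ⟨s, hs⟩ := hF n _ X ((adj.homEquiv _ _).symm x)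
        refine ⟨∑ i ∈ s, (adj.homEquiv _ _) ((adj.homEquiv _ _).symm x ≫ pr X i) ≫ Sigma.ι (fun i => G.obj (X i)) i, ?_⟩
        refine Eq.trans ?_ (((adj.homEquiv _ _).apply_symm_apply x).symm.trans
          (congrArg _ (hs s (Finset.Subset.refl s)).symm)).symm
        simp only [Preadditive.sum_comp, Category.assoc, ι_comp_sigmaComparison, prj, Preadditive.comp_sum,
          Adjunction.homEquiv_unit, Functor.map_sum, Functor.map_comp]
    exact PreservesCoproduct.of_iso_comparison G X
  exact preservesColimitsOfShape_of_discrete _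

/-- tensoring keeps coproducts -/
theorem preservesCoproducts_tensor [_root_.DTen.HasLTen B] (X : Dual.D B) (ι : Type u) :
    PreservesColimitsOfShape (Discrete ι) (_root_.DTen.tensorRightD B X) := by
  obtain ⟨N, hN, ⟨e⟩⟩ := Groth.L10.KFlat.exists_rep X
  haveI := preservesCoproducts_Q (B := B) ι
  haveI : PreservesColimitsOfShape (Discrete ι) (Groth.L10.KFlat.T N) := inferInstance
  haveI : PreservesColimitsOfShape (Discrete ι)
      (DerivedCategory.Q ⋙ _root_.DTen.tensorRightD B (DerivedCategory.Q.obj N)) :=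
    preservesColimitsOfShape_of_natIso (rightIso N hN).symm
  haveI : ∀ Y : ι → Dual.D B,
      PreservesColimit (Discrete.functor Y) (_root_.DTen.tensorRightD B (DerivedCategory.Q.obj N)) := by
    intro Y
    let K : ι → DRing.Cx B := fun i => DerivedCategory.Q.objPreimage (Y i)
    let iY : Discrete.functor K ⋙ DerivedCategory.Q ≅ Discrete.functor Y :=
      Discrete.natIso fun i => DerivedCategory.Q.objObjPreimageIso (Y i.as)
    haveI : PreservesColimit (Discrete.functor K ⋙ DerivedCategory.Q)
        (_root_.DTen.tensorRightD B (DerivedCategory.Q.obj N)) :=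
      preservesColimit_of_preserves_colimit_cocone
        (isColimitOfPreserves DerivedCategory.Q (colimit.isColimit (Discrete.functor K)))
        (isColimitOfPreserves (DerivedCategory.Q ⋙ _root_.DTen.tensorRightD B (DerivedCategory.Q.obj N))
          (colimit.isColimit (Discrete.functor K)))
    exact preservesColimit_of_iso_diagram _ iY
  haveI := preservesColimitsOfShape_of_discrete (J := ι) (_root_.DTen.tensorRightD B (DerivedCategory.Q.obj N))
  exact preservesColimitsOfShape_of_natIso ((_root_.DTen.LTen B).flip.mapIso e)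

end Groth.L10.DTen
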