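/-
`RHom(A, -)` of a perfect algebra is tensoring with `RHom(A, R)`.
-/
import Groth.Agent.L10.DTen.Small
import Groth.Agent.L10.DTen.Single

set_option autoImplicit false
set_option backward.defeqAttrib.useBackward true
set_option backward.isDefEq.respectTransparency false
set_option backward.isDefEq.respectTransparency.types false

universe u v w

open CategoryTheory CategoryTheory.Limits CategoryTheory.Pretriangulated MonoidalCategory Opposite

attribute [local instance] HasDerivedCategory.standard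

namespace Groth.L10.DTen

variable {R A : Type u} [CommRing R] [CommRing A] (φ : R →+* A)

theorem isoOfKFlat_comp {H : Type v} [Category.{w} H] {F G : Dual.D R ⥤ H}
    (e : Groth.L10.KFlat.R R ⋙ DerivedCategory.Q ⋙ F ≅ Groth.L10.KFlat.R R ⋙ DerivedCategory.Q ⋙ G)
    {T : DRing.Cx R ⥤ H} (V : DerivedCategory.Q ⋙ G ⟶ T) (W : DerivedCategory.Q ⋙ F ⟶ T)
    (h : ∀ K, e.hom.app K ≫ V.app ((Groth.L10.KFlat.R R).obj K) = W.app ((Groth.L10.KFlat.R R).obj K))
    (K : DRing.Cx R) : (isoOfKFlat e).hom.app (DerivedCategory.Q.obj K) ≫ V.app K = W.app K := by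
  have hV := V.naturality ((Groth.L10.KFlat.r R).app K)
  have hW := W.naturality ((Groth.L10.KFlat.r R).app K)
  haveI := Groth.L10.KFlat.isIso_Q_map ((Groth.L10.KFlat.r R).app K) inferInstance
  dsimp at hV hW
  simp only [isoOfKFlat, Localization.liftNatIso_hom, Localization.liftNatTrans_app, Localization.Lifting.iso,
    Iso.trans_hom, Iso.symm_hom, NatTrans.comp_app, asIso_hom, asIso_inv, NatIso.isIso_inv_app,
    Functor.whiskerRight_app, Functor.leftUnitor_inv_app, Functor.leftUnitor_hom_app, Iso.refl_hom, Iso.refl_inv,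
    NatTrans.id_app, Functor.comp_obj, Functor.id_obj, Category.id_comp, Category.comp_id, Category.assoc]
  rw [IsIso.inv_comp_eq]
  erw [hV, reassoc_of% (h K)]
  exact hW.symm

section Mix

variable [_root_.DTen.HasLTen R] [_root_.DTen.HasLTenMix φ]

/-- `K ↦ K ⊗^L_R QN` -/
noncomputable abbrev Mix (N : DRing.Cx A) : Dual.D R ⥤ Dual.D A :=
  (Functor.curry.obj (_root_.DTen.LTenMix φ)).flip.obj (DerivedCategory.Q.obj N)

/-- `res (QK ⊗^L_R QN) ⟶ Q(K ⊗ res N)` -/
noncomputable def mixW (N : DRing.Cx A) : DerivedCategory.Q ⋙ Mix φ N ⋙ DRing.restrictD φ ⟶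
    tensorRight ((_root_.DTen.resCx φ).obj N) ⋙ DerivedCategory.Q where
  app K := (DRing.restrictD φ).map ((_root_.DTen.εMix φ).app (K, N)) ≫
    (_root_.DTen.resFactors φ).hom.app _ ≫ DerivedCategory.Q.map ((κ φ N).inv.app K)
  naturality K K' f := by
    have h1 := (_root_.DTen.εMix φ).naturality (X := (K, N)) (Y := (K', N)) (Prod.mkHom f (𝟙 N))
    have h2 := (_root_.DTen.resFactors φ).hom.naturality ((_root_.DTen.extCx φ).map f ▷ N)
    have h3 := (κ φ N).inv.naturality f
    dsimp at h1 h2 h3 ⊢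
    simp only [CategoryTheory.Functor.map_id, MonoidalCategory.whiskerLeft_id, Category.comp_id] at h1
    rw [← Functor.map_comp_assoc, h1, Functor.map_comp_assoc, reassoc_of% h2, ← Functor.map_comp, h3]
    simp only [Category.assoc, Functor.map_comp]

/-- `QK ⊗^L res QN ⟶ Q(K ⊗ res N)` -/
noncomputable def tenV (N : DRing.Cx A) : DerivedCategory.Q ⋙
      _root_.DTen.tensorRightD R ((DRing.restrictD φ).obj (DerivedCategory.Q.obj N)) ⟶
    tensorRight ((_root_.DTen.resCx φ).obj N) ⋙ DerivedCategory.Q :=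
  Functor.whiskerLeft DerivedCategory.Q ((_root_.DTen.LTen R).flip.map ((_root_.DTen.resFactors φ).hom.app N)) ≫
    _root_.DTen.εRight R ((_root_.DTen.resCx φ).obj N)

theorem mixResQ_comp (N : DRing.Cx A) (K : DRing.Cx R) :
    (mixResQ φ N).hom.app (DerivedCategory.Q.obj K) ≫ (tenV φ N).app K = (mixW φ N).app K := by
  refine isoOfKFlat_comp _ (tenV φ N) (mixW φ N) (fun K => ?_) K
  haveI := isIso_ε R ((Groth.L10.KFlat.R R).obj K) ((_root_.DTen.resCx φ).obj N) (Or.inl (Groth.L10.KFlat.isKFlat_R K))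
  dsimp [tenV, mixW, tenResIso, resQ]
  simp only [Category.assoc, Category.comp_id, Category.id_comp, NatIso.isIso_inv_app, Functor.whiskerLeft_app]
  erw [← tL_comp_assoc, Iso.inv_hom_id_app, tL_id, Category.id_comp, IsIso.inv_hom_id, Category.comp_id]

/-- `Z⟦-m⟧ ≅ QS ⊗^L Z` -/
noncomputable def singleShiftIso (S : DRing.Cx R) (hflat : DRing.IsKFlat R S) (m : ℤ)
    (hS : ∀ p, p ≠ m → IsZero (S.X p)) (u : S.X m ≅ 𝟙_ (ModuleCat.{u} R)) :
    shiftFunctor (Dual.D R) (-m) ≅ (_root_.DTen.LTen R).obj (DerivedCategory.Q.obj S) :=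
  Localization.liftNatIso DerivedCategory.Q (_root_.DTen.qis R) (DerivedCategory.Q ⋙ shiftFunctor (Dual.D R) (-m))
    (DerivedCategory.Q ⋙ (_root_.DTen.LTen R).obj (DerivedCategory.Q.obj S)) _ _
    (((DerivedCategory.Q : DRing.Cx R ⥤ Dual.D R).commShiftIso (-m)).symm ≪≫
      NatIso.ofComponents (fun L =>
        haveI : IsIso ((_root_.DTen.εLeft R S).app L) := isIso_ε R S L (Or.inl hflat)
        DerivedCategory.Q.mapIso (Single.βR S m hS u L) ≪≫ (asIso ((_root_.DTen.εLeft R S).app L)).symm)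
      fun {L L'} f => by
        haveI : IsIso ((_root_.DTen.εLeft R S).app L) := isIso_ε R S L (Or.inl hflat)
        haveI : IsIso ((_root_.DTen.εLeft R S).app L') := isIso_ε R S L' (Or.inl hflat)
        have h := (_root_.DTen.εLeft R S).naturality f
        have h' := congrArg DerivedCategory.Q.map (Single.βR_natural S m hS u f)
        rw [Functor.map_comp, Functor.map_comp] at h'
        dsimp at h h' ⊢
        rw [reassoc_of% h', Category.assoc]
        refine congrArg (_ ≫ ·) ?_
        rw [IsIso.comp_inv_eq, Category.assoc, h, IsIso.inv_hom_id_assoc])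

variable {N : DRing.Cx A} (ρ : (DRing.restrictD φ).obj (DerivedCategory.Q.obj N) ⟶ _root_.DTen.unit R)

/-- the pairing `res (K ⊗^L_R QN) ⟶ K` -/
noncomputable def pairing : Mix φ N ⋙ DRing.restrictD φ ⟶ 𝟭 (Dual.D R) :=
  (mixResQ φ N).hom ≫ (_root_.DTen.LTen R).flip.map ρ ≫ _root_.DTen.unitR R

/-- universality of a map from a restriction -/
def Univ {W : Dual.D A} {Z : Dual.D R} (r : (DRing.restrictD φ).obj W ⟶ Z) : Prop :=
  ∀ Y : Dual.D A, Function.Bijective (fun g : Y ⟶ W => (DRing.restrictD φ).map g ≫ r)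

theorem Univ.of_iso {W W' : Dual.D A} {Z Z' : Dual.D R} {r : (DRing.restrictD φ).obj W ⟶ Z} (h : Univ φ r)
    (e : W' ≅ W) (e' : Z ≅ Z') : Univ φ ((DRing.restrictD φ).map e.hom ≫ r ≫ e'.hom) := fun Y => by
  refine ⟨fun a b hab => (cancel_mono e.hom).1 ((h Y).injective ?_), fun k => ?_⟩
  · simp only [← cancel_mono e'.hom, Functor.map_comp, Category.assoc]
    exact hab
  · obtain ⟨g, hg⟩ := (h Y).surjective (k ≫ e'.inv)
    refine ⟨g ≫ e.inv, ?_⟩
    dsimp at hg ⊢
    rw [← Functor.map_comp_assoc, Category.assoc, e.inv_hom_id, Category.comp_id, reassoc_of% hg, e'.inv_hom_id,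
      Category.comp_id]

theorem Univ.shift {W : Dual.D A} {Z : Dual.D R} {r : (DRing.restrictD φ).obj W ⟶ Z} (h : Univ φ r) (k : ℤ) :
    Univ φ (((DRing.restrictD φ).commShiftIso k).hom.app W ≫ (shiftFunctor (Dual.D R) k).map r) := fun Y => by
  let Y' := (shiftFunctor (Dual.D A) k).objPreimage Y
  let e : Y'⟦k⟧ ≅ Y := (shiftFunctor (Dual.D A) k).objObjPreimageIso Y
  have key : ∀ g' : Y' ⟶ W, (DRing.restrictD φ).map (e.inv ≫ g'⟦k⟧') ≫
      (((DRing.restrictD φ).commShiftIso k).hom.app W ≫ (shiftFunctor (Dual.D R) k).map r) =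
        ((DRing.restrictD φ).map e.inv ≫ ((DRing.restrictD φ).commShiftIso k).hom.app Y') ≫
          (shiftFunctor (Dual.D R) k).map ((DRing.restrictD φ).map g' ≫ r) := fun g' => by
    have hn := ((DRing.restrictD φ).commShiftIso k).hom.naturality g'
    dsimp at hn
    rw [Functor.map_comp, Category.assoc, Category.assoc, reassoc_of% hn, ← Functor.map_comp]
  let Φ : (Y' ⟶ W) → (Y ⟶ W⟦k⟧) := fun g' => e.inv ≫ g'⟦k⟧'
  have hΦ : Function.Bijective Φ :=
    ⟨fun a b hab => (shiftFunctor (Dual.D A) k).map_injective ((cancel_epi e.inv).1 hab),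
      fun g => ⟨(shiftFunctor (Dual.D A) k).preimage (e.hom ≫ g), by simp [Φ]⟩⟩
  refine (Function.Bijective.of_comp_iff _ hΦ).1 ?_
  rw [show ((fun g : Y ⟶ W⟦k⟧ => (DRing.restrictD φ).map g ≫
      (((DRing.restrictD φ).commShiftIso k).hom.app W ≫ (shiftFunctor (Dual.D R) k).map r)) ∘ Φ) =
    (fun x => ((DRing.restrictD φ).map e.inv ≫ ((DRing.restrictD φ).commShiftIso k).hom.app Y') ≫ x) ∘
      (fun x => (shiftFunctor (Dual.D R) k).map x) ∘ (fun g' => (DRing.restrictD φ).map g' ≫ r) from funext key]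
  exact Function.Bijective.comp ⟨fun a b hab => (cancel_epi _).1 hab,
      fun x => ⟨inv ((DRing.restrictD φ).map e.inv ≫ ((DRing.restrictD φ).commShiftIso k).hom.app Y') ≫ x,
        IsIso.hom_inv_id_assoc _ _⟩⟩
    (Function.Bijective.comp ⟨fun a b hab => (shiftFunctor (Dual.D R) k).map_injective hab,
      fun x => ⟨(shiftFunctor (Dual.D R) k).preimage x, by simp⟩⟩ (h Y'))

/-- the pairing at a generator is universal -/
theorem univ_pairing_single (h : Univ φ ρ) (S : DRing.Cx R) (hflat : DRing.IsKFlat R S) (m : ℤ)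
    (hS : ∀ p, p ≠ m → IsZero (S.X p)) (u : S.X m ≅ 𝟙_ (ModuleCat.{u} R)) :
    Univ φ ((pairing φ ρ).app (DerivedCategory.Q.obj S)) := by
  haveI := isIso_εMix φ hflat N
  haveI := isIso_ε R S ((_root_.DTen.resCx φ).obj N) (Or.inl hflat)
  haveI := isIso_unitR (A := R) (DerivedCategory.Q.obj S)
  let β' := Single.βR ((_root_.DTen.extCx φ).obj S) m (fun p hp => (_root_.DTen.extM φ).map_isZero (hS p hp))
    ((_root_.DTen.extM φ).mapIso u ≪≫ (Functor.Monoidal.εIso (_root_.DTen.extM φ)).symm) N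
  let qA := ((DerivedCategory.Q : DRing.Cx A ⥤ Dual.D A).commShiftIso (-m)).app N
  let lam : (DerivedCategory.Q.obj N)⟦-m⟧ ≅ (Mix φ N).obj (DerivedCategory.Q.obj S) :=
    qA.symm ≪≫ DerivedCategory.Q.mapIso β' ≪≫ (asIso ((_root_.DTen.εMix φ).app (S, N))).symm
  let c := singleShiftIso S hflat m hS u
  let a : (_root_.DTen.unit R)⟦-m⟧ ≅ DerivedCategory.Q.obj S :=
    c.app (_root_.DTen.unit R) ≪≫ asIso ((_root_.DTen.unitR R).app (DerivedCategory.Q.obj S))
  have hh := (h.shift φ (-m)).of_iso φ lam.symm a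
  refine (?_ : (pairing φ ρ).app (DerivedCategory.Q.obj S) = _) ▸ hh
  rw [← cancel_epi ((DRing.restrictD φ).map lam.hom), ← Functor.map_comp_assoc]
  simp only [Iso.symm_hom, Iso.hom_inv_id, CategoryTheory.Functor.map_id, Category.id_comp]
  dsimp only [pairing, NatTrans.comp_app]
  have hm := mixResQ_comp φ N S
  haveI : IsIso ((tenV φ N).app S) := by
    haveI := isIso_LTen_map (𝟙 (DerivedCategory.Q.obj S)) ((_root_.DTen.resFactors φ).hom.app N) inferInstance
      inferInstance
    dsimp [tenV, _root_.DTen.εRight]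
    infer_instance
  rw [← IsIso.eq_comp_inv] at hm
  rw [hm]
  have hb : DerivedCategory.Q.map ((_root_.DTen.resCx φ).map β'.hom) ≫ DerivedCategory.Q.map ((κ φ N).inv.app S) =
      DerivedCategory.Q.map (((_root_.DTen.resCx φ).commShiftIso (-m)).hom.app N) ≫
        DerivedCategory.Q.map (Single.βR S m hS u ((_root_.DTen.resCx φ).obj N)).hom := by
    rw [← Functor.map_comp, ← Functor.map_comp]
    refine congrArg _ ?_
    rw [← cancel_mono ((κ φ N).hom.app S), Category.assoc, Category.assoc, Iso.inv_hom_id_app,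
      show (Single.βR S m hS u ((_root_.DTen.resCx φ).obj N)).hom ≫ (κ φ N).hom.app S = _ from
        Single.βR_κ φ S m hS u N, Iso.hom_inv_id_app_assoc]
    exact Category.comp_id _
  have hr := (_root_.DTen.resFactors φ).hom.naturality β'.hom
  have hs := NatTrans.shift_app_comm (_root_.DTen.resFactors φ).hom (-m) N
  have hc := c.hom.naturality ((_root_.DTen.resFactors φ).inv.app N ≫ ρ)
  have hcL : c.hom.app (DerivedCategory.Q.obj ((_root_.DTen.resCx φ).obj N)) =
      (((DerivedCategory.Q : DRing.Cx R ⥤ Dual.D R).commShiftIso (-m)).inv.app ((_root_.DTen.resCx φ).obj N)) ≫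
        DerivedCategory.Q.map (Single.βR S m hS u ((_root_.DTen.resCx φ).obj N)).hom ≫
          inv ((_root_.DTen.ε R).app (S, (_root_.DTen.resCx φ).obj N)) := by
    simp [c, singleShiftIso, Localization.Lifting.iso, _root_.DTen.εLeft]
  have hV : inv ((tenV φ N).app S) = inv ((_root_.DTen.ε R).app (S, (_root_.DTen.resCx φ).obj N)) ≫
      tL (DerivedCategory.Q.obj S) ((_root_.DTen.resFactors φ).inv.app N) := by
    refine IsIso.inv_eq_of_hom_inv_id ?_
    dsimp [tenV, _root_.DTen.εRight]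
    rw [Category.assoc, IsIso.hom_inv_id_assoc]
    erw [← tL_comp, Iso.hom_inv_id_app, tL_id]
  rw [hV]
  dsimp [lam, mixW, qA, a] at hr hs hc ⊢
  simp only [Functor.commShiftIso_comp_hom_app, Category.assoc] at hs
  simp only [Category.assoc, Functor.map_comp, Functor.map_id] at hc ⊢
  simp only [Category.assoc, Functor.map_inv, IsIso.inv_hom_id_assoc]
  rw [reassoc_of% hr, reassoc_of% hb]
  have key : (DRing.restrictD φ).map (((DerivedCategory.Q : DRing.Cx A ⥤ Dual.D A).commShiftIso (-m)).inv.app N) ≫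
      (_root_.DTen.resFactors φ).hom.app (N⟦-m⟧) ≫
        DerivedCategory.Q.map (((_root_.DTen.resCx φ).commShiftIso (-m)).hom.app N) =
      ((DRing.restrictD φ).commShiftIso (-m)).hom.app (DerivedCategory.Q.obj N) ≫
        (shiftFunctor (Dual.D R) (-m)).map ((_root_.DTen.resFactors φ).hom.app N) ≫
          ((DerivedCategory.Q : DRing.Cx R ⥤ Dual.D R).commShiftIso (-m)).inv.app ((_root_.DTen.resCx φ).obj N) := by
    rw [← cancel_epi ((DRing.restrictD φ).map
      (((DerivedCategory.Q : DRing.Cx A ⥤ Dual.D A).commShiftIso (-m)).hom.app N)), ← Functor.map_comp_assoc,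
      Iso.hom_inv_id_app, reassoc_of% hs]
    erw [CategoryTheory.Functor.map_id, Category.id_comp, Iso.hom_inv_id_app, Category.comp_id]
  rw [reassoc_of% key, ← reassoc_of% hcL, ← tL_comp_assoc]
  erw [← reassoc_of% hc]
  rw [← Functor.map_comp_assoc, Iso.hom_inv_id_app]
  erw [CategoryTheory.Functor.map_id, Category.id_comp]

end Mix

section Main

variable [_root_.DTen.HasLTen R] [_root_.DTen.HasLTenMix φ] [_root_.DTen.HasRHomRel φ]
  {N : DRing.Cx A} (ρ : (DRing.restrictD φ).obj (DerivedCategory.Q.obj N) ⟶ _root_.DTen.unit R)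

/-- the comparison -/
noncomputable def toRel : Mix φ N ⟶ _root_.DTen.RHomRel φ :=
  ((_root_.DTen.relAdj φ).unit |> fun η => (Functor.rightUnitor _).inv ≫ Functor.whiskerLeft (Mix φ N) η) ≫
    (Functor.associator _ _ _).inv ≫ Functor.whiskerRight (pairing φ ρ) (_root_.DTen.RHomRel φ) ≫
    (Functor.leftUnitor _).hom

theorem toRel_app (K : Dual.D R) :
    (toRel φ ρ).app K = (_root_.DTen.relAdj φ).homEquiv _ _ ((pairing φ ρ).app K) := by
  simp [toRel, Adjunction.homEquiv_unit]

theorem isIso_toRel_of_univ {K : Dual.D R} (h : Univ φ ((pairing φ ρ).app K)) : IsIso ((toRel φ ρ).app K) := by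
  refine isIso_of_yoneda_map_bijective _ fun Y => ?_
  rw [show (fun g : Y ⟶ (Mix φ N).obj K => g ≫ (toRel φ ρ).app K) =
    (_root_.DTen.relAdj φ).homEquiv _ _ ∘ (fun g => (DRing.restrictD φ).map g ≫ (pairing φ ρ).app K) from
      funext fun g => by rw [toRel_app]; exact ((_root_.DTen.relAdj φ).homEquiv_naturality_left g _).symm]
  exact (Equiv.bijective _).comp (h Y)

theorem isIso_toRel (hρ : Univ φ ρ) (hA : DRing.IsPerfect R ((DRing.restrictD φ).obj (_root_.DTen.unit A))) :
    IsIso (toRel φ ρ) := by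
  letI := (_root_.DTen.relAdj φ).rightAdjointCommShift ℤ
  haveI := (_root_.DTen.relAdj φ).commShift_of_leftAdjoint ℤ
  haveI : (_root_.DTen.RHomRel φ).IsTriangulated := (_root_.DTen.relAdj φ).isTriangulated_rightAdjoint
  let F := Mix φ N ⋙ DRing.restrictD φ
  let G := _root_.DTen.RHomRel φ ⋙ DRing.restrictD φ
  let t : F ⟶ G := Functor.whiskerRight (toRel φ ρ) (DRing.restrictD φ)
  have hF : TriF F := (triF_right _).of_iso (mixResQ φ N).symm
  have hG : TriF G := fun T hT => ExTri.of_triangle _ (G.map_distinguished T hT)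
  have hone : ∀ n : ℤ, DRing.IsPerfect R ((DRing.restrictD φ).obj ((_root_.DTen.unit A)⟦n⟧)) := fun n =>
    Groth.L29.Perfect.of_iso (((DRing.restrictD φ).commShiftIso n).app (_root_.DTen.unit A)).symm
      (Groth.L29.Perfect.shift hA n)
  haveI hbase : ∀ m : ℤ, IsIso ((toRel φ ρ).app (DerivedCategory.Q.obj (DerivedModGen.gen R m))) := fun m =>
    isIso_toRel_of_univ φ ρ (univ_pairing_single φ ρ hρ _
      (Groth.L10.KFlat.single (ModuleCat.of R R) inferInstance m) m
      (fun p hp => HomologicalComplex.isZero_single_obj_X _ _ _ _ hp)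
      (HomologicalComplex.singleObjXSelf (ComplexShape.up ℤ) m (ModuleCat.of R R)))
  haveI : ∀ K, IsIso (t.app K) := fun K => by
    let P : Dual.D R → Prop := fun K => ∀ n : ℤ, IsIso (t.app (K⟦n⟧))
    have hP : P K := by
      refine generation P (fun e h n => ?_) (fun m n => ?_) (fun T hT h1 h2 n => ?_) (fun {ι} K h n => ?_) K
      · haveI := h n
        exact isIso_app_of_iso t ((shiftFunctor (Dual.D R) n).mapIso e)
      · haveI : IsIso (t.app ((CochainComplex.singleFunctor (ModuleCat.{u} R) (-(m + n)) ⋙ DerivedCategory.Q).obj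
            (ModuleCat.of R R))) :=
          inferInstanceAs (IsIso ((DRing.restrictD φ).map ((toRel φ ρ).app (DerivedCategory.Q.obj (DerivedModGen.gen R (-(m + n)))))))
        exact isIso_app_of_iso t
          (((DerivedCategory.singleFunctorIsoCompQ (ModuleCat.{u} R) (-(m + n))).app (ModuleCat.of R R)).symm ≪≫
            (Groth.L10.DR.singleShift (-(m + n)) (ModuleCat.of R R)).symm ≪≫ eqToIso (by rw [neg_neg]) ≪≫
            (shiftFunctor (Dual.D R) (m + n)).mapIso
              ((DerivedCategory.singleFunctorIsoCompQ (ModuleCat.{u} R) 0).app (ModuleCat.of R R)) ≪≫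
            (shiftFunctorAdd (Dual.D R) m n).app _)
      · let T' := (Triangle.shiftFunctor (Dual.D R) n).obj T.rotate
        have hT' : T' ∈ distTriang _ := Triangle.shift_distinguished T.rotate (rot_of_distTriang _ hT) n
        have e : ∀ (X : Dual.D R) (m : ℤ), P X → IsIso (t.app ((X⟦n⟧)⟦m⟧)) := fun X m hX =>
          haveI := hX (n + m)
          isIso_app_of_iso t ((shiftFunctorAdd (Dual.D R) n m).app X)
        have h1' : P (T.obj₁⟦(1 : ℤ)⟧) := fun k => haveI := h1 (1 + k)
          isIso_app_of_iso t ((shiftFunctorAdd (Dual.D R) 1 k).app T.obj₁)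
        have hb : ∀ {Z : Dual.D R}, IsIso (t.app Z) → ∀ Y, Function.Bijective (fun k : Y ⟶ F.obj Z => k ≫ t.app Z) :=
          fun hZ Y => ⟨fun a b hab => (cancel_mono _).1 hab, fun k => ⟨k ≫ inv (t.app _), by simp⟩⟩
        refine isIso_of_yoneda_map_bijective _ fun Y => ?_
        exact bijective_mid (F := fun X => Y ⟶ F.obj X) (G := fun X => Y ⟶ G.obj X)
          (fun f => AddMonoidHom.mk' (fun k => k ≫ F.map f) fun a b => Preadditive.add_comp _ _ _ _ _ _)
          (fun f => AddMonoidHom.mk' (fun k => k ≫ G.map f) fun a b => Preadditive.add_comp _ _ _ _ _ _)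
          (fun X => AddMonoidHom.mk' (fun k => k ≫ t.app X) fun a b => Preadditive.add_comp _ _ _ _ _ _)
          (fun f a => ((Category.assoc _ _ _).trans (congrArg (a ≫ ·) (t.naturality f).symm)).trans
            (Category.assoc _ _ _).symm)
          (fun T hT => exact_hom_from (hF T hT) Y) (fun T hT => exact_hom_from (hG T hT) Y)
          T' hT' (hb (e (T.obj₁⟦(1 : ℤ)⟧) (-1) h1') Y) (hb (h2 n) Y) (hb (h1' n) Y) (hb (e T.obj₂ 1 h2) Y)
      · haveI := preservesCoproducts_Q (B := R) ι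
        haveI : PreservesColimitsOfShape (Discrete ι) F :=
          haveI := preservesCoproducts_tensor ((DRing.restrictD φ).obj (DerivedCategory.Q.obj N)) ι
          preservesColimitsOfShape_of_natIso (mixResQ φ N).symm
        haveI : PreservesColimitsOfShape (Discrete ι) G :=
          haveI := preservesCoproducts_rightAdjoint (_root_.DTen.relAdj φ) (fun n => small_of_perfect (hone n)) ι
          haveI := (_root_.DTen.relAdj φ).leftAdjoint_preservesColimits.preservesColimitsOfShape (J := Discrete ι)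
          inferInstance
        let Q' := DerivedCategory.Q ⋙ shiftFunctor (Dual.D R) n
        let c := isColimitOfHasCoproductOfPreservesColimit (Q' ⋙ F) K
        let c' := isColimitOfHasCoproductOfPreservesColimit (Q' ⋙ G) K
        haveI hK : ∀ i, IsIso (t.app (Q'.obj (K i))) := fun i => h i n
        let d := c'.desc (Cofan.mk _ fun i => inv (t.app (Q'.obj (K i))) ≫ (Q' ⋙ F).map (Sigma.ι K i))
        have hd : ∀ i, (Q' ⋙ G).map (Sigma.ι K i) ≫ d =
            inv (t.app (Q'.obj (K i))) ≫ (Q' ⋙ F).map (Sigma.ι K i) := fun i => c'.fac _ ⟨i⟩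
        refine ⟨d, Cofan.IsColimit.hom_ext c _ _ fun i => ?_, Cofan.IsColimit.hom_ext c' _ _ fun i => ?_⟩
        · change (Q' ⋙ F).map (Sigma.ι K i) ≫ t.app (Q'.obj (∐ K)) ≫ d = (Q' ⋙ F).map (Sigma.ι K i) ≫ 𝟙 _
          rw [← Category.assoc]
          erw [t.naturality (Q'.map (Sigma.ι K i))]
          rw [Category.assoc]
          erw [hd i, IsIso.hom_inv_id_assoc, Category.comp_id]
        · change (Q' ⋙ G).map (Sigma.ι K i) ≫ d ≫ t.app (Q'.obj (∐ K)) = (Q' ⋙ G).map (Sigma.ι K i) ≫ 𝟙 _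
          rw [← Category.assoc, hd i, Category.assoc]
          erw [t.naturality (Q'.map (Sigma.ι K i)), IsIso.inv_hom_id_assoc, Category.comp_id]
          rfl
    haveI := hP 0
    exact isIso_app_of_iso t ((shiftFunctorZero (Dual.D R) ℤ).app K)
  haveI : ∀ K, IsIso ((toRel φ ρ).app K) := fun K =>
    haveI : IsIso ((DRing.restrictD φ).map ((toRel φ ρ).app K)) := inferInstanceAs (IsIso (t.app K))
    isIso_of_reflects_iso _ (DRing.restrictD φ)
  exact NatIso.isIso_of_isIso_app _

end Main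

theorem nonempty_RHomRel_iso [_root_.DTen.HasRHomRel φ] [_root_.DTen.HasLTenMix φ]
    (hA : DRing.IsPerfect R ((DRing.restrictD φ).obj (_root_.DTen.unit A))) :
    Nonempty (_root_.DTen.RHomRel φ ≅
      (Functor.curry.obj (_root_.DTen.LTenMix φ)).flip.obj ((_root_.DTen.RHomRel φ).obj (_root_.DTen.unit R))) := by
  haveI := hasLTen R
  obtain ⟨N, -, ⟨e⟩⟩ := Groth.L10.KFlat.exists_rep ((_root_.DTen.RHomRel φ).obj (_root_.DTen.unit R))
  let ρ := (DRing.restrictD φ).map e.hom ≫ _root_.DTen.relEv φ (_root_.DTen.unit R)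
  have hρ : Univ φ ρ := fun Y => by
    rw [show (fun g : Y ⟶ DerivedCategory.Q.obj N => (DRing.restrictD φ).map g ≫ ρ) =
      ((_root_.DTen.relAdj φ).homEquiv _ _).symm ∘ (fun g => g ≫ e.hom) from funext fun g => by
        simp [ρ, Adjunction.homEquiv_counit]]
    exact (Equiv.bijective _).comp ⟨fun a b hab => (cancel_mono _).1 hab, fun k => ⟨k ≫ e.inv, by simp⟩⟩
  haveI := isIso_toRel φ ρ hρ hA
  exact ⟨(asIso (toRel φ ρ)).symm ≪≫ (Functor.curry.obj (_root_.DTen.LTenMix φ)).flip.mapIso e⟩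

end Groth.L10.DTen
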