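/-
Evaluation maps on pseudo-coherent arguments: amplitude bounds and approximation by perfect objects.
-/
import Groth.Agent.L10.DTen.Eval
import Groth.Agent.L10.DTen.Small
import Groth.Agent.L10.DTen.Single
import Groth.Agent.L10.DTen.RelIso
import Groth.Agent.L02.PC.Trunc
import Groth.Agent.L29.Dual.HomD

set_option autoImplicit false
set_option backward.defeqAttrib.useBackward true
set_option backward.isDefEq.respectTransparency false
set_option backward.isDefEq.respectTransparency.types false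

universe u

open CategoryTheory CategoryTheory.Limits CategoryTheory.Pretriangulated MonoidalCategory Opposite

attribute [local instance] HasDerivedCategory.standard

namespace Groth.L10.DTen.Bounds

open Groth.L02.PC (LEH HH)

variable {A : Type u} [CommRing A]

/-- cohomology vanishes below `n` -/
def GEH (X : Dual.D A) (n : ℤ) : Prop := ∀ i, i < n → IsZero ((HH i).obj X)

theorem leh_shift {X : Dual.D A} {n : ℤ} (h : LEH X n) (a : ℤ) : LEH (X⟦a⟧) (n - a) := fun i hi =>
  (h (a + i) (by omega)).of_iso (((DerivedCategory.homologyFunctor (ModuleCat.{u} A) 0).shiftIso a i (a + i) rfl).app X)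

theorem geh_shift {X : Dual.D A} {n : ℤ} (h : GEH X n) (a : ℤ) : GEH (X⟦a⟧) (n - a) := fun i hi =>
  (h (a + i) (by omega)).of_iso (((DerivedCategory.homologyFunctor (ModuleCat.{u} A) 0).shiftIso a i (a + i) rfl).app X)

theorem leh_of_iso {X Y : Dual.D A} (e : X ≅ Y) {n : ℤ} (h : LEH X n) : LEH Y n := fun i hi =>
  (h i hi).of_iso ((HH i).mapIso e.symm)

theorem geh_of_iso {X Y : Dual.D A} (e : X ≅ Y) {n : ℤ} (h : GEH X n) : GEH Y n := fun i hi =>
  (h i hi).of_iso ((HH i).mapIso e.symm)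

theorem eq_zero_of_le_ge {X Y : Dual.D A} {a b : ℤ} (hab : a < b) (hX : LEH X a) (hY : GEH Y b)
    (f : X ⟶ Y) : f = 0 := by
  obtain ⟨P, hP, -, hK, ⟨e⟩⟩ := Groth.L02.PC.exists_free_rep hX
  haveI := hK
  haveI : Y.IsGE b := (DerivedCategory.isGE_iff Y b).2 hY
  obtain ⟨L, hL, ⟨e'⟩⟩ := DerivedCategory.exists_iso_Q_obj_of_isGE Y b
  haveI := hL
  obtain ⟨g, hg⟩ := Groth.L02.PC.exists_chainMap (P := P) (K := L) (e.hom ≫ f ≫ e'.hom)
  have h0 : g = 0 := by
    ext i : 1
    by_cases hi : a < i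
    · exact (hP i hi).eq_of_src _ _
    · exact (CochainComplex.isZero_of_isStrictlyGE L b i (by omega)).eq_of_tgt _ _
  rw [h0, Functor.map_zero] at hg
  rw [← cancel_epi e.hom, ← cancel_mono e'.hom, Category.assoc, comp_zero, zero_comp]
  exact hg.symm

theorem eq_zero_of_injAmp {W M : Dual.D A} {a b w : ℤ} (hM : DRing.HasInjAmplitudeIn A a b M) (hW : GEH W w)
    (hbw : b < w) (f : W ⟶ M) : f = 0 := by
  obtain ⟨I, hv, hinj, ⟨e⟩⟩ := hM
  haveI : I.IsStrictlyGE a := (CochainComplex.isStrictlyGE_iff I a).2 fun j hj => hv j (Or.inl hj)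
  haveI : ∀ n, Injective (I.X n) := fun n =>
    haveI := hinj n; Module.injective_object_of_injective_module A (I.X n)
  haveI := CochainComplex.isKInjective_of_injective I a
  haveI : W.IsGE w := (DerivedCategory.isGE_iff W w).2 hW
  obtain ⟨L, hL, ⟨e'⟩⟩ := DerivedCategory.exists_iso_Q_obj_of_isGE W w
  haveI := hL
  let q : ∀ K : DRing.Cx A, DerivedCategory.Qh.obj ((HomotopyCategory.quotient _ _).obj K) ≅ DerivedCategory.Q.obj K :=
    fun K => (DerivedCategory.quotientCompQhIso _).app K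
  obtain ⟨k, hk⟩ := (CochainComplex.IsKInjective.Qh_map_bijective ((HomotopyCategory.quotient _ _).obj L) I).surjective
    ((q L).hom ≫ e'.inv ≫ f ≫ e.inv ≫ (q I).inv)
  obtain ⟨g, rfl⟩ := (HomotopyCategory.quotient _ _).map_surjective k
  have h0 : g = 0 := by
    ext i : 1
    by_cases hi : b < i
    · exact (hv i (Or.inr hi)).eq_of_tgt _ _
    · exact (CochainComplex.isZero_of_isStrictlyGE L w i (by omega)).eq_of_src _ _
  rw [h0, Functor.map_zero, Functor.map_zero] at hk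
  rw [← cancel_epi e'.inv, ← cancel_mono e.inv, ← cancel_epi (q L).hom, ← cancel_mono (q I).inv]
  simp only [Category.assoc, comp_zero, zero_comp]
  exact hk.symm

/-- maps from a shift of the unit see cohomology -/
theorem isZero_iff_hom (X : Dual.D A) (i : ℤ) :
    IsZero ((HH i).obj X) ↔ ∀ f : (_root_.DTen.unit A)⟦-i⟧ ⟶ X, f = 0 := by
  let adj := (shiftEquiv (Dual.D A) (-i)).toAdjunction
  let e : ((_root_.DTen.unit A)⟦-i⟧ ⟶ X) ≃ Dual.HD A X i :=
    (adj.homEquiv _ _).trans ((Iso.homCongr ((DerivedCategory.singleFunctorIsoCompQ (ModuleCat.{u} A) 0).app _).symm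
      ((eqToIso (by simp) : shiftFunctor (Dual.D A) (- -i) ≅ shiftFunctor (Dual.D A) i).app X)).trans
      (Groth.L29.HomD.evalShiftEquiv X i).toEquiv)
  refine ⟨fun h f => e.injective ((@Subsingleton.elim _ (ModuleCat.subsingleton_of_isZero h) _ _)), fun h => ?_⟩
  haveI : Subsingleton ((_root_.DTen.unit A)⟦-i⟧ ⟶ X) := ⟨fun f g => (h f).trans (h g).symm⟩
  haveI : Subsingleton (Dual.HD A X i) := e.symm.subsingleton
  exact ModuleCat.isZero_of_subsingleton _

/-- the complex of a shift of the unit -/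
noncomputable def genIso (n : ℤ) : DerivedCategory.Q.obj (DerivedModGen.gen A (-n)) ≅ (_root_.DTen.unit A)⟦n⟧ :=
  ((DerivedCategory.singleFunctorIsoCompQ (ModuleCat.{u} A) (-n)).app (ModuleCat.of A A)).symm ≪≫
    (Groth.L10.DR.singleShift (-n) (ModuleCat.of A A)).symm ≪≫ eqToIso (by rw [neg_neg]) ≪≫
    (shiftFunctor (Dual.D A) n).mapIso
      ((DerivedCategory.singleFunctorIsoCompQ (ModuleCat.{u} A) 0).app (ModuleCat.of A A))

theorem leh_unit_shift (n : ℤ) : LEH ((_root_.DTen.unit A)⟦n⟧) (-n) := fun i hi => by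
  refine IsZero.of_iso ?_ ((HH i).mapIso (genIso n).symm)
  rw [Groth.L02.PC.isZero_HH_Q_iff, ← HomologicalComplex.exactAt_iff_isZero_homology]
  exact HomologicalComplex.ExactAt.of_isZero (HomologicalComplex.isZero_single_obj_X _ _ _ _ (by omega))

variable [_root_.DTen.HasLTen A]

theorem leh_tensor {X Y : Dual.D A} {a b : ℤ} (hX : LEH X a) (hY : LEH Y b) :
    LEH ((_root_.DTen.LTen₂ A).obj (X, Y)) (a + b) := by
  obtain ⟨P, hP, hPf, -, ⟨e⟩⟩ := Groth.L02.PC.exists_free_rep hX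
  obtain ⟨Q, hQ, hQf, -, ⟨e'⟩⟩ := Groth.L02.PC.exists_free_rep hY
  haveI : ∀ i, Module.Flat A (P.X i) := fun i => by haveI := hPf i; infer_instance
  haveI := isIso_ε A P Q (Or.inl (Groth.L10.KFlat.of_bounded P a hP fun i => inferInstance))
  refine leh_of_iso ((asIso ((_root_.DTen.ε A).app (P, Q))).symm ≪≫
    (_root_.DTen.LTen₂ A).mapIso (Iso.prod e e' : (DerivedCategory.Q.obj P, DerivedCategory.Q.obj Q) ≅ (X, Y)))
    fun i hi => ?_
  refine (Groth.L02.PC.isZero_HH_Q_iff (P ⊗ Q : DRing.Cx A) i).2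
    ((HomologicalComplex.exactAt_iff_isZero_homology _ i).1 (HomologicalComplex.ExactAt.of_isZero ?_))
  rw [IsZero.iff_id_eq_zero]
  refine HomologicalComplex.mapBifunctor.hom_ext fun p q h => ?_
  change p + q = i at h
  refine IsZero.eq_of_src ?_ _ _
  by_cases hp : a < p
  · exact ((curriedTensor (ModuleCat.{u} A)).flip.obj (Q.X q)).map_isZero (hP p hp)
  · exact ((curriedTensor (ModuleCat.{u} A)).obj (P.X p)).map_isZero (hQ q (by omega))

theorem geh_unit_tensor {X : Dual.D A} {w : ℤ} (hX : GEH X w) (n : ℤ) :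
    GEH ((_root_.DTen.LTen₂ A).obj ((_root_.DTen.unit A)⟦n⟧, X)) (w - n) := by
  let c := singleShiftIso (DerivedModGen.gen A (-n))
    (Groth.L10.KFlat.single (ModuleCat.of A A) inferInstance (-n)) (-n)
    (fun p hp => HomologicalComplex.isZero_single_obj_X _ _ _ _ hp)
    (HomologicalComplex.singleObjXSelf (ComplexShape.up ℤ) (-n) (ModuleCat.of A A))
  refine geh_of_iso (c.app X ≪≫ ((_root_.DTen.LTen A).mapIso (genIso n)).app X) fun i hi => ?_
  exact geh_shift hX (- -n) i (by omega)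

variable [_root_.DTen.HasRHom A]

theorem rhom_eq_zero_iff {Y L M : Dual.D A} :
    (∀ f : Y ⟶ (_root_.DTen.RHomR A L).obj M, f = 0) ↔ ∀ g : (_root_.DTen.LTen₂ A).obj (Y, L) ⟶ M, g = 0 := by
  have h : Subsingleton (Y ⟶ (_root_.DTen.RHomR A L).obj M) ↔ Subsingleton ((_root_.DTen.LTen₂ A).obj (Y, L) ⟶ M) :=
    (_root_.DTen.rhomHomEquiv Y L M).symm.subsingleton_congr
  exact ⟨fun hf g => (h.1 ⟨fun a b => (hf a).trans (hf b).symm⟩).elim _ _,
    fun hg f => (h.2 ⟨fun a b => (hg a).trans (hg b).symm⟩).elim _ _⟩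

theorem geh_RHom {C L : Dual.D A} {c n : ℤ} (hC : LEH C c) (hL : GEH L n) :
    GEH ((_root_.DTen.RHomR A C).obj L) (n - c) := fun i hi =>
  (isZero_iff_hom _ i).2 (rhom_eq_zero_iff.2 fun g =>
    eq_zero_of_le_ge (show - -i + c < n by omega) (leh_tensor (leh_unit_shift (-i)) hC) hL g)

theorem leh_RHom {L M : Dual.D A} {a b n : ℤ} (hL : GEH L n) (hM : DRing.HasInjAmplitudeIn A a b M) :
    LEH ((_root_.DTen.RHomR A L).obj M) (b - n) := fun i hi =>
  (isZero_iff_hom _ i).2 (rhom_eq_zero_iff.2 fun g =>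
    eq_zero_of_injAmp hM (geh_unit_tensor hL (-i)) (by omega) g)

/-- pseudo-coherent objects are approximated by perfect ones -/
theorem exists_perfect_approx {K : Dual.D A} (hK : DRing.IsPseudoCoherent' A K) (m : ℤ) :
    ∃ (P C : Dual.D A) (f : P ⟶ K) (g : K ⟶ C) (h : C ⟶ P⟦(1 : ℤ)⟧),
      Triangle.mk f g h ∈ distTriang _ ∧ DRing.IsPerfect A P ∧ LEH C m := by
  obtain ⟨E, b, hb, hE, ⟨e⟩⟩ := hK
  let f : DRing.toD (Groth.L02.PC.trunc E (m + 1)) ⟶ K :=
    DerivedCategory.Q.map (Groth.L02.PC.truncι E (m + 1)) ≫ e.hom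
  obtain ⟨C, g, h, hT⟩ := distinguished_cocone_triangle f
  refine ⟨_, C, f, g, h, hT, ⟨_, m + 1, b, Groth.L02.PC.trunc_vanishesOutside E (m + 1) b hb, fun i => ?_,
    ⟨Iso.refl _⟩⟩, fun i hi => ?_⟩
  · obtain ⟨_, _⟩ := Groth.L02.PC.trunc_finiteFree E (m + 1) (fun i _ => hE i) i
    exact ⟨inferInstance, inferInstance⟩
  · exact (Groth.L02.PC.isApprox_iff _ hT (m + 1)).1
      ((Groth.L02.PC.isApprox_truncι E (m + 1)).comp (Groth.L02.PC.IsApprox.of_isIso e.hom _)) i (by omega)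

end Groth.L10.DTen.Bounds

namespace Groth.L10.DTen

open Groth.L02.PC (LEH)

variable {A : Type u} [CommRing A] [_root_.DTen.HasLTen A] [_root_.DTen.HasLTen₃ A]
  [_root_.DTen.IsSymMonoidal A] [_root_.DTen.HasRHom A]

theorem exact_bijective {F₁ F₂ F₃ F₄ : Type*} [AddCommGroup F₁] [AddCommGroup F₂] [AddCommGroup F₃] [AddCommGroup F₄]
    (a : F₁ →+ F₂) (b : F₂ →+ F₃) (c : F₃ →+ F₄) (h1 : Function.Exact a b) (h2 : Function.Exact b c)
    (z1 : ∀ x : F₁, x = 0) (z4 : ∀ x : F₄, x = 0) : Function.Bijective b := by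
  refine ⟨(injective_iff_map_eq_zero b).2 fun x hx => ?_, fun y => (h2 y).1 (z4 _)⟩
  obtain ⟨w, rfl⟩ := (h1 x).1 hx
  rw [z1 w, map_zero]

theorem isIso_evalHom_of_pc (K L M : Dual.D A) (hK : DRing.IsPseudoCoherent' A K) (n : ℤ)
    (hL : DerivedCategory.IsGE L n) (hM : DRing.HasFiniteInjDim A M) : IsIso (_root_.DTen.evalHom K L M) := by
  obtain ⟨a, b, hM⟩ := hM
  have hL' : Bounds.GEH L n := (DerivedCategory.isGE_iff L n).1 hL
  refine isIso_of_units _ fun s => ?_
  let X := (_root_.DTen.unit A)⟦s⟧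
  have e : (fun x : X ⟶ (_root_.DTen.LTen₂ A).obj ((_root_.DTen.RHomR A L).obj M, K) => x ≫ _root_.DTen.evalHom K L M) =
      _root_.DTen.rhomHomEquiv X _ _ ∘ homHom X K L M := funext fun x => homEquiv_pre x _
  rw [e]
  refine (Equiv.bijective _).comp ?_
  obtain ⟨P, C, f, g, h, hT, hP, hC⟩ := Bounds.exists_perfect_approx hK (min (-s - (b - n)) (n - b - s) - 2)
  let T := Triangle.mk f g h
  let t := homNat X L M
  have zF : ∀ {Z : Dual.D A} {c : ℤ}, LEH Z c → b - n + c < -s →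
      ∀ x : X ⟶ (_root_.DTen.LTen₂ A).obj ((_root_.DTen.RHomR A L).obj M, Z), x = 0 := fun {Z c} hZ hc x => by
    have hz : IsZero ((Groth.L02.PC.HH (-s)).obj ((_root_.DTen.LTen₂ A).obj ((_root_.DTen.RHomR A L).obj M, Z))) :=
      Bounds.leh_tensor (Bounds.leh_RHom hL' hM) hZ (-s) hc
    have := (Bounds.isZero_iff_hom _ (-s)).1 hz
    rw [neg_neg] at this
    exact this x
  have zG : ∀ {Z : Dual.D A} {c : ℤ}, LEH Z c → b < n - c - s →
      ∀ x : (_root_.DTen.LTen₂ A).obj (X, (_root_.DTen.RHomR A Z).obj L) ⟶ M, x = 0 := fun {Z c} hZ hc x =>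
    Bounds.eq_zero_of_injAmp hM (Bounds.geh_unit_tensor (Bounds.geh_RHom hZ hL') s) hc x
  have hC' := Bounds.leh_shift hC (-1 : ℤ)
  have hFm := exactMid_from ((_root_.DTen.LTen A).obj ((_root_.DTen.RHomR A L).obj M)) (triF_left _) X
  have hGm := exactMid_to (((_root_.DTen.RHom A).flip.obj L ⋙ (_root_.DTen.LTen A).obj X))
    ((triC_RHom L).comp (triF_left X)) M
  have bF := exact_bijective _ _ _ (hFm T.invRotate (inv_rot_of_distTriang _ hT)) (hFm T hT)
    (fun x => zF hC' (by omega) x) (fun x => zF hC (by omega) x)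
  have bG := exact_bijective _ _ _ (hGm T.invRotate (inv_rot_of_distTriang _ hT)) (hGm T hT)
    (fun x => zG hC' (by omega) x) (fun x => zG hC (by omega) x)
  have hPb : Function.Bijective (homHom X P L M) := (bijective_app_iff t P).2
    (isIso_of_perfect t (exactMid_from _ (triF_left _) _) (exactMid_to _ ((triC_RHom L).comp (triF_left X)) _)
      (fun n => (bijective_app_iff t _).1 (bijective_homHom _ X L M)) hP)
  refine (Function.Bijective.of_comp_iff _ bF).1 ?_
  refine (congrArg Function.Bijective (funext fun x => (homHom_natural f x :)) :).mpr ?_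
  exact bG.comp hPb

end Groth.L10.DTen
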