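/-
Base change for `RHom` with pseudo-coherent source and bounded below target.
-/
import Groth.Agent.L10.DTen.PseudoCoh
import Groth.Agent.L10.DRing.TorDim

set_option autoImplicit false
set_option backward.defeqAttrib.useBackward true
set_option backward.isDefEq.respectTransparency false
set_option backward.isDefEq.respectTransparency.types false

universe u

open CategoryTheory CategoryTheory.Limits CategoryTheory.Pretriangulated MonoidalCategory Opposite

attribute [local instance] HasDerivedCategory.standard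

namespace Groth.L10.DTen.Bounds

open Groth.L02.PC (LEH HH)

variable {R A : Type u} [CommRing R] [CommRing A]

theorem geh_tensor_amp [_root_.DTen.HasLTen R] {Y E : Dual.D R} {a b w : ℤ} (hY : GEH Y w)
    (hE : DRing.HasTorAmplitudeIn R a b E) : GEH ((_root_.DTen.LTen₂ R).obj (Y, E)) (w + a) := by
  obtain ⟨P, hP, hPf, ⟨e⟩⟩ := hE
  haveI : Y.IsGE w := (DerivedCategory.isGE_iff Y w).2 hY
  obtain ⟨L, hL, ⟨e'⟩⟩ := DerivedCategory.exists_iso_Q_obj_of_isGE Y w
  haveI := hL
  haveI := isIso_ε R L P (Or.inr (Groth.L10.KFlat.of_bounded P b (fun i hi => hP i (Or.inr hi)) hPf))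
  refine geh_of_iso ((asIso ((_root_.DTen.ε R).app (L, P))).symm ≪≫
    (_root_.DTen.LTen₂ R).mapIso (Iso.prod e'.symm e : (DerivedCategory.Q.obj L, DerivedCategory.Q.obj P) ≅ (Y, E)))
    fun i hi => ?_
  refine (Groth.L02.PC.isZero_HH_Q_iff (L ⊗ P : DRing.Cx R) i).2
    ((HomologicalComplex.exactAt_iff_isZero_homology _ i).1 (HomologicalComplex.ExactAt.of_isZero ?_))
  rw [IsZero.iff_id_eq_zero]
  refine HomologicalComplex.mapBifunctor.hom_ext fun p q h => ?_
  change p + q = i at h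
  refine IsZero.eq_of_src ?_ _ _
  by_cases hp : p < w
  · exact ((curriedTensor (ModuleCat.{u} R)).flip.obj (P.X q)).map_isZero
      (CochainComplex.isZero_of_isStrictlyGE L w p hp)
  · exact ((curriedTensor (ModuleCat.{u} R)).obj (L.X p)).map_isZero (hP q (Or.inl (by omega)))

variable (φ : R →+* A) [_root_.DTen.HasLBase φ]

theorem leh_LBase {X : Dual.D R} {a : ℤ} (hX : LEH X a) : LEH ((_root_.DTen.LBase φ).obj X) a := by
  obtain ⟨P, hP, hPf, -, ⟨e⟩⟩ := Groth.L02.PC.exists_free_rep hX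
  haveI : ∀ i, Module.Flat R (P.X i) := fun i => by haveI := hPf i; infer_instance
  haveI := isIso_baseCmp φ (Groth.L10.KFlat.of_bounded P a hP fun i => inferInstance)
  refine leh_of_iso ((asIso ((_root_.DTen.baseCmp φ).app P)).symm ≪≫ (_root_.DTen.LBase φ).mapIso e) fun i hi => ?_
  exact (Groth.L02.PC.isZero_HH_Q_iff _ i).2 ((HomologicalComplex.exactAt_iff_isZero_homology _ i).1
    (HomologicalComplex.ExactAt.of_isZero ((_root_.DTen.extM φ).map_isZero (hP i hi))))

omit [_root_.DTen.HasLBase φ] in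
theorem geh_of_res {Z : Dual.D A} {w : ℤ} (h : GEH ((DRing.restrictD φ).obj Z) w) : GEH Z w := by
  obtain ⟨K, -, ⟨e⟩⟩ := Groth.L10.KFlat.exists_rep Z
  refine geh_of_iso e fun i hi => (Groth.L02.PC.isZero_HH_Q_iff K i).2 ?_
  refine (Groth.L00.KFlatAlg.acyclic_restrictScalars φ K i).1 ((Groth.L02.PC.isZero_HH_Q_iff _ i).1 ?_)
  exact geh_of_iso ((DRing.restrictD φ).mapIso e.symm ≪≫ (_root_.DTen.resFactors φ).app K) h i hi

theorem geh_LBase [_root_.DTen.HasLTen R] {Y : Dual.D R} {a b w : ℤ} (hY : GEH Y w)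
    (hA : DRing.HasTorAmplitudeIn R a b ((DRing.restrictD φ).obj (_root_.DTen.unit A))) :
    GEH ((_root_.DTen.LBase φ).obj Y) (w + a) :=
  geh_of_res φ (geh_of_iso ((baseRes φ).app Y).symm (geh_tensor_amp hY hA))

omit [_root_.DTen.HasLBase φ] in
theorem amp_res_unit [Algebra R A] {d : ℕ} (h : DRing.HasTorDimLE R d A) :
    DRing.HasTorAmplitudeIn R (-(d : ℤ)) 0 ((DRing.restrictD (algebraMap R A)).obj (_root_.DTen.unit A)) := by
  obtain ⟨E, hv, hf, ⟨e⟩⟩ := (Groth.L10.DR.hasTorDimLE_iff_amp d).1 h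
  refine ⟨E, hv, hf, ⟨e ≪≫ (DerivedCategory.singleFunctorIsoCompQ (ModuleCat.{u} R) 0).app _ ≪≫
    DerivedCategory.Q.mapIso ?_ ≪≫ ((_root_.DTen.resFactors (algebraMap R A)).app _).symm⟩⟩
  let m : (ModuleCat.of R A) ≅ (ModuleCat.restrictScalars (algebraMap R A)).obj (ModuleCat.of A A) :=
    @LinearEquiv.toModuleIso R _ _ _ _ _ (ModuleCat.of R A).isModule
      ((ModuleCat.restrictScalars (algebraMap R A)).obj (ModuleCat.of A A)).isModule
      { toFun := fun a => a
        invFun := fun a => a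
        map_add' := fun _ _ => rfl
        map_smul' := fun r a => Algebra.smul_def r (a : A)
        left_inv := fun _ => rfl
        right_inv := fun _ => rfl }
  exact (HomologicalComplex.single _ _ 0).mapIso m ≪≫
    ((HomologicalComplex.singleMapHomologicalComplex (ModuleCat.restrictScalars (algebraMap R A))
      (ComplexShape.up ℤ) 0).app (ModuleCat.of A A)).symm

end Groth.L10.DTen.Bounds

namespace Groth.L10.DTen

variable {R A : Type u} [CommRing R] [CommRing A] (φ : R →+* A)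
  [_root_.DTen.HasLTen R] [_root_.DTen.HasLTen A] [_root_.DTen.HasLBase φ] [_root_.DTen.HasResTen φ]
  [_root_.DTen.ResLegIso φ] [_root_.DTen.HasRHom R] [_root_.DTen.HasRHom A]

theorem isIso_bcRHom_of_pc {K M : Dual.D R} [IsIso (_root_.DTen.rhomBC φ K ((_root_.DTen.LBase φ).obj M))]
    {a b : ℤ} (hA : DRing.HasTorAmplitudeIn R a b ((DRing.restrictD φ).obj (_root_.DTen.unit A)))
    (hK : DRing.IsPseudoCoherent' R K) (n : ℤ) (hM : DerivedCategory.IsGE M n) :
    IsIso (_root_.DTen.bcRHom φ K M) := by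
  have hM' : Bounds.GEH M n := (DerivedCategory.isGE_iff M n).1 hM
  refine isIso_of_units _ fun s => ?_
  haveI := isIso_θ φ ((_root_.DTen.RHomR R K).obj M) K
  refine (Function.Bijective.of_comp_iff' bijective_ev _).1 ?_
  let X := (_root_.DTen.unit A)⟦s⟧
  refine (congrArg Function.Bijective (funext fun x => ?_)).mpr (?_ : Function.Bijective (Ψ φ X K M))
  · change tR (x ≫ _) _ ≫ _ = Ψ φ X K M x
    rw [Ψ_apply, tR_comp, Category.assoc]
    refine congrArg (_ ≫ ·) ?_
    rw [IsIso.eq_inv_comp]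
    exact θ_bcRHom φ K M
  obtain ⟨P, C, f, g, h, hT, hP, hC⟩ := Bounds.exists_perfect_approx hK (n + a + s - 3)
  let T := Triangle.mk f g h
  have zF : ∀ {Z : Dual.D R} {c : ℤ}, Groth.L02.PC.LEH Z c → -s < n - c + a →
      ∀ x : X ⟶ (_root_.DTen.LBase φ).obj ((_root_.DTen.RHomR R Z).obj M), x = 0 := fun {Z c} hZ hc x => by
    have := (Bounds.isZero_iff_hom _ (-s)).1
      (Bounds.geh_LBase φ (Bounds.geh_RHom hZ hM') hA (-s) hc)
    rw [neg_neg] at this
    exact this x
  have zG : ∀ {Z : Dual.D R} {c : ℤ}, Groth.L02.PC.LEH Z c → -s + c < n + a →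
      ∀ x : (_root_.DTen.LTen₂ A).obj (X, (_root_.DTen.LBase φ).obj Z) ⟶ (_root_.DTen.LBase φ).obj M, x = 0 :=
    fun {Z c} hZ hc x => Bounds.eq_zero_of_le_ge hc
      (Bounds.leh_tensor (Bounds.leh_unit_shift s) (Bounds.leh_LBase φ hZ)) (Bounds.geh_LBase φ hM' hA) x
  have hC' := Bounds.leh_shift hC (-1 : ℤ)
  have hFm : ExactMidC (((_root_.DTen.RHom R).flip.obj M ⋙ _root_.DTen.LBase φ) ⋙ preadditiveCoyoneda.obj (op X)) :=
    fun T hT => exact_hom_from (ExTri.map₂ (triF_LBase φ) (triC_RHom M T hT)) X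
  have hGm : ExactMidC ((_root_.DTen.LBase φ ⋙ (_root_.DTen.LTen A).obj X).op ⋙
      preadditiveYoneda.obj ((_root_.DTen.LBase φ).obj M)) :=
    fun T hT => exact_hom_to ((triF_LBase φ T hT).map (triF_left X)) _
  have bF := exact_bijective _ _ _ (hFm T hT) (hFm T.invRotate (inv_rot_of_distTriang _ hT))
    (fun x => zF hC (by omega) x) (fun x => zF hC' (by omega) x)
  have bG := exact_bijective _ _ _ (hGm T hT) (hGm T.invRotate (inv_rot_of_distTriang _ hT))
    (fun x => zG hC (by omega) x) (fun x => zG hC' (by omega) x)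
  have hcomp : Function.Bijective (fun x => Ψ φ X P M (x ≫ (_root_.DTen.LBase φ).map (_root_.DTen.RHomMap f M))) :=
    (bijective_Ψ_of_perfect φ X hP M).comp bF
  have hn : (fun x => Ψ φ X P M (x ≫ (_root_.DTen.LBase φ).map (_root_.DTen.RHomMap f M))) =
      (fun y => tL X ((_root_.DTen.LBase φ).map f) ≫ y) ∘ Ψ φ X K M := funext fun x => Ψ_natural φ f x
  rw [hn] at hcomp
  exact (Function.Bijective.of_comp_iff' bG _).1 hcomp

end Groth.L10.DTen
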