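/-
The derived base change adjunction, without assuming an adjoint to exist.
-/
import Groth.Agent.L10.DTen.Base

set_option autoImplicit false
set_option backward.defeqAttrib.useBackward true
set_option backward.isDefEq.respectTransparency false
set_option backward.isDefEq.respectTransparency.types false

universe u

open CategoryTheory CategoryTheory.Limits MonoidalCategory

attribute [local instance] HasDerivedCategory.standard

namespace Groth.L10.DTen.BaseAdj

open Groth.L10.KFlat

variable {R A : Type u} [CommRing R] [CommRing A] (φ : R →+* A)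

/-- `QK ⟶ (Q(K ⊗_R A))|_R` on complexes. -/
noncomputable def γ :
    (DerivedCategory.Q : DRing.Cx R ⥤ Dual.D R) ⟶ (_root_.DTen.extCx φ ⋙ DerivedCategory.Q) ⋙ DRing.restrictD φ where
  app K := DerivedCategory.Q.map ((_root_.DTen.unitCx φ).app K) ≫ (_root_.DTen.resFactors φ).inv.app ((_root_.DTen.extCx φ).obj K)
  naturality K K' f := by
    have h1 := (_root_.DTen.unitCx φ).naturality f
    have h2 := (_root_.DTen.resFactors φ).inv.naturality ((_root_.DTen.extCx φ).map f)
    dsimp at h1 h2 ⊢
    rw [Category.assoc, ← h2, ← Category.assoc, ← Category.assoc, ← Functor.map_comp, ← Functor.map_comp, h1]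

/-- the unit on complexes -/
noncomputable def η₀ : (DerivedCategory.Q : DRing.Cx R ⥤ Dual.D R) ⟶
    DerivedCategory.Q ⋙ LB φ ⋙ DRing.restrictD φ :=
  haveI : ∀ K, IsIso ((Functor.whiskerRight (r R) (DerivedCategory.Q : DRing.Cx R ⥤ Dual.D R)).app K) := fun K =>
    isIso_Q_map _ inferInstance
  haveI := NatIso.isIso_of_isIso_app (Functor.whiskerRight (r R) (DerivedCategory.Q : DRing.Cx R ⥤ Dual.D R))
  (Functor.leftUnitor _).inv ≫ inv (Functor.whiskerRight (r R) (DerivedCategory.Q : DRing.Cx R ⥤ Dual.D R)) ≫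
    Functor.whiskerLeft (Groth.L10.KFlat.R R) ((γ φ)) ≫
    (Functor.associator _ _ _).inv ≫ Functor.whiskerRight (facB φ).inv (DRing.restrictD φ) ≫
    (Functor.associator _ _ _).hom

theorem η₀_fac (K : DRing.Cx R) :
    (η₀ φ).app K ≫ (DRing.restrictD φ).map ((αB φ).app K) = ((γ φ)).app K := by
  have hn := ((γ φ)).naturality ((r R).app K)
  haveI : IsIso (DerivedCategory.Q.map ((r R).app K)) := isIso_Q_map _ inferInstance
  dsimp [η₀] at hn ⊢
  rw [αB_app, Functor.map_comp]
  simp only [Category.id_comp, Category.comp_id, Category.assoc, NatIso.isIso_inv_app, Functor.whiskerRight_app]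
  rw [← Functor.map_comp_assoc, Iso.inv_hom_id_app]
  erw [CategoryTheory.Functor.map_id, Category.id_comp]
  rw [IsIso.inv_comp_eq]
  exact hn.symm

/-- the unit -/
noncomputable def ηB : 𝟭 (Dual.D R) ⟶ LB φ ⋙ DRing.restrictD φ :=
  Localization.liftNatTrans DerivedCategory.Q (_root_.DTen.qis R) DerivedCategory.Q
    (DerivedCategory.Q ⋙ LB φ ⋙ DRing.restrictD φ) _ _ (η₀ φ)

theorem ηB_app (K : DRing.Cx R) : (ηB φ).app (DerivedCategory.Q.obj K) = (η₀ φ).app K := by
  simp [ηB, Localization.Lifting.iso]

/-- the counit on complexes -/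
noncomputable def ε₀ : DerivedCategory.Q ⋙ DRing.restrictD φ ⋙ LB φ ⟶
    (DerivedCategory.Q : DRing.Cx A ⥤ Dual.D A) :=
  (Functor.associator _ _ _).inv ≫ Functor.whiskerRight (_root_.DTen.resFactors φ).hom (LB φ) ≫
    (Functor.associator _ _ _).hom ≫ Functor.whiskerLeft (_root_.DTen.resCx φ) (αB φ) ≫
    (Functor.associator _ _ _).inv ≫ Functor.whiskerRight (counitCx φ) DerivedCategory.Q ≫
    (Functor.leftUnitor _).hom

/-- the counit -/
noncomputable def εB : DRing.restrictD φ ⋙ LB φ ⟶ 𝟭 (Dual.D A) :=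
  Localization.liftNatTrans DerivedCategory.Q (_root_.DTen.qis A)
    (DerivedCategory.Q ⋙ DRing.restrictD φ ⋙ LB φ) DerivedCategory.Q _ _ (ε₀ φ)

theorem εB_app (Y : DRing.Cx A) :
    (εB φ).app (DerivedCategory.Q.obj Y) = (LB φ).map ((_root_.DTen.resFactors φ).hom.app Y) ≫
      (αB φ).app ((_root_.DTen.resCx φ).obj Y) ≫ DerivedCategory.Q.map ((counitCx φ).app Y) := by
  simp [εB, ε₀, Localization.Lifting.iso]

/-- derived base change -/
noncomputable def adjB : LB φ ⊣ DRing.restrictD φ where
  unit := ηB φ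
  counit := εB φ
  left_triangle_components X := by
    obtain ⟨K, hK, ⟨e⟩⟩ := exists_rep X
    haveI := isIso_αB φ hK
    suffices h : (LB φ).map ((ηB φ).app (DerivedCategory.Q.obj K)) ≫
        (εB φ).app ((LB φ).obj (DerivedCategory.Q.obj K)) = 𝟙 _ by
      have n1 := (ηB φ).naturality e.hom
      have n2 := (εB φ).naturality ((LB φ).map e.hom)
      dsimp at n1 n2 ⊢
      rw [← cancel_epi ((LB φ).map e.hom), ← Functor.map_comp_assoc, n1, Functor.map_comp_assoc, n2,
        ← Category.assoc, h]
      exact (Category.id_comp _).trans (Category.comp_id _).symm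
    rw [← cancel_mono ((αB φ).app K), Category.id_comp, Category.assoc, ηB_app]
    have n3 := (εB φ).naturality ((αB φ).app K)
    dsimp at n3
    rw [← n3, ← Functor.map_comp_assoc]
    refine (congrArg (fun t => (LB φ).map t ≫ _) (η₀_fac φ K)).trans ?_
    erw [εB_app]
    dsimp [γ]
    rw [← Functor.map_comp_assoc, Category.assoc, Iso.inv_hom_id_app]
    erw [Category.comp_id]
    have n4 := (αB φ).naturality ((_root_.DTen.unitCx φ).app K)
    dsimp at n4
    rw [reassoc_of% n4, ← Functor.map_comp, triangle₁]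
    erw [CategoryTheory.Functor.map_id, Category.comp_id]
  right_triangle_components Y := by
    obtain ⟨Z, -, ⟨e⟩⟩ := exists_rep Y
    suffices h : (ηB φ).app ((DRing.restrictD φ).obj (DerivedCategory.Q.obj Z)) ≫
        (DRing.restrictD φ).map ((εB φ).app (DerivedCategory.Q.obj Z)) = 𝟙 _ by
      have n1 := (ηB φ).naturality ((DRing.restrictD φ).map e.hom)
      have n2 := (εB φ).naturality e.hom
      dsimp at n1 n2 ⊢
      rw [← cancel_epi ((DRing.restrictD φ).map e.hom), reassoc_of% n1, ← Functor.map_comp, n2, Functor.map_comp,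
        ← Category.assoc, h]
      exact (Category.id_comp _).trans (Category.comp_id _).symm
    rw [← cancel_epi ((_root_.DTen.resFactors φ).inv.app Z)]
    refine Eq.trans ?_ (Category.comp_id _).symm
    have n3 := (ηB φ).naturality ((_root_.DTen.resFactors φ).inv.app Z)
    dsimp at n3
    rw [reassoc_of% n3, ← Functor.map_comp]
    erw [ηB_app]
    rw [εB_app, ← Functor.map_comp_assoc, Iso.inv_hom_id_app]
    erw [CategoryTheory.Functor.map_id, Category.id_comp]
    rw [Functor.map_comp]
    erw [reassoc_of% (η₀_fac φ ((_root_.DTen.resCx φ).obj Z))]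
    have n4 := (_root_.DTen.resFactors φ).inv.naturality ((counitCx φ).app Z)
    dsimp [γ] at n4 ⊢
    rw [Category.assoc, ← n4, ← Functor.map_comp_assoc, triangle₂]
    erw [CategoryTheory.Functor.map_id, Category.id_comp]

end Groth.L10.DTen.BaseAdj
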