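/-
Restriction of scalars of perfect objects along a perfect algebra.
-/
import Groth.Agent.L10.DTen.Base
import Groth.Agent.L10.DTen.PerfectInd
import Groth.Agent.L10.DRing.Perfect

set_option autoImplicit false
set_option backward.defeqAttrib.useBackward true
set_option backward.isDefEq.respectTransparency false
set_option backward.isDefEq.respectTransparency.types false

universe u

open CategoryTheory CategoryTheory.Limits CategoryTheory.Pretriangulated

attribute [local instance] HasDerivedCategory.standard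

namespace Groth.L10.DTen

variable {A B : Type u} [CommRing A] [CommRing B]

theorem perfect_of_iso' {K L : Dual.D A} (e : K ≅ L) (h : DRing.IsPerfect A K) : DRing.IsPerfect A L := by
  obtain ⟨E, a, b, hv, hp, ⟨e'⟩⟩ := h
  exact ⟨E, a, b, hv, hp, ⟨e' ≪≫ e⟩⟩

theorem perfect_retract' {K L : Dual.D A} (r : Retract K L) (h : DRing.IsPerfect A L)
    (hK : DRing.IsPseudoCoherent' A K) : DRing.IsPerfect A K := by
  obtain ⟨a, b, hab⟩ := Groth.L10.DR.amp_of_perfect h
  exact Groth.L10.DR.perfect_of_pc'_amp hK (Groth.L10.DR.amp_retract r hab)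

theorem perfect_second (T : Triangle (Dual.D A)) (hT : T ∈ distinguishedTriangles)
    (h₁ : DRing.IsPerfect A T.obj₁) (h₃ : DRing.IsPerfect A T.obj₃) : DRing.IsPerfect A T.obj₂ := by
  obtain ⟨a, b, hab⟩ := Groth.L10.DR.amp_of_perfect h₁
  obtain ⟨c, d, hcd⟩ := Groth.L10.DR.amp_of_perfect h₃
  refine Groth.L10.DR.perfect_of_pc'_amp (a := min a c) (b := max b d) ?_
    (Groth.L10.DR.amp_second T hT (Groth.L10.DR.amp_mono hab (min_le_left _ _) (le_max_left _ _))
      (Groth.L10.DR.amp_mono hcd (min_le_right _ _) (le_max_right _ _)))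
  exact Groth.L02.PC.pc'_of_forall fun m => Groth.L02.PC.pc_second T hT m
    (Groth.L02.PC.pc_of_pc' (Groth.L29.PerfPC.isPseudoCoherent'_of_isPerfect h₁) m)
    (Groth.L02.PC.pc_of_pc' (Groth.L29.PerfPC.isPseudoCoherent'_of_isPerfect h₃) m)

theorem perfect_retract {K L : Dual.D A} (r : Retract K L) (h : DRing.IsPerfect A L) :
    DRing.IsPerfect A K := by
  obtain ⟨Z, g, -⟩ : ∃ (Z : Dual.D A) (_ : K ⊞ Z ≅ L), True := by
    obtain ⟨Z, g, δ, hT⟩ := distinguished_cocone_triangle r.i
    have : IsSplitMono r.i := IsSplitMono.mk' ⟨r.r, r.retract⟩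
    obtain ⟨e, -, -⟩ := exists_iso_binaryBiproduct_of_distTriang (Triangle.mk r.i g δ) hT
      (Triangle.mor₃_eq_zero_of_mono₁ _ hT (inferInstance : Mono r.i))
    exact ⟨Z, e.symm, trivial⟩
  exact (Groth.L10.DR.perfect_biprod K Z (perfect_of_iso' g.symm h)).1

theorem perfect_shift' {K : Dual.D A} (h : DRing.IsPerfect A K) (n : ℤ) : DRing.IsPerfect A (K⟦n⟧) := by
  obtain ⟨a, b, hab⟩ := Groth.L10.DR.amp_of_perfect h
  exact Groth.L10.DR.perfect_of_pc'_amp (Groth.L02.PC.pc'_of_forall fun m => Groth.L02.PC.pc_shift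
    (Groth.L02.PC.pc_of_pc' (Groth.L29.PerfPC.isPseudoCoherent'_of_isPerfect h) (n + m)) n m rfl)
    (Groth.L10.DR.amp_shift hab n)

theorem isPerfect_res_unit' {R : Type u} [CommRing R] [Algebra R A] (h : DRing.IsPerfectModule R A) :
    DRing.IsPerfect R ((DRing.restrictD (algebraMap R A)).obj (_root_.DTen.unit A)) := by
  obtain ⟨E, a, b, hv, hp, ⟨e⟩⟩ := h
  refine ⟨E, a, b, hv, hp, ⟨e ≪≫ (DerivedCategory.singleFunctorIsoCompQ (ModuleCat.{u} R) 0).app _ ≪≫
    DerivedCategory.Q.mapIso ?_ ≪≫ ((_root_.DTen.resFactors (algebraMap R A)).app _).symm⟩⟩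
  let m : (ModuleCat.of R A) ≅ (ModuleCat.restrictScalars (algebraMap R A)).obj (ModuleCat.of A A) :=
    @LinearEquiv.toModuleIso R _ _ _ _ _ (ModuleCat.of R A).isModule
      ((ModuleCat.restrictScalars (algebraMap R A)).obj (ModuleCat.of A A)).isModule
      { toFun := fun a => a
        invFun := fun a => a
        map_add' := fun _ _ => rfl
        map_smul' := fun r a => Algebra.smul_def r (a : A)
        left_inv := fun _ => rfl
        right_inv := fun _ => rfl }
  exact (HomologicalComplex.single _ _ 0).mapIso m ≪≫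
    ((HomologicalComplex.singleMapHomologicalComplex (ModuleCat.restrictScalars (algebraMap R A))
      (ComplexShape.up ℤ) 0).app (ModuleCat.of A A)).symm

theorem isPerfect_restrictD [Algebra A B] (hB : DRing.IsPerfectModule A B) {K : Dual.D B}
    (hK : DRing.IsPerfect B K) : DRing.IsPerfect A ((DRing.restrictD (algebraMap A B)).obj K) := by
  let P : ObjectProperty (Dual.D B) := fun K => DRing.IsPerfect A ((DRing.restrictD (algebraMap A B)).obj K)
  have : P.IsClosedUnderIsomorphisms :=
    ⟨fun e h => perfect_of_iso' ((DRing.restrictD (algebraMap A B)).mapIso e) h⟩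
  refine perfect_induction P (fun T hT h₁ h₃ => perfect_second _
    ((DRing.restrictD (algebraMap A B)).map_distinguished T hT) h₁ h₃)
    (fun r h => perfect_retract (r.map _) h) (fun n => ?_) hK
  exact perfect_of_iso' (((DRing.restrictD (algebraMap A B)).commShiftIso n).app _).symm
    (perfect_shift' (isPerfect_res_unit' hB) n)

end Groth.L10.DTen
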