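/-
`RHom(A, R)` for the quotient by an invertible ideal.
-/
import Groth.Agent.L10.DTen.RelIso
import Mathlib.RingTheory.PicardGroup
import Mathlib.Algebra.Homology.DerivedCategory.SingleTriangle

set_option autoImplicit false
set_option backward.defeqAttrib.useBackward true
set_option backward.isDefEq.respectTransparency false
set_option backward.isDefEq.respectTransparency.types false

universe u

open CategoryTheory CategoryTheory.Limits CategoryTheory.Pretriangulated
open scoped TensorProduct

attribute [local instance] HasDerivedCategory.standard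

namespace Groth.L10.DTen

section Single

variable {B : Type u} [CommRing B]

/-- a module in degree zero -/
noncomputable abbrev sgl (B : Type u) [CommRing B] : ModuleCat.{u} B ⥤ Dual.D B :=
  DerivedCategory.singleFunctor (ModuleCat.{u} B) 0

theorem sgl_hom_shift_eq_zero {P Q : ModuleCat.{u} B} [Projective P] {k : ℤ} (hk : k ≠ 0)
    (f : (sgl B).obj P ⟶ ((sgl B).obj Q)⟦k⟧) : f = 0 := by
  let K : CochainComplex (ModuleCat.{u} B) ℤ := (HomologicalComplex.single (ModuleCat.{u} B) (ComplexShape.up ℤ) 0).obj P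
  let L := (HomologicalComplex.single (ModuleCat.{u} B) (ComplexShape.up ℤ) 0).obj Q
  haveI : CochainComplex.IsKProjective K := by
    haveI : CochainComplex.IsStrictlyLE K 0 := (CochainComplex.isStrictlyLE_iff _ _).2 fun i hi =>
      HomologicalComplex.isZero_single_obj_X _ _ _ _ (by omega)
    haveI : ∀ i, Projective (K.X i) := fun i => by
      by_cases h : i = 0
      · exact Projective.of_iso
          (HomologicalComplex.singleObjXIsoOfEq (ComplexShape.up ℤ) 0 P i h).symm inferInstance
      · exact (HomologicalComplex.isZero_single_obj_X _ _ _ _ h).projective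
    exact CochainComplex.isKProjective_of_projective _ 0
  let eP := (DerivedCategory.singleFunctorIsoCompQ (ModuleCat.{u} B) 0).app P
  let eQ := (shiftFunctor (Dual.D B) k).mapIso ((DerivedCategory.singleFunctorIsoCompQ (ModuleCat.{u} B) 0).app Q) ≪≫
    (((DerivedCategory.Q : DRing.Cx B ⥤ Dual.D B).commShiftIso k).app L).symm
  obtain ⟨g, hg⟩ := Groth.L02.PC.exists_chainMap (P := K) (K := L⟦k⟧) (eP.inv ≫ f ≫ eQ.hom)
  have hg0 : g = 0 := HomologicalComplex.hom_ext _ _ fun i => by
    by_cases h : i = 0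
    · exact (show IsZero ((L⟦k⟧).X i) from
        HomologicalComplex.isZero_single_obj_X (ComplexShape.up ℤ) 0 Q (i + k) (by omega)).eq_of_tgt _ _
    · exact (HomologicalComplex.isZero_single_obj_X _ _ _ _ h).eq_of_src _ _
  rw [hg0, Functor.map_zero] at hg
  rw [← cancel_epi eP.inv, ← cancel_mono eQ.hom, Category.assoc, comp_zero, zero_comp]
  exact hg.symm

theorem shift_hom_eq_zero {X Z : Dual.D B} (n : ℤ) (h : ∀ f : X ⟶ Z⟦-n⟧, f = 0) (f : X⟦n⟧ ⟶ Z) : f = 0 := by
  let adj := (shiftEquiv (Dual.D B) n).toAdjunction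
  refine (adj.homEquiv X Z).injective ((h _).trans (h _).symm)

/-- the free module of rank one in degree zero -/
noncomputable def unitSgl (B : Type u) [CommRing B] : _root_.DTen.unit B ≅ (sgl B).obj (ModuleCat.of B B) :=
  ((DerivedCategory.singleFunctorIsoCompQ (ModuleCat.{u} B) 0).app _).symm

end Single

section Quot

variable {R A : Type u} [CommRing R] [CommRing A] [Algebra R A]

local notation "I" => RingHom.ker (algebraMap R A)

variable (R A)

/-- the inclusion, in the dual -/
abbrev incl : Module.Dual R I := Submodule.subtype I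

/-- the cokernel of `R → Hom(I, R)` -/
abbrev NQ : Type u := Module.Dual R I ⧸ Submodule.span R {incl R A}

variable {R A}

theorem smul_incl (i : I) (f : Module.Dual R I) : (i : R) • f = f i • incl R A := by
  refine LinearMap.ext fun x => ?_
  change (i : R) * f x = f i * (x : R)
  rw [← smul_eq_mul, ← map_smul, show (i : R) • x = (x : R) • i from Subtype.ext (mul_comm _ _), map_smul,
    smul_eq_mul, mul_comm]

theorem smul_NQ_eq_zero (i : I) (x : NQ R A) : (i : R) • x = 0 := by
  obtain ⟨f, rfl⟩ := Submodule.Quotient.mk_surjective _ x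
  rw [← Submodule.Quotient.mk_smul, Submodule.Quotient.mk_eq_zero, smul_incl]
  exact Submodule.smul_mem _ _ (Submodule.mem_span_singleton_self _)

theorem exists_smul_incl [Module.Invertible R I] :
    ∃ x : Module.Dual R I ⊗[R] I, contractLeft R I x = 1 :=
  ⟨(Module.Invertible.linearEquiv R I).symm 1, (Module.Invertible.linearEquiv R I).apply_symm_apply 1⟩

theorem eq_zero_of_smul_incl [Module.Invertible R I] {r : R} (h : r • incl R A = 0) : r = 0 := by
  obtain ⟨x, hx⟩ := exists_smul_incl (R := R) (A := A)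
  have key : ∀ x : Module.Dual R I ⊗[R] I, r * contractLeft R I x = 0 := by
    intro x
    induction x using TensorProduct.induction_on with
    | zero => simp
    | tmul f i =>
      rw [contractLeft_apply, ← smul_eq_mul, ← map_smul,
        show r • i = 0 from Subtype.ext (LinearMap.congr_fun h i), map_zero]
    | add a b ha hb => rw [map_add, mul_add, ha, hb, add_zero]
  simpa [hx] using key x

variable (hφ : Function.Surjective (algebraMap R A))

/-- the action of `A` -/
noncomputable def actNQ : A →+* AddMonoid.End (NQ R A) :=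
  RingHom.liftOfSurjective (algebraMap R A) hφ
    ⟨Module.toAddMonoidEnd R (NQ R A), fun r hr => RingHom.mem_ker.2 (AddMonoidHom.ext fun x =>
      smul_NQ_eq_zero ⟨r, hr⟩ x)⟩

theorem actNQ_apply (r : R) (x : NQ R A) : actNQ hφ (algebraMap R A r) x = r • x :=
  DFunLike.congr_fun (RingHom.liftOfRightInverse_comp_apply (algebraMap R A) _ _ _ r) x

/-- `Hom(I, R)/R` as a module over `A` -/
noncomputable abbrev moduleNQ : Module A (NQ R A) := Module.compHom (NQ R A) (actNQ hφ)

include hφ in
theorem tower : letI := moduleNQ hφ; IsScalarTower R A (NQ R A) :=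
  letI := moduleNQ hφ
  IsScalarTower.of_algebraMap_smul fun r x => actNQ_apply hφ r x

set_option maxHeartbeats 1000000 in
include hφ in
theorem nonempty_equiv [Module.Invertible R I] (N : Type u) [AddCommGroup N] [Module A N]
    (e : (A ⊗[R] I) ⊗[A] N ≃ₗ[A] A) :
    letI := moduleNQ hφ
    Nonempty (NQ R A ≃ₗ[A] N) := by
  letI := moduleNQ hφ
  haveI := tower hφ
  let J := Module.Dual R I
  let g : J →ₗ[R] A ⊗[R] J := TensorProduct.mk R A J 1
  have hg : ∀ x : J ⊗[R] I, g (contractLeft R I x • incl R A) = 0 := by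
    intro x
    induction x using TensorProduct.induction_on with
    | zero => simp
    | tmul f i =>
      rw [contractLeft_apply, ← smul_incl]
      change (1 : A) ⊗ₜ[R] ((i : R) • f) = 0
      rw [← TensorProduct.smul_tmul, Algebra.smul_def, mul_one, show algebraMap R A (i : R) = 0 from i.2,
        TensorProduct.zero_tmul]
    | add a b ha hb => rw [map_add, add_smul, map_add, ha, hb, add_zero]
  obtain ⟨x, hx⟩ := exists_smul_incl (R := R) (A := A)
  have hι : g (incl R A) = 0 := by simpa [hx] using hg x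
  let inv : NQ R A →ₗ[R] A ⊗[R] J := Submodule.liftQ _ g
    (Submodule.span_le.2 (by simpa using hι))
  let ψ : A ⊗[R] J →ₗ[A] NQ R A := (Submodule.mkQ _).liftBaseChange A
  have h1 : ∀ y, inv (ψ y) = y := fun y => by
    induction y using TensorProduct.induction_on with
    | zero => simp
    | tmul a f =>
      obtain ⟨r, rfl⟩ := hφ a
      rw [LinearMap.liftBaseChange_tmul, algebraMap_smul, map_smul]
      change r • ((1 : A) ⊗ₜ[R] f) = _
      rw [TensorProduct.smul_tmul', Algebra.smul_def, mul_one]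
    | add a b ha hb => rw [map_add, map_add, ha, hb]
  have h2 : Function.Surjective ψ := fun y => by
    obtain ⟨f, rfl⟩ := Submodule.Quotient.mk_surjective _ y
    refine ⟨1 ⊗ₜ f, ?_⟩
    rw [LinearMap.liftBaseChange_tmul, one_smul]
    rfl
  let eψ : A ⊗[R] J ≃ₗ[A] NQ R A := LinearEquiv.ofBijective ψ ⟨Function.LeftInverse.injective h1, h2⟩
  let eA : (A ⊗[R] J) ⊗[A] (A ⊗[R] I) ≃ₗ[A] A :=
    (TensorProduct.AlgebraTensorModule.distribBaseChange R A J I).symm ≪≫ₗ
      TensorProduct.AlgebraTensorModule.congr (.refl A A) (Module.Invertible.linearEquiv R I) ≪≫ₗ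
        TensorProduct.AlgebraTensorModule.rid R A A
  exact ⟨eψ.symm ≪≫ₗ (Module.Invertible.rightCancelEquiv (A ⊗[R] J) e).symm ≪≫ₗ eA.rTensor N ≪≫ₗ
    TensorProduct.lid A N⟩

local notation "res" => ModuleCat.restrictScalars (algebraMap R A)

variable (R A)

/-- `0 → I → R → A → 0` -/
noncomputable def sesA : ShortComplex (ModuleCat.{u} R) :=
  ShortComplex.mk (X₁ := ModuleCat.of R I) (X₂ := ModuleCat.of R R)
    (X₃ := (res).obj (ModuleCat.of A A))
    (ModuleCat.ofHom (Submodule.subtype I))
    (ModuleCat.ofHom (Y := (res).obj (ModuleCat.of A A))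
      { toFun := fun r => (algebraMap R A r : A)
        map_add' := map_add (algebraMap R A)
        map_smul' := fun r x => map_mul (algebraMap R A) r x })
    (ModuleCat.hom_ext (LinearMap.ext fun i => i.2))

variable {R A}

/-- `0 → R → Hom(I, R) → NQ → 0` -/
noncomputable def sesN : letI := moduleNQ hφ; ShortComplex (ModuleCat.{u} R) :=
  letI := moduleNQ hφ
  ShortComplex.mk (X₁ := ModuleCat.of R R) (X₂ := ModuleCat.of R (Module.Dual R I))
    (X₃ := (res).obj (ModuleCat.of A (NQ R A)))
    (ModuleCat.ofHom (LinearMap.toSpanSingleton R _ (incl R A)))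
    (ModuleCat.ofHom (Y := (res).obj (ModuleCat.of A (NQ R A)))
      { toFun := fun f => (Submodule.Quotient.mk f : NQ R A)
        map_add' := fun _ _ => rfl
        map_smul' := fun r f => (actNQ_apply hφ r (Submodule.Quotient.mk f)).symm })
    (ModuleCat.hom_ext (LinearMap.ext fun r =>
      (Submodule.Quotient.mk_eq_zero _).2 (Submodule.smul_mem _ r (Submodule.mem_span_singleton_self _))))

include hφ in
theorem sesA_exact : (sesA R A).ShortExact where
  exact := by
    rw [ShortComplex.moduleCat_exact_iff]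
    intro r hr
    exact ⟨⟨r, hr⟩, rfl⟩
  mono_f := (ModuleCat.mono_iff_injective _).2 Subtype.val_injective
  epi_g := (ModuleCat.epi_iff_surjective _).2 hφ

theorem sesN_exact [Module.Invertible R I] : (sesN hφ).ShortExact where
  exact := by
    rw [ShortComplex.moduleCat_exact_iff]
    intro f hf
    obtain ⟨r, hr⟩ := Submodule.mem_span_singleton.1 ((Submodule.Quotient.mk_eq_zero _).1 hf)
    exact ⟨r, hr⟩
  mono_f := (ModuleCat.mono_iff_injective _).2 (by
    intro (a : R) (b : R) hab
    have h : a • incl R A = b • incl R A := hab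
    exact (sub_eq_zero (a := a) (b := b)).1 (eq_zero_of_smul_incl (R := R) (A := A) (r := a - b)
      ((sub_smul a b (incl R A)).trans (sub_eq_zero.2 h))))
  epi_g := (ModuleCat.epi_iff_surjective _).2 (Submodule.Quotient.mk_surjective _)

/-- the map of sequences of an element of the dual -/
noncomputable def sesMap (f : Module.Dual R I) : sesA R A ⟶ sesN hφ :=
  letI := moduleNQ hφ
  { τ₁ := ModuleCat.ofHom f
    τ₂ := ModuleCat.ofHom (LinearMap.toSpanSingleton R _ f)
    τ₃ := (res).map (ModuleCat.ofHom (LinearMap.toSpanSingleton A (NQ R A) (Submodule.Quotient.mk f)))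
    comm₁₂ := ModuleCat.hom_ext (LinearMap.ext fun i => (smul_incl i f).symm)
    comm₂₃ := ModuleCat.hom_ext (LinearMap.ext fun r => (actNQ_apply hφ r (Submodule.Quotient.mk f)).symm) }

variable (R) in
theorem isPerfect_sgl_of_projective (P : ModuleCat.{u} R) [Module.Finite R P] [Module.Projective R P] :
    DRing.IsPerfect R ((sgl R).obj P) := by
  refine ⟨(CochainComplex.singleFunctor (ModuleCat.{u} R) 0).obj P, 0, 0, fun i hi => ?_, fun i => ?_,
    ⟨((DerivedCategory.singleFunctorIsoCompQ (ModuleCat.{u} R) 0).app P).symm⟩⟩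
  · exact HomologicalComplex.isZero_single_obj_X (ComplexShape.up ℤ) 0 _ i (by lia)
  · rcases eq_or_ne i 0 with rfl | hi
    · let e := (HomologicalComplex.singleObjXSelf (ComplexShape.up ℤ) 0 P).toLinearEquiv
      exact ⟨Module.Finite.equiv e.symm, Module.Projective.of_equiv e.symm⟩
    · have hz := HomologicalComplex.isZero_single_obj_X (ComplexShape.up ℤ) 0 P i hi
      haveI := ModuleCat.subsingleton_of_isZero hz
      exact ⟨inferInstanceAs (Module.Finite R (((HomologicalComplex.single _ (ComplexShape.up ℤ) 0).obj P).X i)),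
        inferInstanceAs (Module.Projective R (((HomologicalComplex.single _ (ComplexShape.up ℤ) 0).obj P).X i))⟩

/-- restriction in degree zero -/
noncomputable def sglRes : sgl A ⋙ DRing.restrictD (algebraMap R A) ≅ res ⋙ sgl R :=
  (ModuleCat.restrictScalars.{u} (algebraMap R A)).mapDerivedCategorySingleFunctor 0

include hφ in
theorem isPerfect_res [Module.Invertible R I] :
    DRing.IsPerfect R ((DRing.restrictD (algebraMap R A)).obj (_root_.DTen.unit A)) := by
  haveI : Module.Finite R (ModuleCat.of R I) := inferInstanceAs (Module.Finite R I)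
  haveI : Module.Projective R (ModuleCat.of R I) := inferInstanceAs (Module.Projective R I)
  haveI : Module.Finite R (ModuleCat.of R R) := inferInstanceAs (Module.Finite R R)
  haveI : Module.Projective R (ModuleCat.of R R) := inferInstanceAs (Module.Projective R R)
  exact Groth.L29.Perfect.of_iso
    (((DRing.restrictD (algebraMap R A)).mapIso (unitSgl A) ≪≫ sglRes.app _).symm)
    (Groth.L29.Perfect.third _ (sesA_exact hφ).singleTriangle_distinguished
      (isPerfect_sgl_of_projective R (ModuleCat.of R I)) (isPerfect_sgl_of_projective R (ModuleCat.of R R)))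

/-- `res NQ ⟶ R[1]` -/
noncomputable def extMap [Module.Invertible R I] :
    letI := moduleNQ hφ
    (DRing.restrictD (algebraMap R A)).obj ((sgl A).obj (ModuleCat.of A (NQ R A))) ⟶
      ((sgl R).obj (ModuleCat.of R R))⟦(1 : ℤ)⟧ :=
  letI := moduleNQ hφ
  sglRes.hom.app _ ≫ (sesN_exact hφ).singleδ

theorem bijective_extMap [Module.Invertible R I] (n : ℤ) :
    letI := moduleNQ hφ
    Function.Bijective (fun g : (_root_.DTen.unit A)⟦n⟧ ⟶ (sgl A).obj (ModuleCat.of A (NQ R A)) =>
      (DRing.restrictD (algebraMap R A)).map g ≫ extMap hφ) := by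
  letI := moduleNQ hφ
  haveI : Projective (ModuleCat.of R R) := inferInstance
  haveI : Module.Projective R (ModuleCat.of R I) := inferInstanceAs (Module.Projective R I)
  haveI : Projective (ModuleCat.of R I) :=
    (IsProjective.iff_projective (ModuleCat.of R I)).1 inferInstance
  haveI : Projective (ModuleCat.of A A) := inferInstance
  let F := DRing.restrictD (algebraMap R A)
  let hs := sesA_exact hφ
  let T := hs.singleTriangle
  have hT : T ∈ distTriang _ := hs.singleTriangle_distinguished
  let A' := (res).obj (ModuleCat.of A A)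
  let RR := (sgl R).obj (ModuleCat.of R R)
  -- vanishing
  have hR : ∀ (k : ℤ), k ≠ 1 → ∀ x : (sgl R).obj A' ⟶ RR⟦k⟧, x = 0 := by
    intro k hk x
    have h2 : T.mor₂ ≫ x = 0 := by
      by_cases h0 : k = 0
      · subst h0
        obtain ⟨p, hp⟩ : ∃ p : ModuleCat.of R R ⟶ ModuleCat.of R R,
            (sgl R).map p = T.mor₂ ≫ x ≫ (shiftFunctorZero (Dual.D R) ℤ).hom.app RR :=
          ⟨_, (sgl R).map_preimage _⟩
        have hp0 : (sgl R).map ((sesA R A).f ≫ p) = 0 := by
          rw [Functor.map_comp, hp]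
          exact (Category.assoc _ _ _).symm.trans ((congrArg (· ≫ _) (comp_distTriang_mor_zero₁₂ T hT)).trans zero_comp)
        have hp1 : (sesA R A).f ≫ p = 0 := (sgl R).map_injective (hp0.trans ((sgl R).map_zero _ _).symm)
        have hpr : p.hom (1 : R) = 0 := eq_zero_of_smul_incl (A := A) (LinearMap.ext fun i => by
          change p.hom (1 : R) * (i : R) = 0
          have := LinearMap.congr_fun (congrArg ModuleCat.Hom.hom hp1) i
          change p.hom (i : R) = 0 at this
          rwa [show (i : R) = (i : R) • (1 : R) by simp, map_smul, smul_eq_mul, mul_comm] at this)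
        have hp2 : p = 0 := ModuleCat.hom_ext (LinearMap.ext_ring hpr)
        rw [hp2, Functor.map_zero] at hp
        rw [← cancel_mono ((shiftFunctorZero (Dual.D R) ℤ).hom.app RR), Category.assoc, ← hp, zero_comp]
      · exact sgl_hom_shift_eq_zero (P := ModuleCat.of R R) h0 _
    obtain ⟨y, hy⟩ := T.yoneda_exact₃ hT x h2
    have hy' : y = 0 := by
      refine shift_hom_eq_zero 1 (fun f => ?_) y
      let e := (shiftFunctorAdd' (Dual.D R) k (-1) (k + -1) rfl).app RR
      rw [← cancel_mono e.inv, zero_comp]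
      exact sgl_hom_shift_eq_zero (P := ModuleCat.of R I) (by omega) _
    rw [hy, hy', comp_zero]
  -- reduce to the module in degree zero
  let u : (_root_.DTen.unit A)⟦n⟧ ≅ ((sgl A).obj (ModuleCat.of A A))⟦n⟧ :=
    (shiftFunctor (Dual.D A) n).mapIso (unitSgl A)
  by_cases hn : n = 0
  · subst hn
    let v : (_root_.DTen.unit A)⟦(0 : ℤ)⟧ ≅ (sgl A).obj (ModuleCat.of A A) :=
      u ≪≫ (shiftFunctorZero (Dual.D A) ℤ).app _
    let c : F.obj ((_root_.DTen.unit A)⟦(0 : ℤ)⟧) ≅ (sgl R).obj A' := F.mapIso v ≪≫ sglRes.app _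
    have key : ∀ f : Module.Dual R I,
        F.map (v.hom ≫ (sgl A).map (ModuleCat.ofHom (LinearMap.toSpanSingleton A (NQ R A) (Submodule.Quotient.mk f)))) ≫
          extMap hφ = c.hom ≫ T.mor₃ ≫ ((sgl R).map (ModuleCat.ofHom f))⟦(1 : ℤ)⟧' := by
      intro f
      have h3 := (ShortComplex.ShortExact.singleTriangle.map hs (sesN_exact hφ) (sesMap hφ f)).comm₃
      have hn := (sglRes (R := R)).hom.naturality
        (ModuleCat.ofHom (LinearMap.toSpanSingleton A (NQ R A) (Submodule.Quotient.mk f)))
      dsimp at hn h3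
      rw [Functor.map_comp, Category.assoc, extMap]
      erw [reassoc_of% hn]
      change F.map v.hom ≫ _ = (F.map v.hom ≫ _) ≫ _
      rw [Category.assoc]
      exact congrArg (fun t => F.map v.hom ≫ sglRes.hom.app _ ≫ t) h3.symm
    have hrep : ∀ g : (_root_.DTen.unit A)⟦(0 : ℤ)⟧ ⟶ (sgl A).obj (ModuleCat.of A (NQ R A)),
        ∃ f : Module.Dual R I, g = v.hom ≫
          (sgl A).map (ModuleCat.ofHom (LinearMap.toSpanSingleton A (NQ R A) (Submodule.Quotient.mk f))) := by
      intro g
      obtain ⟨p, hp⟩ := (sgl A).map_surjective (v.inv ≫ g)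
      obtain ⟨f, hf⟩ := Submodule.Quotient.mk_surjective _ (p.hom (1 : A))
      refine ⟨f, ?_⟩
      rw [hf, show ModuleCat.ofHom (LinearMap.toSpanSingleton A (NQ R A) (p.hom (1 : A))) = p from
        ModuleCat.hom_ext (LinearMap.ext_ring (one_smul A _)), hp, Iso.hom_inv_id_assoc]
    refine ⟨fun a b hab => ?_, fun x => ?_⟩
    · obtain ⟨f, rfl⟩ := hrep a
      obtain ⟨f', rfl⟩ := hrep b
      dsimp only at hab
      rw [key, key, cancel_epi] at hab
      have h0 : T.mor₃ ≫ ((sgl R).map (ModuleCat.ofHom (f - f')))⟦(1 : ℤ)⟧' = 0 := by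
        rw [show ModuleCat.ofHom (f - f') = ModuleCat.ofHom f - ModuleCat.ofHom f' from rfl, Functor.map_sub,
          Functor.map_sub, Preadditive.comp_sub, hab, sub_self]
      obtain ⟨z, hz⟩ := T.rotate.yoneda_exact₃ (rot_of_distTriang _ hT) _ h0
      change _ = (-(shiftFunctor (Dual.D R) (1 : ℤ)).map ((sgl R).map (sesA R A).f)) ≫ z at hz
      obtain ⟨z', rfl⟩ := (shiftFunctor (Dual.D R) (1 : ℤ)).map_surjective z
      obtain ⟨q, rfl⟩ := (sgl R).map_surjective z'
      rw [← Functor.map_neg, ← Functor.map_neg, ← Functor.map_comp, ← Functor.map_comp] at hz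
      have hq := LinearMap.congr_fun (congrArg ModuleCat.Hom.hom ((sgl R).map_injective
        ((shiftFunctor (Dual.D R) (1 : ℤ)).map_injective hz)))
      have hmem : f - f' ∈ Submodule.span R {incl R A} := by
        refine Submodule.mem_span_singleton.2 ⟨-q.hom (1 : R), LinearMap.ext fun i => ?_⟩
        refine Eq.trans ?_ (hq i).symm
        change -q.hom (1 : R) * (i : R) = q.hom (-(i : R))
        rw [map_neg, show q.hom (i : R) = (i : R) • q.hom (1 : R) by rw [← map_smul, smul_eq_mul, mul_one],
          smul_eq_mul, neg_mul, mul_comm]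
      rw [(Submodule.Quotient.eq _).2 hmem]
    · have h2 : T.mor₂ ≫ c.inv ≫ x = 0 := sgl_hom_shift_eq_zero (P := ModuleCat.of R R) (by omega) _
      obtain ⟨y, hy⟩ := T.yoneda_exact₃ hT (c.inv ≫ x) h2
      obtain ⟨y', rfl⟩ := (shiftFunctor (Dual.D R) (1 : ℤ)).map_surjective y
      obtain ⟨q, rfl⟩ := (sgl R).map_surjective y'
      refine ⟨_, (key q.hom).trans ?_⟩
      change c.hom ≫ T.mor₃ ≫ ((sgl R).map q)⟦(1 : ℤ)⟧' = x
      rw [← hy, Iso.hom_inv_id_assoc]
  · have hL : ∀ g : (_root_.DTen.unit A)⟦n⟧ ⟶ (sgl A).obj (ModuleCat.of A (NQ R A)), g = 0 := fun g => by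
      have : u.inv ≫ g = 0 := shift_hom_eq_zero n (fun f => sgl_hom_shift_eq_zero (by omega) f) _
      rw [← cancel_epi u.inv, this, comp_zero]
    let d : F.obj ((_root_.DTen.unit A)⟦n⟧) ≅ ((sgl R).obj A')⟦n⟧ :=
      F.mapIso u ≪≫ (F.commShiftIso n).app _ ≪≫ (shiftFunctor (Dual.D R) n).mapIso (sglRes.app _)
    have hx : ∀ x : F.obj ((_root_.DTen.unit A)⟦n⟧) ⟶ RR⟦(1 : ℤ)⟧, x = 0 := fun x => by
      have : d.inv ≫ x = 0 := shift_hom_eq_zero n (fun f => by
        let e := (shiftFunctorAdd' (Dual.D R) (1 : ℤ) (-n) (1 + -n) rfl).app RR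
        rw [← cancel_mono e.inv, zero_comp]
        exact hR _ (by omega) _) _
      rw [← cancel_epi d.inv, this, comp_zero]
    exact ⟨fun a b _ => (hL a).trans (hL b).symm, fun x => ⟨0, (hx _).trans (hx x).symm⟩⟩

include hφ in
theorem nonempty_RHomRel_unit [Module.Invertible R I] [_root_.DTen.HasRHomRel (algebraMap R A)]
    (N : Type u) [AddCommGroup N] [Module A N] (e : (A ⊗[R] I) ⊗[A] N ≃ₗ[A] A) :
    Nonempty ((_root_.DTen.RHomRel (algebraMap R A)).obj (_root_.DTen.unit R) ≅ (Dual.inD A N)⟦(-1 : ℤ)⟧) := by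
  letI := moduleNQ hφ
  obtain ⟨eN⟩ := nonempty_equiv hφ N e
  let adj := _root_.DTen.relAdj (algebraMap R A)
  letI := adj.rightAdjointCommShift ℤ
  let G := _root_.DTen.RHomRel (algebraMap R A)
  let α := adj.homEquiv _ _ (extMap hφ)
  haveI : IsIso α := isIso_of_units α fun n => by
    rw [show (fun k : (_root_.DTen.unit A)⟦n⟧ ⟶ (sgl A).obj (ModuleCat.of A (NQ R A)) => k ≫ α) =
      adj.homEquiv _ _ ∘ (fun g => (DRing.restrictD (algebraMap R A)).map g ≫ extMap hφ) from
        funext fun g => (adj.homEquiv_naturality_left g _).symm]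
    exact (Equiv.bijective _).comp (bijective_extMap hφ n)
  let RR := (sgl R).obj (ModuleCat.of R R)
  exact ⟨G.mapIso (unitSgl R) ≪≫ ((shiftFunctorCompIsoId (Dual.D A) (1 : ℤ) (-1) (by omega)).app (G.obj RR)).symm ≪≫
    (shiftFunctor (Dual.D A) (-1 : ℤ)).mapIso ((G.commShiftIso (1 : ℤ)).app RR).symm ≪≫
    (shiftFunctor (Dual.D A) (-1 : ℤ)).mapIso ((asIso α).symm ≪≫
      (sgl A).mapIso (LinearEquiv.toModuleIso eN))⟩

include hφ in
theorem nonempty_RHomRel_iso_quot [Module.Invertible R I] [_root_.DTen.HasRHomRel (algebraMap R A)]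
    [_root_.DTen.HasLTenMix (algebraMap R A)]
    (N : Type u) [AddCommGroup N] [Module A N] (e : (A ⊗[R] I) ⊗[A] N ≃ₗ[A] A) :
    Nonempty (_root_.DTen.RHomRel (algebraMap R A) ≅
      (Functor.curry.obj (_root_.DTen.LTenMix (algebraMap R A))).flip.obj ((Dual.inD A N)⟦(-1 : ℤ)⟧)) := by
  obtain ⟨a⟩ := nonempty_RHomRel_iso (algebraMap R A) (isPerfect_res hφ)
  obtain ⟨b⟩ := nonempty_RHomRel_unit hφ N e
  exact ⟨a ≪≫ (Functor.curry.obj (_root_.DTen.LTenMix (algebraMap R A))).flip.mapIso b⟩

end Quot

end Groth.L10.DTen
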