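/-
Iterated change of rings for the derived tensor product.
-/
import Groth.Agent.L10.DTen.Base

set_option autoImplicit false
set_option backward.defeqAttrib.useBackward true
set_option backward.isDefEq.respectTransparency false
set_option backward.isDefEq.respectTransparency.types false

universe u

open CategoryTheory CategoryTheory.Limits MonoidalCategory

attribute [local instance] HasDerivedCategory.standard

namespace Groth.L10.DTen

open Groth.L10.KFlat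

variable {A B C : Type u} [CommRing A] [CommRing B] [CommRing C] (φ : A →+* B) (ψ : B →+* C)

theorem quasiIso_mix₃ {M M' : DRing.Cx A} {N N' : DRing.Cx B} {K K' : DRing.Cx C}
    (f : M ⟶ M') (g : N ⟶ N') (k : K ⟶ K') [QuasiIso f] [QuasiIso g] [QuasiIso k]
    (hM : DRing.IsKFlat A M) (hM' : DRing.IsKFlat A M') (hN : DRing.IsKFlat B N) (hN' : DRing.IsKFlat B N')
    (hK : DRing.IsKFlat C K) :
    QuasiIso ((_root_.DTen.mixT₃ φ ψ).map (Prod.mkHom f (Prod.mkHom g k))) := by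
  haveI := quasiIso_mix φ f g hM hM' hN
  exact quasiIso_mix ψ ((_root_.DTen.mixT φ).map (Prod.mkHom f g)) k (isKFlat_mix φ hM hN) (isKFlat_mix φ hM' hN') hK

theorem invertedMix₃ : (_root_.DTen.qisMix₃ A B C).IsInvertedBy
    ((R A).prod ((R B).prod (R C)) ⋙ _root_.DTen.mix₃ φ ψ) := by
  rintro ⟨M, N, K⟩ ⟨M', N', K'⟩ ⟨f, g, k⟩ ⟨hf, hg, hk⟩
  haveI : QuasiIso f := (HomologicalComplex.mem_quasiIso_iff _).1 hf
  haveI : QuasiIso g := (HomologicalComplex.mem_quasiIso_iff _).1 hg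
  haveI : QuasiIso k := (HomologicalComplex.mem_quasiIso_iff _).1 hk
  haveI := quasiIso_R_map f
  haveI := quasiIso_R_map g
  haveI := quasiIso_R_map k
  exact isIso_Q_map _ (quasiIso_mix₃ φ ψ _ _ _ (isKFlat_R M) (isKFlat_R M') (isKFlat_R N) (isKFlat_R N') (isKFlat_R K))

/-- K-flat triples compute the jointly derived functor -/
theorem isIso_εMix₃ [_root_.DTen.HasLTenMix₃ φ ψ] {M : DRing.Cx A} (hM : DRing.IsKFlat A M) {N : DRing.Cx B}
    (hN : DRing.IsKFlat B N) (K : DRing.Cx C) : IsIso ((_root_.DTen.εMix₃ φ ψ).app (M, (N, K))) := by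
  haveI : (_root_.DTen.LTenMix₃ φ ψ).IsRightKanExtension (_root_.DTen.εMix₃ φ ψ) :=
    Functor.IsLeftDerivedFunctor.isRightKanExtension (_root_.DTen.LTenMix₃ φ ψ) (_root_.DTen.εMix₃ φ ψ)
      (_root_.DTen.qisMix₃ A B C)
  exact isIso_counit (_root_.DTen.mix₃ φ ψ) (_root_.DTen.qisMix₃ A B C) (_root_.DTen.QMix₃ A B C)
    ((R A).prod ((R B).prod (R C))) ((r A).prod ((r B).prod (r C)))
    (fun X => ⟨(HomologicalComplex.mem_quasiIso_iff _).2 (quasiIso_r X.1),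
      (HomologicalComplex.mem_quasiIso_iff _).2 (quasiIso_r X.2.1),
      (HomologicalComplex.mem_quasiIso_iff _).2 (quasiIso_r X.2.2)⟩)
    (invertedMix₃ φ ψ)
    (fun X => isIso_Q_map _ (quasiIso_mix₃ φ ψ ((r A).app ((R A).obj X.1)) ((r B).app ((R B).obj X.2.1))
      ((r C).app ((R C).obj X.2.2)) (isKFlat_R _) (isKFlat_R _) (isKFlat_R _) (isKFlat_R _) (isKFlat_R _)))
    (_root_.DTen.LTenMix₃ φ ψ) (_root_.DTen.εMix₃ φ ψ) (M, (N, K))
    (isIso_Q_map _ (quasiIso_mix₃ φ ψ ((r A).app M) ((r B).app N) ((r C).app K)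
      (isKFlat_R _) hM (isKFlat_R _) hN (isKFlat_R _)))

/-- both legs of the iterated change of rings are isomorphisms -/
theorem isIso_legs₃ [_root_.DTen.HasLTenMix φ] [_root_.DTen.HasLTenMix ψ]
    [_root_.DTen.HasLTenMix (ψ.comp φ)] [_root_.DTen.HasLTenMix₃ φ ψ]
    (X : Dual.D A × (Dual.D B × Dual.D C)) :
    IsIso ((_root_.DTen.leg₃L φ ψ).app X) ∧ IsIso ((_root_.DTen.leg₃R φ ψ).app X) := by
  obtain ⟨M, hM, ⟨a⟩⟩ := exists_rep X.1
  obtain ⟨N, hN, ⟨b⟩⟩ := exists_rep X.2.1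
  obtain ⟨K, -, ⟨c⟩⟩ := exists_rep X.2.2
  let X₀ : DRing.Cx A × (DRing.Cx B × DRing.Cx C) := (M, (N, K))
  let e : (_root_.DTen.QMix₃ A B C).obj X₀ ≅ X := Iso.prod a (Iso.prod b c)
  haveI := isIso_εMix₃ φ ψ hM hN K
  haveI := isIso_εMix φ hM N
  haveI := isIso_εMix ψ hN K
  haveI := isIso_εMix ψ (isKFlat_mix φ hM hN) K
  haveI := isIso_εMix (ψ.comp φ) hM ((_root_.DTen.mixT ψ).obj (N, K))
  have hL : ∀ {P Q : Dual.D B × Dual.D C} (f : P ⟶ Q), IsIso f → IsIso ((_root_.DTen.LTenMix ψ).map f) :=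
    fun f _ => inferInstance
  have hR : ∀ {P Q : Dual.D A × Dual.D C} (f : P ⟶ Q), IsIso f → IsIso ((_root_.DTen.LTenMix (ψ.comp φ)).map f) :=
    fun f _ => inferInstance
  haveI : IsIso ((_root_.DTen.β₃L φ ψ).app X₀) := by
    haveI := hL (Prod.mkHom ((_root_.DTen.εMix φ).app (M, N)) (𝟙 (DerivedCategory.Q.obj K)))
      ((isIso_prod_iff _ _).2 ⟨inferInstance, inferInstance⟩)
    exact inferInstanceAs (IsIso ((_root_.DTen.LTenMix ψ).map (Prod.mkHom ((_root_.DTen.εMix φ).app (M, N))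
      (𝟙 (DerivedCategory.Q.obj K))) ≫ (_root_.DTen.εMix ψ).app ((_root_.DTen.mixT φ).obj (M, N), K)))
  haveI : IsIso ((_root_.DTen.β₃R φ ψ).app X₀) := by
    haveI := hR (Prod.mkHom (𝟙 (DerivedCategory.Q.obj M)) ((_root_.DTen.εMix ψ).app (N, K)))
      ((isIso_prod_iff _ _).2 ⟨inferInstance, inferInstance⟩)
    exact inferInstanceAs (IsIso ((_root_.DTen.LTenMix (ψ.comp φ)).map (Prod.mkHom (𝟙 (DerivedCategory.Q.obj M))
      ((_root_.DTen.εMix ψ).app (N, K))) ≫ (_root_.DTen.εMix (ψ.comp φ)).app (M, (_root_.DTen.mixT ψ).obj (N, K)) ≫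
      DerivedCategory.Q.map ((_root_.DTen.θ₃ φ ψ).inv.app X₀)))
  haveI : IsIso ((_root_.DTen.leg₃L φ ψ).app ((_root_.DTen.QMix₃ A B C).obj X₀) ≫ (_root_.DTen.εMix₃ φ ψ).app X₀) := by
    rw [_root_.DTen.leg₃L_fac]; infer_instance
  haveI : IsIso ((_root_.DTen.leg₃R φ ψ).app ((_root_.DTen.QMix₃ A B C).obj X₀) ≫ (_root_.DTen.εMix₃ φ ψ).app X₀) := by
    rw [_root_.DTen.leg₃R_fac]; infer_instance
  haveI := IsIso.of_isIso_comp_right ((_root_.DTen.leg₃L φ ψ).app ((_root_.DTen.QMix₃ A B C).obj X₀))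
    ((_root_.DTen.εMix₃ φ ψ).app X₀)
  haveI := IsIso.of_isIso_comp_right ((_root_.DTen.leg₃R φ ψ).app ((_root_.DTen.QMix₃ A B C).obj X₀))
    ((_root_.DTen.εMix₃ φ ψ).app X₀)
  exact ⟨isIso_app_of_iso _ e, isIso_app_of_iso _ e⟩

end Groth.L10.DTen
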